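import Cfsg.Agent.H140.OreO.PolyB
import Cfsg.Agent.H140.OreO.BaseT
import Cfsg.Agent.Lib.Zsigmondy
import Mathlib.RingTheory.Norm.Transitivity
import Cfsg.Agent.Prune
set_option linter.all false
prune_inst 0x7f00000000000000000000000000000000000000000000000000000000000000000000000000000000000000000000000000000000000000000000000000000000000000000000000000000000000000003ffffffffcffffffffffffffffffbeffbdffffffff
open scoped Cfsg.Agent.FastGrp

/-!
# S2465, orthogonal groups: minimal polynomials of elements of given order (helper126)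
-/

set_option autoImplicit false
set_option linter.unusedSectionVars false

namespace Cfsg.Agent.H126.PwO

open Matrix Polynomial Cfsg.Agent.H140.OreO

variable {F : Type*} [Field F]

/-- elements of given order -/
theorem exists_root (F : Type*) [Field F] [Finite F] {s d : ℕ} (hd : 1 ≤ d) (hs : s ∣ Nat.card F ^ d - 1)
    (hmin : ∀ k, 0 < k → k < d → ¬ s ∣ Nat.card F ^ k - 1) :
    ∃ (K : Type) (_ : Field K) (_ : Algebra F K) (_ : Finite K) (z : K), orderOf z = s ∧
      (minpoly F z).natDegree = d ∧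
      algebraMap F K ((-1) ^ d * (minpoly F z).coeff 0) = z ^ ((Nat.card F ^ d - 1) / (Nat.card F - 1)) := by
  classical
  obtain ⟨K, _, _, _, _, hK, hcard⟩ := exists_gen F d (by omega)
  have hq : 2 ≤ Nat.card F := Finite.one_lt_card
  have hpos : 0 < Nat.card F ^ d - 1 := by
    have : 2 ^ 1 ≤ Nat.card F ^ d := (Nat.pow_le_pow_left hq 1).trans (Nat.pow_le_pow_right (by omega) hd)
    omega
  obtain ⟨u, hu⟩ := IsCyclic.exists_ofOrder_eq_natCard (α := Kˣ)
  rw [Nat.card_units, hcard] at hu
  obtain ⟨t, ht⟩ := hs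
  have ht0 : t ≠ 0 := by rintro rfl; rw [mul_zero] at ht; omega
  have hs0 : s ≠ 0 := by rintro rfl; rw [zero_mul] at ht; omega
  have hz : orderOf (u ^ t) = s := by
    rw [orderOf_pow_of_dvd ht0 (by rw [hu, ht]; exact dvd_mul_left _ _), hu, ht,
      Nat.mul_div_cancel _ (by omega)]
  have hint : IsIntegral F ((u ^ t : Kˣ) : K) := Algebra.IsIntegral.isIntegral _
  have hdeg : (minpoly F ((u ^ t : Kˣ) : K)).natDegree = d := by
    have h1 : (minpoly F ((u ^ t : Kˣ) : K)).natDegree ≤ d := by
      rw [← hK]; exact minpoly.natDegree_le _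
    have h2 : 0 < (minpoly F ((u ^ t : Kˣ) : K)).natDegree := minpoly.natDegree_pos hint
    by_contra hne
    apply hmin _ h2 (by omega)
    have h3 : Module.finrank F (IntermediateField.adjoin F {((u ^ t : Kˣ) : K)}) =
        (minpoly F ((u ^ t : Kˣ) : K)).natDegree := IntermediateField.adjoin.finrank hint
    have h4 : Nat.card (IntermediateField.adjoin F {((u ^ t : Kˣ) : K)}) =
        Nat.card F ^ (minpoly F ((u ^ t : Kˣ) : K)).natDegree := by
      rw [← h3]; exact Module.natCard_eq_pow_finrank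
    have : Fintype (IntermediateField.adjoin F {((u ^ t : Kˣ) : K)}) := Fintype.ofFinite _
    have h5 := FiniteField.pow_card_sub_one_eq_one
      (⟨((u ^ t : Kˣ) : K), IntermediateField.mem_adjoin_simple_self F _⟩ :
        IntermediateField.adjoin F {((u ^ t : Kˣ) : K)})
      (by
        intro h0
        exact (u ^ t).ne_zero (congrArg Subtype.val h0))
    rw [← Nat.card_eq_fintype_card, h4] at h5
    have h6 := congrArg Subtype.val h5
    have h7 : (u ^ t) ^ (Nat.card F ^ (minpoly F ((u ^ t : Kˣ) : K)).natDegree - 1) = 1 :=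
      Units.ext (by rw [Units.val_pow_eq_pow_val]; exact h6)
    rw [← hz]
    exact orderOf_dvd_of_pow_eq_one h7
  refine ⟨K, inferInstance, inferInstance, inferInstance, ((u ^ t : Kˣ) : K), ?_, hdeg, ?_⟩
  · rw [orderOf_units, hz]
  · rw [← hcard, ← FiniteField.algebraMap_norm_eq_pow]
    congr 1
    rw [Algebra.norm_eq_norm_adjoin]
    have h1 : Module.finrank (IntermediateField.adjoin F {((u ^ t : Kˣ) : K)}) K = 1 := by
      have h3 : Module.finrank F (IntermediateField.adjoin F {((u ^ t : Kˣ) : K)}) =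
        (minpoly F ((u ^ t : Kˣ) : K)).natDegree := IntermediateField.adjoin.finrank hint
      have h4 := Module.finrank_mul_finrank F (IntermediateField.adjoin F {((u ^ t : Kˣ) : K)}) K
      rw [h3, hdeg, hK] at h4
      exact Nat.eq_of_mul_eq_mul_left (show 0 < d by omega) (by rw [h4, mul_one])
    rw [h1, pow_one]
    have h2 := Algebra.PowerBasis.norm_gen_eq_coeff_zero_minpoly (IntermediateField.adjoin.powerBasis hint)
    rw [IntermediateField.adjoin.powerBasis_gen, IntermediateField.minpoly_gen,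
      IntermediateField.adjoin.powerBasis_dim, hdeg] at h2
    exact h2.symm

/-- a polynomial with a root of order `s` -/
structure Pol (F : Type*) [Field F] (d s : ℕ) (f : F[X]) : Prop where
  monic : f.Monic
  irr : Irreducible f
  deg : f.natDegree = d
  dvd : ∀ k, f ∣ X ^ k - 1 ↔ s ∣ k
  cop : (∀ i < d, ¬ s ∣ Nat.card F ^ i + 1) → IsCoprime f f.reverse
  coef : ∀ k, ((-1) ^ d * f.coeff 0) ^ k = 1 ↔ s ∣ ((Nat.card F ^ d - 1) / (Nat.card F - 1)) * k

theorem exists_pol (F : Type*) [Field F] [Finite F] {s d : ℕ} (hd : 1 ≤ d) (hs : s ∣ Nat.card F ^ d - 1)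
    (hmin : ∀ k, 0 < k → k < d → ¬ s ∣ Nat.card F ^ k - 1) : ∃ f : F[X], Pol F d s f := by
  classical
  obtain ⟨K, _, _, _, z, hz, hdeg, hnorm⟩ := exists_root F hd hs hmin
  have hint : IsIntegral F z := Algebra.IsIntegral.isIntegral _
  have hq : 2 ≤ Nat.card F := Finite.one_lt_card
  have hpos : 0 < Nat.card F ^ d - 1 := by
    have : 2 ^ 1 ≤ Nat.card F ^ d := (Nat.pow_le_pow_left hq 1).trans (Nat.pow_le_pow_right (by omega) hd)
    omega
  have hs0 : s ≠ 0 := by
    rintro rfl
    rw [zero_dvd_iff] at hs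
    omega
  have hz0 : z ≠ 0 := by
    rintro rfl
    rw [orderOf_eq_zero_iff'.2] at hz
    · exact hs0 hz.symm
    · intro k hk
      rw [zero_pow hk.ne']
      exact zero_ne_one
  refine ⟨minpoly F z, minpoly.monic hint, minpoly.irreducible hint, hdeg, fun k => ?_, fun h => ?_, fun k => ?_⟩
  · rw [← hz, orderOf_dvd_iff_pow_eq_one, minpoly.dvd_iff, map_sub, map_pow, aeval_X, map_one, sub_eq_zero]
  · refine isCoprime_of_root (minpoly.irreducible hint) (minpoly.aeval F z) (aeval_reverse_ne hz0 ?_)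
    intro h0
    have : Fintype F := Fintype.ofFinite F
    have hconj : IsConjRoot F z z⁻¹ :=
      minpoly.eq_of_irreducible_of_monic (minpoly.irreducible hint) h0 (minpoly.monic hint)
    rw [isConjRoot_iff_exists_algEquiv] at hconj
    obtain ⟨σ, hσ⟩ := hconj
    obtain ⟨i, hi⟩ := (FiniteField.bijective_frobeniusAlgEquivOfAlgebraic_pow F K).2 σ⁻¹
    have h1 : σ⁻¹ z = z⁻¹ := by
      have h2 : σ⁻¹ (σ z⁻¹) = z⁻¹ := σ.symm_apply_apply _
      rwa [hσ] at h2
    have h3 : ∀ (k : ℕ) (x : K), (FiniteField.frobeniusAlgEquivOfAlgebraic F K ^ k) x =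
        x ^ (Fintype.card F ^ k) := by
      intro k
      induction k with
      | zero => intro x; rw [pow_zero, pow_zero, pow_one]; rfl
      | succ k ih =>
        intro x
        rw [pow_succ, AlgEquiv.mul_apply, ih, FiniteField.frobeniusAlgEquivOfAlgebraic_apply, ← pow_mul, pow_succ,
          mul_comm]
    simp only at hi
    rw [← hi, h3, ← Nat.card_eq_fintype_card] at h1
    have hKd : Module.finrank F K = Module.finrank F K := rfl
    -- reduce the exponent modulo `d`
    have h4 : z ^ (Nat.card F ^ (i : ℕ) + 1) = 1 := by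
      rw [pow_succ, h1, inv_mul_cancel₀ hz0]
    have h5 := orderOf_dvd_of_pow_eq_one h4
    rw [hz] at h5
    have h6 : ∀ t, s ∣ Nat.card F ^ (d * t) - 1 := by
      intro t
      refine hs.trans ?_
      have := Nat.sub_dvd_pow_sub_pow (Nat.card F ^ d) 1 t
      rwa [one_pow, ← pow_mul] at this
    have h7 : s ∣ Nat.card F ^ ((i : ℕ) % d) + 1 := by
      have h8 : Nat.card F ^ (i : ℕ) + 1 = (Nat.card F ^ ((i : ℕ) % d) + 1) +
          Nat.card F ^ ((i : ℕ) % d) * (Nat.card F ^ (d * ((i : ℕ) / d)) - 1) := by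
        have h9 : Nat.card F ^ (i : ℕ) = Nat.card F ^ ((i : ℕ) % d) * Nat.card F ^ (d * ((i : ℕ) / d)) := by
          rw [← pow_add, Nat.mod_add_div]
        have h10 : 1 ≤ Nat.card F ^ (d * ((i : ℕ) / d)) := Nat.one_le_pow _ _ (by omega)
        rw [h9, Nat.mul_sub, mul_one]
        have h11 : Nat.card F ^ ((i : ℕ) % d) ≤ Nat.card F ^ ((i : ℕ) % d) * Nat.card F ^ (d * ((i : ℕ) / d)) :=
          Nat.le_mul_of_pos_right _ h10
        omega
      rw [h8] at h5
      exact (Nat.dvd_add_left ((h6 _).mul_left _)).1 h5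
    exact h _ (Nat.mod_lt _ (by omega)) h7
  · rw [← hz, orderOf_dvd_iff_pow_eq_one, pow_mul, ← hnorm, ← map_pow, map_eq_one_iff _ (algebraMap F K).injective]

end Cfsg.Agent.H126.PwO
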