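import Mathlib.LinearAlgebra.Charpoly.Basic
import Mathlib.LinearAlgebra.Charpoly.ToMatrix
import Mathlib.LinearAlgebra.FiniteDimensional.Lemmas
import Mathlib.LinearAlgebra.Dimension.Constructions
import Mathlib.LinearAlgebra.Matrix.ToLin
import Mathlib.LinearAlgebra.Matrix.Charpoly.Coeff
import Mathlib.LinearAlgebra.Matrix.Determinant.Basic
import Mathlib.LinearAlgebra.Center
import Mathlib.LinearAlgebra.Matrix.NonsingularInverse
import Mathlib.LinearAlgebra.Matrix.Basis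
import Cfsg.Agent.Lib.Zsigmondy
import Mathlib.LinearAlgebra.Matrix.SpecialLinearGroup
import Mathlib.LinearAlgebra.Matrix.ProjectiveSpecialLinearGroup
import Mathlib.RingTheory.Polynomial.Cyclotomic.Factorization
import Mathlib.FieldTheory.IsAlgClosed.AlgebraicClosure
import Cfsg.Agent.H140.OreO.BaseT
import Cfsg.Agent.H434.CornMain
import Cfsg.Agent.H643.PwCnt
import Mathlib.LinearAlgebra.Eigenspace.Zero
import Cfsg.Agent.H126.PwO.Fld
import Cfsg.Agent.H85.Ore.Phi_mg_m3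
import Cfsg.Agent.H934.MF.Diag
import Cfsg.Agent.H194.Ore.RowThree_m3
import Cfsg.Agent.FastGrp
import Cfsg.Agent.Prune
set_option linter.all false

section
prune_inst 0x7fffadf9bbb8ebffff7f7e7da69dcdfdfbbb3fffa4dffd4b7fe061ff2bdf2b0ac9c563ad09e310fe1ed6c01410e87b03f97eeeffe26bd87ffffd1ff41ffbffdfedf7b508519488340f380ff683f0778e7f3fffffffffffffffffffffffffffaeffbfffffffff

-- part: H962/PP/Main
section
prune_inst 0x5004040710000000018001422200040000000020003080030e001020d4d106289c10620ca500c10128014c0480400000010008000600000040004000002010000800000b04803084a0096000000000000000000000000000000000000041000000000000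
set_option linter.all false
open scoped Cfsg.Agent.FastGrp

-- part: H962/PP/Pole
section
/-!
# Pole placement

If no nonzero `S`-invariant subspace lies in the kernel of the functional `φ`, then any monic
polynomial of the right degree is the characteristic polynomial of `S + ζ ⊗ φ` for some `ζ`.
-/

namespace Cfsg.Agent.H962.PP

open Polynomial Module

variable {F : Type*} [Field F] {M : Type*} [AddCommGroup M] [Module F M] [FiniteDimensional F M]

omit [FiniteDimensional F M] in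
/-- The vectors `m, Sm, …` are independent as long as none of them lies in the span of the
previous ones. -/
theorem indep_of_forall {S : M →ₗ[F] M} {m : M} {N : ℕ}
    (h : ∀ k < N, (S ^ k) m ∉ Submodule.span F (Set.range fun i : Fin k => (S ^ (i : ℕ)) m)) :
    ∀ k ≤ N, LinearIndependent F (fun i : Fin k => (S ^ (i : ℕ)) m) := by
  intro k
  induction k with
  | zero => intro _; exact linearIndependent_empty_type
  | succ k ih =>
    intro hk
    rw [linearIndependent_finSucc']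
    refine ⟨ih (by omega), ?_⟩
    have := h k (by omega)
    simpa [Fin.init_def] using this

/-- **Pole placement.** -/
theorem pole (S : M →ₗ[F] M) (φ : M →ₗ[F] F)
    (hobs : ∀ U : Submodule F M, U ≤ LinearMap.ker φ → U.map S ≤ U → U = ⊥)
    {p : F[X]} (hp : p.Monic) (hdeg : p.natDegree = finrank F M) :
    ∃ ζ : M, (S + φ.smulRight ζ).charpoly = p ∧
      ∃ m : M, LinearIndependent F
        (fun i : Fin (finrank F M) => ((S + φ.smulRight ζ) ^ (i : ℕ)) m) := by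
  obtain ⟨N, hN⟩ : ∃ N, finrank F M = N := ⟨_, rfl⟩
  rw [hN] at hdeg ⊢
  rcases Nat.eq_zero_or_pos N with rfl | hpos
  · refine ⟨0, ?_, 0, linearIndependent_empty_type⟩
    rw [hp.natDegree_eq_zero.mp hdeg]
    refine ((S + φ.smulRight 0).charpoly_monic.natDegree_eq_zero).mp ?_
    rw [LinearMap.charpoly_natDegree, hN]
  obtain ⟨n, rfl⟩ : ∃ n, N = n + 1 := ⟨N - 1, by omega⟩
  -- the vector `m`
  let Φ : M →ₗ[F] (Fin n → F) := LinearMap.pi fun i => φ ∘ₗ (S ^ (i : ℕ))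
  have hker : LinearMap.ker Φ ≠ ⊥ := LinearMap.ker_ne_bot_of_finrank_lt (by simp only [hN, _root_.Module.finrank_fintype_fun_eq_card, _root_.Fintype.card_fin, _root_.lt_add_iff_pos_right, _root_.Order.lt_one_iff])
  obtain ⟨m, hmker, hm0⟩ := (Submodule.ne_bot_iff _).mp hker
  have hφ : ∀ i < n, φ ((S ^ i) m) = 0 := by
    intro i hi
    have := congrFun (LinearMap.mem_ker.mp hmker) ⟨i, hi⟩
    simpa only [Φ, _root_.LinearMap.pi_apply, _root_.LinearMap.coe_comp, _root_.Function.comp_apply, _root_.Pi.zero_apply] using this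
  have hnot : ∀ k < n + 1,
      (S ^ k) m ∉ Submodule.span F (Set.range fun i : Fin k => (S ^ (i : ℕ)) m) := by
    intro k hk hin
    rcases Nat.eq_zero_or_pos k with rfl | hk0
    · simp at hin; exact hm0 hin
    have hbot : Submodule.span F (Set.range fun i : Fin k => (S ^ (i : ℕ)) m) = ⊥ := by
      apply hobs
      · rw [Submodule.span_le]
        rintro _ ⟨i, rfl⟩
        exact hφ i (by have := i.2; omega)
      · rw [Submodule.map_span, Submodule.span_le]
        rintro _ ⟨_, ⟨i, rfl⟩, rfl⟩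
        have he : S ((S ^ (i : ℕ)) m) = (S ^ ((i : ℕ) + 1)) m := by
          rw [pow_succ', Module.End.mul_apply]
        change S ((S ^ (i : ℕ)) m) ∈ _
        rw [he]
        rcases Nat.lt_or_ge ((i : ℕ) + 1) k with h1 | h1
        · exact Submodule.subset_span ⟨⟨(i : ℕ) + 1, h1⟩, rfl⟩
        · have : (i : ℕ) + 1 = k := by have := i.2; omega
          rw [this]; exact hin
    have : m ∈ Submodule.span F (Set.range fun i : Fin k => (S ^ (i : ℕ)) m) :=
      Submodule.subset_span ⟨⟨0, hk0⟩, by simp⟩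
    rw [hbot, Submodule.mem_bot] at this
    exact hm0 this
  have hli := indep_of_forall hnot (n + 1) le_rfl
  have hφn : φ ((S ^ n) m) ≠ 0 := by
    intro h0
    have hspan := hli.span_eq_top_of_card_eq_finrank' (by simp [hN])
    have htop : (⊤ : Submodule F M) ≤ LinearMap.ker φ := by
      rw [← hspan, Submodule.span_le]
      rintro _ ⟨i, rfl⟩
      rcases Nat.lt_or_ge (i : ℕ) n with h1 | h1
      · exact hφ i h1
      · have : (i : ℕ) = n := by have := i.2; omega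
        change φ ((S ^ (i : ℕ)) m) = 0
        rw [this]; exact h0
    have hb := hobs ⊤ htop le_top
    have : m ∈ (⊤ : Submodule F M) := trivial
    rw [hb, Submodule.mem_bot] at this
    exact hm0 this
  refine ⟨-((φ ((S ^ n) m))⁻¹ • (aeval S p m)), ?_⟩
  obtain ⟨ζ, hζ⟩ : ∃ ζ, ζ = -((φ ((S ^ n) m))⁻¹ • (aeval S p m)) := ⟨_, rfl⟩
  rw [← hζ]
  obtain ⟨S', hS'⟩ : ∃ S', S' = S + φ.smulRight ζ := ⟨_, rfl⟩
  rw [← hS']
  have hS'v : ∀ v, S' v = S v + φ v • ζ := by intro v; rw [hS']; simp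
  have hpow : ∀ i ≤ n, (S' ^ i) m = (S ^ i) m := by
    intro i
    induction i with
    | zero => intro _; simp
    | succ i ih =>
      intro hi
      rw [pow_succ', Module.End.mul_apply, ih (by omega), hS'v, hφ i (by omega), zero_smul,
        add_zero, pow_succ', Module.End.mul_apply]
  have hpown : (S' ^ (n + 1)) m = (S ^ (n + 1)) m - aeval S p m := by
    rw [pow_succ', Module.End.mul_apply, hpow n le_rfl, hS'v, hζ, smul_neg, smul_smul,
      mul_inv_cancel₀ hφn, one_smul, pow_succ', Module.End.mul_apply, sub_eq_add_neg]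
  have hpm : aeval S' p m = 0 := by
    have h1 : aeval S' p m = ∑ i ∈ Finset.range (n + 1), p.coeff i • (S' ^ i) m
        + (S' ^ (n + 1)) m := by
      rw [aeval_eq_sum_range' (n := n + 2) (by omega), Finset.sum_range_succ,
        ← hdeg, coeff_natDegree, hp.leadingCoeff]
      simp only [_root_.one_smul, _root_.LinearMap.add_apply, _root_.LinearMap.coe_sum, _root_.LinearMap.coe_smul, _root_.Finset.sum_apply, _root_.Pi.smul_apply]
    have h2 : aeval S p m = ∑ i ∈ Finset.range (n + 1), p.coeff i • (S ^ i) m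
        + (S ^ (n + 1)) m := by
      rw [aeval_eq_sum_range' (n := n + 2) (by omega), Finset.sum_range_succ,
        ← hdeg, coeff_natDegree, hp.leadingCoeff]
      simp only [_root_.one_smul, _root_.LinearMap.add_apply, _root_.LinearMap.coe_sum, _root_.LinearMap.coe_smul, _root_.Finset.sum_apply, _root_.Pi.smul_apply]
    have h3 : ∑ i ∈ Finset.range (n + 1), p.coeff i • (S' ^ i) m
        = ∑ i ∈ Finset.range (n + 1), p.coeff i • (S ^ i) m :=
      Finset.sum_congr rfl fun i hi => by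
        rw [hpow i (by have := Finset.mem_range.mp hi; omega)]
    rw [h1, h3, hpown, h2]
    abel
  have hli' : LinearIndependent F (fun i : Fin (n + 1) => (S' ^ (i : ℕ)) m) := by
    convert hli using 2 with i
    exact hpow i (by have := i.2; omega)
  refine ⟨?_, m, hli'⟩
  -- the difference has small degree and kills `m`
  have hdc : S'.charpoly.natDegree = n + 1 := by rw [LinearMap.charpoly_natDegree, hN]
  have hlt : (S'.charpoly - p).degree < (n + 1 : ℕ) := by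
    have hdd : S'.charpoly.degree = p.degree := by
      rw [degree_eq_natDegree S'.charpoly_monic.ne_zero, degree_eq_natDegree hp.ne_zero, hdc, hdeg]
    have := degree_sub_lt_left hdd S'.charpoly_monic.ne_zero
      (by rw [hp.leadingCoeff, S'.charpoly_monic.leadingCoeff])
    rwa [degree_eq_natDegree S'.charpoly_monic.ne_zero, hdc] at this
  have hkill : aeval S' (S'.charpoly - p) m = 0 := by
    rw [map_sub, LinearMap.aeval_self_charpoly, LinearMap.sub_apply, hpm]; simp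
  by_contra hne
  have hne' : S'.charpoly - p ≠ 0 := sub_ne_zero.mpr hne
  have hnat : (S'.charpoly - p).natDegree < n + 1 := by
    rw [degree_eq_natDegree hne'] at hlt; exact_mod_cast hlt
  rw [aeval_eq_sum_range' hnat] at hkill
  have hkill' : ∑ i : Fin (n + 1), (S'.charpoly - p).coeff (i : ℕ) • (S' ^ (i : ℕ)) m = 0 := by
    rw [← hkill, LinearMap.sum_apply, Fin.sum_univ_eq_sum_range
      (fun i => (S'.charpoly - p).coeff i • (S' ^ i) m) (n + 1)]
    rfl
  have hall := Fintype.linearIndependent_iff.mp hli' _ hkill'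
  apply hne'
  ext i
  rw [coeff_zero]
  rcases Nat.lt_or_ge i (n + 1) with h1 | h1
  · exact hall ⟨i, h1⟩
  · exact coeff_eq_zero_of_natDegree_lt (by omega)

end Cfsg.Agent.H962.PP
end

-- part: H962/PP/Tri
section
/-!
# The map `T` attached to a lower Hessenberg matrix `P`

`P` is a square matrix with `P i j = 0` for `j > i + 1`, injective on `K = {v | v 0 = 0}`.
We construct an invertible `T` such that neither `T` leaves a nonzero subspace of `K` invariant,
nor `P` maps a nonzero subspace `U` of `K` into `T U`.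
-/

set_option autoImplicit false

namespace Cfsg.Agent.H962.PP

open Module Matrix

variable {F : Type*} [Field F]

section aux
variable {M : Type*} [AddCommGroup M] [Module F M] [FiniteDimensional F M]

omit [FiniteDimensional F M] in
theorem finrank_map_of_inj (g : M →ₗ[F] M) (U : Submodule F M) (h : ∀ u ∈ U, g u = 0 → u = 0) :
    finrank F (U.map g) = finrank F U := by
  rw [← LinearMap.range_domRestrict]
  apply LinearMap.finrank_range_of_inj
  rw [← LinearMap.ker_eq_bot, LinearMap.ker_eq_bot']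
  intro u hu
  exact Subtype.ext (h u.1 u.2 hu)

theorem map_eq_of_le (g h : M →ₗ[F] M) (U : Submodule F M) (hg : ∀ u ∈ U, g u = 0 → u = 0)
    (hle : U.map g ≤ U.map h) : U.map g = U.map h := by
  apply Submodule.eq_of_le_of_finrank_le hle
  rw [finrank_map_of_inj g U hg]
  exact Submodule.finrank_map_le h U

end aux

variable {k : ℕ}

/-- lower Hessenberg -/
def LH {N : ℕ} (P : Matrix (Fin N) (Fin N) F) : Prop := ∀ i j : Fin N, (i : ℕ) + 1 < j → P i j = 0

/-- If `v` vanishes below `j`, the coordinate `i` of `P v`, `i + 1 = j`, is `P i j * v j`. -/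
theorem LH.apply {N : ℕ} {P : Matrix (Fin N) (Fin N) F} (hP : LH P) {i j : Fin N} (hij : (i : ℕ) + 1 = j)
    {v : Fin N → F} (hv : ∀ l : Fin N, l < j → v l = 0) : (P *ᵥ v) i = P i j * v j := by
  rw [Matrix.mulVec, dotProduct, Finset.sum_eq_single j]
  · intro l _ hl
    rcases lt_or_gt_of_ne hl with h | h
    · rw [hv l h, mul_zero]
    · rw [hP i l (by have : (j : ℕ) < l := h; omega), zero_mul]
  · intro h; exact absurd (Finset.mem_univ _) h

open scoped Classical in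
/-- the shift-like map `E` -/
noncomputable def shE (P : Matrix (Fin (k + 1)) (Fin (k + 1)) F) : (Fin (k + 1) → F) →ₗ[F] (Fin (k + 1) → F) where
  toFun v i := if h : (i : ℕ) + 1 < k + 1 then
    (if P i ⟨(i : ℕ) + 1, h⟩ = 0 then v ⟨(i : ℕ) + 1, h⟩ else 0) else 0
  map_add' v w := by
    ext i; simp only [Pi.add_apply]; split_ifs <;> simp
  map_smul' c v := by
    ext i; simp only [Pi.smul_apply, RingHom.id_apply]; split_ifs <;> simp

open scoped Classical in
theorem shE_apply (P : Matrix (Fin (k + 1)) (Fin (k + 1)) F) {i j : Fin (k + 1)}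
    (hij : (i : ℕ) + 1 = j) (v : Fin (k + 1) → F) :
    shE P v i = if P i j = 0 then v j else 0 := by
  have hlt : (i : ℕ) + 1 < k + 1 := by have := j.2; omega
  have hj : (⟨(i : ℕ) + 1, hlt⟩ : Fin (k + 1)) = j := Fin.ext hij
  change (if h : (i : ℕ) + 1 < k + 1 then _ else _) = _
  rw [dif_pos hlt, hj]

theorem shE_last (P : Matrix (Fin (k + 1)) (Fin (k + 1)) F) {i : Fin (k + 1)}
    (hi : (i : ℕ) = k) (v : Fin (k + 1) → F) : shE P v i = 0 := by
  change (if h : (i : ℕ) + 1 < k + 1 then _ else _) = _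
  rw [dif_neg (by omega)]

/-- kill the zeroth coordinate -/
def kap : (Fin (k + 1) → F) →ₗ[F] (Fin (k + 1) → F) where
  toFun v := Function.update v 0 0
  map_add' v w := by
    ext i; by_cases h : i = 0 <;> simp [h]
  map_smul' c v := by
    ext i; by_cases h : i = 0 <;> simp [h]

theorem kap_zero (v : Fin (k + 1) → F) : kap v 0 = 0 := by simp [kap]

theorem kap_ne (v : Fin (k + 1) → F) {i : Fin (k + 1)} (hi : i ≠ 0) : kap v i = v i := by
  simp [kap, hi]

theorem kap_eq {v : Fin (k + 1) → F} (hv : v 0 = 0) : kap v = v := by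
  ext i
  by_cases h : i = 0
  · rw [h, kap_zero, hv]
  · exact kap_ne v h

/-- `N = T - P` on `K` -/
noncomputable def nN (P : Matrix (Fin (k + 1)) (Fin (k + 1)) F) : (Fin (k + 1) → F) →ₗ[F] (Fin (k + 1) → F) :=
  shE P - LinearMap.id

theorem nN_apply (P : Matrix (Fin (k + 1)) (Fin (k + 1)) F) (v : Fin (k + 1) → F)
    (i : Fin (k + 1)) : nN P v i = shE P v i - v i := rfl

/-- the map `T` -/
noncomputable def tT (P : Matrix (Fin (k + 1)) (Fin (k + 1)) F) : (Fin (k + 1) → F) →ₗ[F] (Fin (k + 1) → F) :=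
  (P.mulVecLin + nN P) ∘ₗ kap + (LinearMap.proj 0).smulRight (Pi.single (Fin.last k) 1)

theorem tT_apply (P : Matrix (Fin (k + 1)) (Fin (k + 1)) F) {v : Fin (k + 1) → F} (hv : v 0 = 0) :
    tT P v = P *ᵥ v + nN P v := by
  simp [tT, kap_eq hv, hv]

theorem tT_apply' (P : Matrix (Fin (k + 1)) (Fin (k + 1)) F) (v : Fin (k + 1) → F) :
    tT P v = (P *ᵥ kap v + nN P (kap v)) + v 0 • Pi.single (Fin.last k) 1 := by
  simp [tT]

/-- the least nonzero coordinate -/
theorem exists_least {v : Fin (k + 1) → F} (hv : v ≠ 0) :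
    ∃ j, v j ≠ 0 ∧ ∀ l < j, v l = 0 := by
  classical
  have hne : (Finset.univ.filter fun j => v j ≠ 0).Nonempty := by
    by_contra h
    rw [Finset.not_nonempty_iff_eq_empty] at h
    apply hv
    ext j
    by_contra hj
    have : j ∈ Finset.univ.filter fun j => v j ≠ 0 := by simpa using hj
    rw [h] at this
    simp at this
  refine ⟨(Finset.univ.filter fun j => v j ≠ 0).min' hne, ?_, ?_⟩
  · have := Finset.min'_mem _ hne
    simpa using this
  · intro l hl
    by_contra h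
    have hmem : l ∈ Finset.univ.filter fun j => v j ≠ 0 := by simpa using h
    exact absurd (Finset.min'_le _ l hmem) (not_le.mpr hl)

/-- the least coordinate on which a nonzero subspace is nonzero -/
theorem exists_least_sub {U : Submodule F (Fin (k + 1) → F)} (hU : U ≠ ⊥) :
    ∃ j, (∃ u ∈ U, u j ≠ 0) ∧ ∀ l < j, ∀ u ∈ U, u l = 0 := by
  classical
  obtain ⟨u0, hu0, hne0⟩ := (Submodule.ne_bot_iff _).mp hU
  obtain ⟨j0, hj0, -⟩ := exists_least hne0
  have hne : (Finset.univ.filter fun j : Fin (k + 1) => ∃ u ∈ U, u j ≠ 0).Nonempty :=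
    ⟨j0, by simpa only [_root_.ne_eq, _root_.Finset.mem_filter, _root_.Finset.mem_univ, _root_.true_and] using ⟨u0, hu0, hj0⟩⟩
  refine ⟨(Finset.univ.filter fun j : Fin (k + 1) => ∃ u ∈ U, u j ≠ 0).min' hne, ?_, ?_⟩
  · have := Finset.min'_mem _ hne
    simpa only [_root_.ne_eq, _root_.Finset.mem_filter, _root_.Finset.mem_univ, _root_.true_and] using this
  · intro l hl u hu
    by_contra h
    have hmem : l ∈ Finset.univ.filter fun j : Fin (k + 1) => ∃ u ∈ U, u j ≠ 0 := by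
      simpa only [_root_.ne_eq, _root_.Finset.mem_filter, _root_.Finset.mem_univ, _root_.true_and] using ⟨u, hu, h⟩
    exact absurd (Finset.min'_le _ l hmem) (not_le.mpr hl)

variable {P : Matrix (Fin (k + 1)) (Fin (k + 1)) F}

/-- the coordinate just before the least nonzero one -/
theorem tT_pred (hP : LH P) {v : Fin (k + 1) → F} (hv : v 0 = 0) {i j : Fin (k + 1)}
    (hij : (i : ℕ) + 1 = j) (hj : v j ≠ 0) (hl : ∀ l < j, v l = 0) : tT P v i ≠ 0 := by
  have hil : i < j := by rw [Fin.lt_def]; omega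
  rw [tT_apply P hv, Pi.add_apply, hP.apply hij hl, nN_apply, shE_apply P hij, hl i hil, sub_zero]
  by_cases h : P i j = 0
  · simpa [h] using hj
  · simpa [h] using hj

theorem exists_pred {j : Fin (k + 1)} (hj : j ≠ 0) : ∃ i : Fin (k + 1), (i : ℕ) + 1 = j := by
  have : (j : ℕ) ≠ 0 := fun h => hj (Fin.ext h)
  exact ⟨⟨(j : ℕ) - 1, by have := j.2; omega⟩, by simp only; omega⟩

theorem tT_inj (hP : LH P) : Function.Injective (tT P) := by
  rw [← LinearMap.ker_eq_bot, LinearMap.ker_eq_bot']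
  intro v hv
  have hk : kap v = 0 := by
    by_contra hne
    obtain ⟨j, hj, hl⟩ := exists_least hne
    have hj0 : j ≠ 0 := by rintro rfl; exact hj (kap_zero v)
    obtain ⟨i, hij⟩ := exists_pred hj0
    have h1 := tT_pred hP (kap_zero v) hij hj hl
    apply h1
    have h2 := congrFun hv i
    rw [tT_apply'] at h2
    rw [tT_apply P (kap_zero v)]
    have h3 : i ≠ Fin.last k := by
      intro h; rw [h] at hij; have := j.2; rw [Fin.val_last] at hij; omega
    rw [Pi.add_apply, Pi.smul_apply, Pi.single_eq_of_ne h3, smul_zero, add_zero] at h2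
    exact h2
  have h1 : v 0 = 0 := by
    have h2 := congrFun hv (Fin.last k)
    rw [tT_apply', hk, mulVec_zero, map_zero, add_zero, zero_add] at h2
    simpa using h2
  rw [← kap_eq h1, hk]

/-- (i) `T` has no invariant subspace in `K`. -/
theorem tT_obs (hP : LH P) (U : Submodule F (Fin (k + 1) → F)) (hK : ∀ u ∈ U, u 0 = 0)
    (hU : ∀ u ∈ U, tT P u ∈ U) : U = ⊥ := by
  by_contra hne
  obtain ⟨j, ⟨u, hu, huj⟩, hl⟩ := exists_least_sub hne
  have hj0 : j ≠ 0 := by rintro rfl; exact huj (hK u hu)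
  obtain ⟨i, hij⟩ := exists_pred hj0
  have hil : i < j := by rw [Fin.lt_def]; omega
  exact tT_pred hP (hK u hu) hij huj (fun l hlj => hl l hlj u hu) (hl i hil _ (hU u hu))

theorem nN_inj (v : Fin (k + 1) → F) (hv : nN P v = 0) : v = 0 := by
  by_contra hne
  -- the greatest nonzero coordinate
  classical
  have hS : (Finset.univ.filter fun j => v j ≠ 0).Nonempty := by
    obtain ⟨j, hj, -⟩ := exists_least hne
    exact ⟨j, by simpa using hj⟩
  obtain ⟨j, hj⟩ : ∃ j, j = (Finset.univ.filter fun j => v j ≠ 0).max' hS := ⟨_, rfl⟩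
  have hjv : v j ≠ 0 := by
    have := Finset.max'_mem _ hS
    rw [← hj] at this
    simpa using this
  have hgt : ∀ l, j < l → v l = 0 := by
    intro l hl
    by_contra h
    have hmem : l ∈ Finset.univ.filter fun j => v j ≠ 0 := by simpa using h
    have := Finset.le_max' _ l hmem
    rw [← hj] at this
    exact absurd this (not_le.mpr hl)
  have h1 := congrFun hv j
  rw [nN_apply] at h1
  have h2 : shE P v j = 0 := by
    rcases Nat.lt_or_ge ((j : ℕ) + 1) (k + 1) with h | h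
    · have hjl : (j : ℕ) + 1 = (⟨(j : ℕ) + 1, h⟩ : Fin (k + 1)) := rfl
      have hlt : j < ⟨(j : ℕ) + 1, h⟩ := by rw [Fin.lt_def]; simp
      rw [shE_apply P hjl, hgt _ hlt]
      simp
    · exact shE_last P (by have := j.2; omega) v
  rw [h2, zero_sub, Pi.zero_apply, neg_eq_zero] at h1
  exact hjv h1

/-- (ii) `P` does not map a nonzero subspace `U` of `K` into `T U`. -/
theorem tT_obs' (hP : LH P) (hinj : ∀ v, v 0 = 0 → P *ᵥ v = 0 → v = 0)
    (U : Submodule F (Fin (k + 1) → F)) (hK : ∀ u ∈ U, u 0 = 0)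
    (hU : U.map P.mulVecLin ≤ U.map (tT P)) : U = ⊥ := by
  by_contra hne
  have hPT : U.map P.mulVecLin = U.map (tT P) :=
    map_eq_of_le _ _ U (fun u hu h => hinj u (hK u hu) h) hU
  have hNT : U.map (nN P) = U.map (tT P) := by
    apply map_eq_of_le _ _ U (fun u _ h => nN_inj u h)
    rw [Submodule.map_le_iff_le_comap]
    intro u hu
    have h1 : nN P u = tT P u - P.mulVecLin u := by
      rw [tT_apply P (hK u hu)]; simp
    rw [Submodule.mem_comap, h1]
    exact sub_mem (Submodule.mem_map_of_mem hu) (hU (Submodule.mem_map_of_mem hu))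
  have hPN : U.map P.mulVecLin = U.map (nN P) := hPT.trans hNT.symm
  obtain ⟨j, ⟨u, hu, huj⟩, hl⟩ := exists_least_sub hne
  have hj0 : j ≠ 0 := by rintro rfl; exact huj (hK u hu)
  obtain ⟨i, hij⟩ := exists_pred hj0
  have hil : i < j := by rw [Fin.lt_def]; omega
  have hPi : ∀ w ∈ U, (P *ᵥ w) i = P i j * w j := fun w hw =>
    hP.apply hij (fun l hlj => hl l hlj w hw)
  classical
  have hNi : ∀ w ∈ U, nN P w i = if P i j = 0 then w j else 0 := by
    intro w hw
    rw [nN_apply, shE_apply P hij, hl i hil w hw, sub_zero]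
  by_cases h : P i j = 0
  · have h1 : nN P u ∈ U.map P.mulVecLin := hPN ▸ Submodule.mem_map_of_mem hu
    obtain ⟨w, hw, hwu⟩ := h1
    have h2 := congrFun hwu i
    rw [hNi u hu, if_pos h, Matrix.mulVecLin_apply, hPi w hw, h, zero_mul] at h2
    exact huj h2.symm
  · have h1 : P.mulVecLin u ∈ U.map (nN P) := hPN ▸ Submodule.mem_map_of_mem hu
    obtain ⟨w, hw, hwu⟩ := h1
    have h2 := congrFun hwu i
    rw [hNi w hw, if_neg h, Matrix.mulVecLin_apply, hPi u hu] at h2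
    exact (mul_ne_zero h huj) h2.symm

end Cfsg.Agent.H962.PP
end

-- part: H962/PP/Hess
section
/-!
# Lower Hessenberg matrices as products of two prescribed matrices

`L` invertible lower Hessenberg of size `k + 2` with `L 0 1 ≠ 0`.  For monic `p` of degree `k + 2`
and monic `f` of degree `k + 1` with nonzero constant coefficients, `L = x * y` with
`charpoly x = p`, `charpoly y = (X - c) * f`; both `x` and the lower right corner of `y` are
cyclic.
-/

set_option autoImplicit false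

namespace Cfsg.Agent.H962.PP

open Module Matrix Polynomial

variable {F : Type*} [Field F] {k : ℕ}

/-- the characteristic polynomial of a matrix with first row `(c, 0, …, 0)` -/
theorem charpoly_of_row {n : ℕ} (y : Matrix (Fin (n + 1)) (Fin (n + 1)) F)
    (h : ∀ j : Fin n, y 0 j.succ = 0) :
    y.charpoly = (X - C (y 0 0)) * (y.submatrix Fin.succ Fin.succ).charpoly := by
  rw [Matrix.charpoly, Matrix.det_succ_row_zero, Fin.sum_univ_succ, Finset.sum_eq_zero, add_zero]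
  · have h1 : (y.charmatrix.submatrix Fin.succ (Fin.succAbove 0))
        = (y.submatrix Fin.succ Fin.succ).charmatrix := by
      ext i j
      rw [Fin.succAbove_zero, submatrix_apply]
      by_cases hij : i = j
      · subst hij; rw [charmatrix_apply_eq, charmatrix_apply_eq, submatrix_apply]
      · rw [charmatrix_apply_ne _ _ _ hij, charmatrix_apply_ne _ _ _
          (fun h => hij (Fin.succ_injective _ h)), submatrix_apply]
    rw [h1, charmatrix_apply_eq]
    simp only [Matrix.charpoly, _root_.Nat.succ_eq_add_one, _root_.Fin.coe_ofNat_eq_mod, _root_.Nat.zero_mod, _root_.pow_zero, _root_.one_mul, _root_.Matrix.charpoly]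
  · intro j _
    rw [charmatrix_apply_ne _ _ _ (Fin.succ_ne_zero j).symm, h j]
    simp only [_root_.Nat.succ_eq_add_one, _root_.Fin.val_succ, _root_.map_zero, _root_.neg_zero, _root_.MulZeroClass.mul_zero, _root_.MulZeroClass.zero_mul]

/-- a nonzero constant coefficient of the characteristic polynomial -/
theorem det_ne_zero_iff {n : ℕ} {x : Matrix (Fin n) (Fin n) F} :
    x.det ≠ 0 ↔ x.charpoly.coeff 0 ≠ 0 := by
  rw [Matrix.det_eq_sign_charpoly_coeff]
  have h1 : ((-1 : F)) ^ Fintype.card (Fin n) ≠ 0 := pow_ne_zero _ (by simp)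
  exact ⟨fun h h0 => h (by rw [h0, mul_zero]), fun h => mul_ne_zero h1 h⟩

/-- pole placement, matrices -/
theorem pole' {N : ℕ} (S : (Fin N → F) →ₗ[F] (Fin N → F)) (φ : (Fin N → F) →ₗ[F] F)
    (hobs : ∀ U : Submodule F (Fin N → F), (∀ u ∈ U, φ u = 0) → (∀ u ∈ U, S u ∈ U) → U = ⊥)
    {p : F[X]} (hp : p.Monic) (hdeg : p.natDegree = N) :
    ∃ S' : Matrix (Fin N) (Fin N) F, (∀ v, φ v = 0 → S' *ᵥ v = S v) ∧ S'.charpoly = p ∧
      ∃ m : Fin N → F, LinearIndependent F (fun i : Fin N => (S' ^ (i : ℕ)) *ᵥ m) := by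
  have hfin : finrank F (Fin N → F) = N := by simp only [_root_.Module.finrank_fintype_fun_eq_card, _root_.Fintype.card_fin]
  obtain ⟨ζ, hζ, m, hm⟩ := pole S φ (fun U h1 h2 => hobs U (fun u hu => h1 hu)
    (fun u hu => h2 (Submodule.mem_map_of_mem hu))) hp (by rw [hdeg, hfin])
  rw [hfin] at hm
  refine ⟨LinearMap.toMatrix' (S + φ.smulRight ζ), ?_, ?_, m, ?_⟩
  · intro v hv
    rw [← Matrix.toLin'_apply, Matrix.toLin'_toMatrix', LinearMap.add_apply,
      LinearMap.smulRight_apply, hv, zero_smul, add_zero]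
  · rw [← LinearMap.toMatrix_eq_toMatrix', LinearMap.charpoly_toMatrix, hζ]
  · have h : (fun i : Fin N => ((LinearMap.toMatrix' (S + φ.smulRight ζ)) ^ (i : ℕ)) *ᵥ m)
        = fun i : Fin N => ((S + φ.smulRight ζ) ^ (i : ℕ)) m := by
      funext i
      rw [← Matrix.toLin'_apply, Matrix.toLin'_pow, Matrix.toLin'_toMatrix']
    rw [h]
    exact hm

variable {P : Matrix (Fin (k + 1)) (Fin (k + 1)) F}

/-- **step b** -/
theorem stepB (hP : LH P) (hinj : ∀ v, v 0 = 0 → P *ᵥ v = 0 → v = 0) {f : F[X]} (hf : f.Monic)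
    (hdeg : f.natDegree = k + 1) :
    ∃ B : Matrix (Fin (k + 1)) (Fin (k + 1)) F, (∀ v, v 0 = 0 → B *ᵥ (tT P v) = P *ᵥ v) ∧
      B.charpoly = f ∧
      ∃ m : Fin (k + 1) → F, LinearIndependent F (fun i : Fin (k + 1) => (B ^ (i : ℕ)) *ᵥ m) := by
  let Te : (Fin (k + 1) → F) ≃ₗ[F] (Fin (k + 1) → F) :=
    LinearEquiv.ofInjectiveEndo (tT P) (tT_inj hP)
  have hTe : ∀ v, Te v = tT P v := fun v => rfl
  have hobs : ∀ U : Submodule F (Fin (k + 1) → F),
      (∀ u ∈ U, (LinearMap.proj 0 ∘ₗ Te.symm.toLinearMap : (Fin (k + 1) → F) →ₗ[F] F) u = 0) →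
      (∀ u ∈ U, (P.mulVecLin ∘ₗ Te.symm.toLinearMap) u ∈ U) → U = ⊥ := by
    intro U h1 h2
    have h0 : U.comap (tT P) = ⊥ := by
      apply tT_obs' hP hinj
      · intro u hu
        have h3 := h1 _ hu
        simp only [LinearMap.comp_apply, LinearEquiv.coe_coe, LinearMap.proj_apply] at h3
        rwa [← hTe, LinearEquiv.symm_apply_apply] at h3
      · have hsurj : Function.Surjective (tT P) := Te.surjective
        rw [Submodule.map_comap_eq_of_surjective hsurj]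
        rw [Submodule.map_le_iff_le_comap]
        intro u hu
        have h3 := h2 _ hu
        simp only [LinearMap.comp_apply, LinearEquiv.coe_coe] at h3
        rwa [← hTe, LinearEquiv.symm_apply_apply] at h3
    rw [eq_bot_iff]
    intro u hu
    have h3 : Te.symm u ∈ U.comap (tT P) := by
      rw [Submodule.mem_comap, ← hTe, LinearEquiv.apply_symm_apply]; exact hu
    rw [h0, Submodule.mem_bot] at h3
    rw [Submodule.mem_bot]
    simpa using h3
  obtain ⟨B, hB, hBf, hBm⟩ := pole' (P.mulVecLin ∘ₗ Te.symm.toLinearMap)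
    (LinearMap.proj 0 ∘ₗ Te.symm.toLinearMap) hobs hf hdeg
  refine ⟨B, ?_, hBf, hBm⟩
  intro v hv
  have h1 : Te.symm (tT P v) = v := by rw [← hTe, LinearEquiv.symm_apply_apply]
  rw [hB]
  · simp [h1]
  · simp [h1, hv]

/-- `w ↦ (0, w)` -/
def consL {n : ℕ} : (Fin n → F) →ₗ[F] (Fin (n + 1) → F) where
  toFun w := Fin.cons 0 w
  map_add' v w := by
    ext i; refine Fin.cases ?_ (fun j => ?_) i <;> simp
  map_smul' c v := by
    ext i; refine Fin.cases ?_ (fun j => ?_) i <;> simp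

@[simp] theorem consL_zero {n : ℕ} (w : Fin n → F) : consL w 0 = 0 := rfl
@[simp] theorem consL_succ {n : ℕ} (w : Fin n → F) (i : Fin n) : consL w i.succ = w i := rfl

theorem consL_tail {n : ℕ} {u : Fin (n + 1) → F} (hu : u 0 = 0) :
    consL (fun i : Fin n => u i.succ) = u := by
  ext i; refine Fin.cases ?_ (fun j => ?_) i
  · rw [consL_zero, hu]
  · rw [consL_succ]

theorem mulVec_consL_zero {n : ℕ} (y : Matrix (Fin (n + 1)) (Fin (n + 1)) F) (w : Fin n → F) :
    (y *ᵥ consL w) 0 = ∑ j, y 0 j.succ * w j := by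
  simp only [mulVec, dotProduct, Fin.sum_univ_succ, _root_.Matrix.mulVec, _root_.dotProduct, _root_.Fin.sum_univ_succ, _root_.Cfsg.Agent.H962.PP.consL_zero, _root_.MulZeroClass.mul_zero, _root_.Cfsg.Agent.H962.PP.consL_succ, _root_.zero_add]

theorem mulVec_consL_succ {n : ℕ} (y : Matrix (Fin (n + 1)) (Fin (n + 1)) F) (w : Fin n → F)
    (i : Fin n) : (y *ᵥ consL w) i.succ = ((y.submatrix Fin.succ Fin.succ) *ᵥ w) i := by
  simp only [mulVec, dotProduct, Fin.sum_univ_succ, _root_.Matrix.mulVec, _root_.dotProduct, _root_.Fin.sum_univ_succ, _root_.Cfsg.Agent.H962.PP.consL_zero, _root_.MulZeroClass.mul_zero, _root_.Cfsg.Agent.H962.PP.consL_succ, _root_.zero_add, _root_.Matrix.submatrix_apply]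

theorem consL_single {n : ℕ} (j : Fin n) : (consL (Pi.single j 1) : Fin (n + 1) → F)
    = Pi.single j.succ 1 := by
  ext i; refine Fin.cases ?_ (fun l => ?_) i
  · rw [consL_zero, Pi.single_eq_of_ne (Fin.succ_ne_zero j).symm]
  · rw [consL_succ, Pi.single_apply, Pi.single_apply]
    simp only [Fin.succ_inj]

/-- **Lower Hessenberg matrices.** -/
theorem hess {L : Matrix (Fin (k + 2)) (Fin (k + 2)) F} (hL : LH L) (hdet : L.det ≠ 0)
    (h01 : L 0 1 ≠ 0) {p f : F[X]} (hp : p.Monic) (hpdeg : p.natDegree = k + 2)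
    (hp0 : p.coeff 0 ≠ 0) (hf : f.Monic) (hfdeg : f.natDegree = k + 1) (hf0 : f.coeff 0 ≠ 0) :
    ∃ x y : Matrix (Fin (k + 2)) (Fin (k + 2)) F, x * y = L ∧ x.charpoly = p ∧
      (∃ m : Fin (k + 2) → F, LinearIndependent F (fun i : Fin (k + 2) => (x ^ (i : ℕ)) *ᵥ m)) ∧
      (∀ j : Fin (k + 1), y 0 j.succ = 0) ∧ y 0 0 ≠ 0 ∧
      (y.submatrix Fin.succ Fin.succ).charpoly = f ∧
      ∃ m : Fin (k + 1) → F,
        LinearIndependent F
          (fun i : Fin (k + 1) => ((y.submatrix Fin.succ Fin.succ) ^ (i : ℕ)) *ᵥ m) := by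
  obtain ⟨P, hPdef⟩ : ∃ P, P = L.submatrix Fin.succ Fin.succ := ⟨_, rfl⟩
  have hP : LH P := by
    intro i j hij
    rw [hPdef, submatrix_apply]
    apply hL
    simpa using hij
  have hL0 : ∀ w : Fin (k + 1) → F, (L *ᵥ consL w) 0 = L 0 1 * w 0 := by
    intro w
    rw [mulVec_consL_zero, Finset.sum_eq_single 0]
    · rw [Fin.succ_zero_eq_one]
    · intro j _ hj
      rw [hL 0 j.succ, zero_mul]
      rw [Fin.val_zero, Fin.val_succ]
      have : (j : ℕ) ≠ 0 := fun h => hj (Fin.ext h)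
      omega
    · intro h; exact absurd (Finset.mem_univ _) h
  have hLs : ∀ (w : Fin (k + 1) → F) (i : Fin (k + 1)),
      (L *ᵥ consL w) i.succ = (P *ᵥ w) i := by
    intro w i; rw [mulVec_consL_succ, hPdef]
  have hLK : ∀ w : Fin (k + 1) → F, w 0 = 0 → L *ᵥ consL w = consL (P *ᵥ w) := by
    intro w hw
    ext i; refine Fin.cases ?_ (fun j => ?_) i
    · rw [hL0, hw, mul_zero, consL_zero]
    · rw [hLs, consL_succ]
  have hinj : ∀ v : Fin (k + 1) → F, v 0 = 0 → P *ᵥ v = 0 → v = 0 := by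
    intro v hv h
    have h1 : L *ᵥ consL v = 0 := by rw [hLK v hv, h, map_zero]
    have h2 := Matrix.eq_zero_of_mulVec_eq_zero hdet h1
    ext i
    have := congrFun h2 i.succ
    rwa [consL_succ] at this
  obtain ⟨B, hBT, hBf, hBm⟩ := stepB hP hinj hf hfdeg
  have hBdet : B.det ≠ 0 := det_ne_zero_iff.mpr (by rwa [hBf])
  have hBB : ∀ w, B⁻¹ *ᵥ (B *ᵥ w) = w := by
    intro w
    rw [Matrix.mulVec_mulVec, Matrix.nonsing_inv_mul _ hBdet.isUnit, Matrix.one_mulVec]
  have hBB' : ∀ w, B *ᵥ (B⁻¹ *ᵥ w) = w := by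
    intro w
    rw [Matrix.mulVec_mulVec, Matrix.mul_nonsing_inv _ hBdet.isUnit, Matrix.one_mulVec]
  -- the map `x0`
  obtain ⟨x0, hx0⟩ : ∃ x0 : (Fin (k + 2) → F) →ₗ[F] (Fin (k + 2) → F),
      ∀ v, x0 v = L *ᵥ consL (B⁻¹ *ᵥ (fun i : Fin (k + 1) => v i.succ)) :=
    ⟨L.mulVecLin ∘ₗ consL ∘ₗ (B⁻¹).mulVecLin ∘ₗ (LinearMap.funLeft F F Fin.succ), fun v => rfl⟩
  have hx0B : ∀ w, x0 (consL (B *ᵥ w)) = L *ᵥ consL w := by
    intro w
    rw [hx0]
    simp only [consL_succ]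
    rw [hBB]
  obtain ⟨x, hx, hxp, hxm⟩ := pole' x0 (LinearMap.proj 0) (by
    intro U1 h1 h2
    have hU : U1.comap (consL ∘ₗ B.mulVecLin) = ⊥ := by
      have hkey : ∀ v ∈ U1.comap (consL ∘ₗ B.mulVecLin), v 0 = 0 := by
        intro v hv
        have h3 := h1 _ (h2 _ hv)
        simp only [LinearMap.comp_apply, Matrix.mulVecLin_apply, LinearMap.proj_apply] at h3
        rw [hx0B, hL0] at h3
        exact (mul_eq_zero.mp h3).resolve_left h01
      apply tT_obs hP _ hkey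
      intro v hv
      have h3 := h2 _ hv
      have h4 : L *ᵥ consL v ∈ U1 := by
        have : x0 ((consL ∘ₗ B.mulVecLin) v) = L *ᵥ consL v := hx0B v
        rwa [this] at h3
      rw [hLK v (hkey v hv), ← hBT v (hkey v hv)] at h4
      exact h4
    rw [eq_bot_iff]
    intro u hu
    have hu0 : u 0 = 0 := h1 u hu
    have h3 : (B⁻¹ *ᵥ (fun i : Fin (k + 1) => u i.succ)) ∈ U1.comap (consL ∘ₗ B.mulVecLin) := by
      rw [Submodule.mem_comap, LinearMap.comp_apply, Matrix.mulVecLin_apply, hBB', consL_tail hu0]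
      exact hu
    rw [hU, Submodule.mem_bot] at h3
    have h4 : (fun i : Fin (k + 1) => u i.succ) = 0 := by
      rw [← hBB' (fun i : Fin (k + 1) => u i.succ), h3, mulVec_zero]
    rw [Submodule.mem_bot, ← consL_tail hu0, h4, map_zero]) hp hpdeg
  have hxdet : x.det ≠ 0 := det_ne_zero_iff.mpr (by rwa [hxp])
  obtain ⟨y, hy⟩ : ∃ y, y = x⁻¹ * L := ⟨_, rfl⟩
  have hxy : x * y = L := by
    rw [hy, ← mul_assoc, Matrix.mul_nonsing_inv _ hxdet.isUnit, one_mul]
  have hyB : ∀ w, y *ᵥ consL w = consL (B *ᵥ w) := by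
    intro w
    rw [hy, ← Matrix.mulVec_mulVec, ← hx0B, ← hx (consL (B *ᵥ w)) (by rw [LinearMap.proj_apply, consL_zero]),
      Matrix.mulVec_mulVec, Matrix.nonsing_inv_mul _ hxdet.isUnit, Matrix.one_mulVec]
  have hy0 : ∀ j : Fin (k + 1), y 0 j.succ = 0 := by
    intro j
    have h1 := congrFun (hyB (Pi.single j 1)) 0
    rw [consL_single, Matrix.mulVec_single_one, consL_zero] at h1
    exact h1
  have hyS : y.submatrix Fin.succ Fin.succ = B := by
    ext i j
    have h1 := congrFun (hyB (Pi.single j 1)) i.succ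
    rw [consL_single, Matrix.mulVec_single_one, consL_succ, Matrix.mulVec_single_one] at h1
    exact h1
  have hydet : y.det ≠ 0 := by
    intro h
    apply hdet
    rw [← hxy, det_mul, h, mul_zero]
  refine ⟨x, y, hxy, hxp, hxm, hy0, ?_, by rw [hyS, hBf], by rw [hyS]; exact hBm⟩
  intro h
  rw [det_ne_zero_iff, charpoly_of_row y hy0, h] at hydet
  apply hydet
  simp

end Cfsg.Agent.H962.PP
end

-- part: H962/PP/Main
section
/-!
# Products of two matrices with prescribed characteristic polynomials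

`exists_hess`: a nonscalar matrix is similar to a lower Hessenberg matrix `L` with `L 0 1 ≠ 0`.

`exists_mul`: an invertible nonscalar `A` of size `k + 2` is `x * y` with `x.charpoly = p` any
monic polynomial of degree `k + 2` with nonzero constant coefficient, and
`y.charpoly = (X - c) * f`, `f` any monic polynomial of degree `k + 1` with nonzero constant
coefficient.
-/

set_option autoImplicit false

namespace Cfsg.Agent.H962.PP

open Module Matrix Polynomial

variable {F : Type*} [Field F]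

section seq
variable {V : Type*} [AddCommGroup V] [Module F V] [FiniteDimensional F V]

open scoped Classical in
/-- a vector outside `W`, if there is one -/
noncomputable def outside (W : Submodule F V) : V :=
  if h : ∃ v, v ∉ W then h.choose else 0

omit [FiniteDimensional F V] in
theorem outside_notMem {W : Submodule F V} (h : W ≠ ⊤) : outside W ∉ W := by
  have h' : ∃ v, v ∉ W := by
    by_contra hc
    push Not at hc
    exact h (eq_top_iff.mpr fun v _ => hc v)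
  rw [outside, dif_pos h']
  exact h'.choose_spec

open scoped Classical in
/-- the pairs (span of the vectors so far, next vector) -/
noncomputable def st (a : V →ₗ[F] V) (v0 : V) : ℕ → Submodule F V × V
  | 0 => (⊥, v0)
  | n + 1 => ((st a v0 n).1 ⊔ Submodule.span F {(st a v0 n).2},
      if a (st a v0 n).2 ∉ (st a v0 n).1 ⊔ Submodule.span F {(st a v0 n).2} then a (st a v0 n).2
      else outside ((st a v0 n).1 ⊔ Submodule.span F {(st a v0 n).2}))

variable (a : V →ₗ[F] V) (v0 : V)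

omit [FiniteDimensional F V] in
theorem st_one (n : ℕ) : (st a v0 n).1
    = Submodule.span F (Set.range fun i : Fin n => (st a v0 i).2) := by
  induction n with
  | zero => simp [st]
  | succ n ih =>
    rw [st, ih, ← Submodule.span_union]
    refine congrArg (Submodule.span F) (Set.ext fun v => ?_)
    simp only [Set.mem_union, Set.mem_range, Set.mem_singleton_iff]
    constructor
    · rintro (⟨i, rfl⟩ | rfl)
      · exact ⟨i.castSucc, rfl⟩
      · exact ⟨Fin.last n, rfl⟩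
    · rintro ⟨i, rfl⟩
      refine Fin.lastCases ?_ (fun j => ?_) i
      · right; rfl
      · left; exact ⟨j, rfl⟩

omit [FiniteDimensional F V] in
theorem st_mem {i n : ℕ} (h : i < n) : (st a v0 i).2 ∈ (st a v0 n).1 := by
  rw [st_one]; exact Submodule.subset_span ⟨⟨i, h⟩, rfl⟩

omit [FiniteDimensional F V] in
theorem st_ne_top {n : ℕ} (h : n < finrank F V) : (st a v0 n).1 ≠ ⊤ := by
  intro ht
  have h1 : finrank F (st a v0 n).1 ≤ n := by
    rw [st_one]
    exact (finrank_range_le_card _).trans (by simp)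
  rw [ht, finrank_top] at h1
  omega

omit [FiniteDimensional F V] in
theorem st_two_notMem (hv0 : v0 ≠ 0) {n : ℕ} (h : n < finrank F V) :
    (st a v0 n).2 ∉ (st a v0 n).1 := by
  cases n with
  | zero => simpa [st] using hv0
  | succ n =>
    have h1 := st_ne_top a v0 h
    rw [st] at h1 ⊢
    simp only at h1 ⊢
    split_ifs with h2
    · exact outside_notMem h1
    · exact h2

omit [FiniteDimensional F V] in
theorem st_map (n : ℕ) : a (st a v0 n).2 ∈ (st a v0 (n + 2)).1 := by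
  by_cases h2 : a (st a v0 n).2 ∉ (st a v0 n).1 ⊔ Submodule.span F {(st a v0 n).2}
  · have h3 : (st a v0 (n + 1)).2 = a (st a v0 n).2 := by
      rw [st]; simp only; rw [if_pos h2]
    rw [← h3]
    exact st_mem a v0 (by omega)
  · push Not at h2
    have h3 : (st a v0 (n + 1)).1 ≤ (st a v0 (n + 2)).1 := by
      conv_rhs => rw [st]
      exact le_sup_left
    exact h3 h2

omit [FiniteDimensional F V] in
theorem st_indep (hv0 : v0 ≠ 0) : ∀ n ≤ finrank F V,
    LinearIndependent F (fun i : Fin n => (st a v0 i).2) := by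
  intro n
  induction n with
  | zero => intro _; exact linearIndependent_empty_type
  | succ n ih =>
    intro hn
    rw [linearIndependent_finSucc']
    refine ⟨ih (by omega), ?_⟩
    have h1 := st_two_notMem a v0 hv0 (n := n) (by omega)
    rw [st_one] at h1
    simpa [Fin.init_def] using h1

end seq

variable {k : ℕ}

/-- a nonscalar matrix moves a row vector off its line -/
theorem exists_row {n : ℕ} (A : Matrix (Fin n) (Fin n) F) (hA : ∀ c : F, A ≠ scalar (Fin n) c) :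
    ∃ v : Fin n → F, v ≠ 0 ∧ v ᵥ* A ∉ Submodule.span F {v} := by
  by_contra hcon
  push Not at hcon
  have h1 : ∀ v : Fin n → F, ¬ LinearIndependent F ![v, A.vecMulLinear v] := by
    intro v hli
    rw [LinearIndependent.pair_iff] at hli
    by_cases hv : v = 0
    · have := hli 1 0 (by rw [hv]; simp)
      exact one_ne_zero this.1
    · obtain ⟨c, hc⟩ := Submodule.mem_span_singleton.mp (hcon v hv)
      have h2 := hli c (-1) (by
        rw [hc, Matrix.vecMulLinear_apply]; simp)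
      exact one_ne_zero (neg_eq_zero.mp h2.2)
  obtain ⟨c, hc⟩ := LinearMap.exists_eq_smul_id_of_forall_notLinearIndependent h1
  apply hA c
  ext i j
  have h2 : A.vecMulLinear (Pi.single i 1) = c • (Pi.single i (1 : F)) := by rw [hc]; simp
  rw [Matrix.vecMulLinear_apply, Matrix.single_one_vecMul] at h2
  have h3 := congrFun h2 j
  rw [Matrix.row_apply] at h3
  rw [h3, scalar_apply, diagonal_apply]
  simp [Pi.single_apply, eq_comm]

/-- **Hessenberg form** -/
theorem exists_hess (A : Matrix (Fin (k + 2)) (Fin (k + 2)) F)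
    (hA : ∀ c : F, A ≠ scalar (Fin (k + 2)) c) :
    ∃ (R L : Matrix (Fin (k + 2)) (Fin (k + 2)) F), IsUnit R.det ∧ R * A = L * R ∧ LH L ∧
      L 0 1 ≠ 0 := by
  obtain ⟨v0, hv0, hvA⟩ := exists_row A hA
  obtain ⟨a, ha⟩ : ∃ a : (Fin (k + 2) → F) →ₗ[F] (Fin (k + 2) → F), a = A.vecMulLinear := ⟨_, rfl⟩
  have ha' : ∀ v, a v = v ᵥ* A := fun v => by rw [ha, Matrix.vecMulLinear_apply]
  have hfin : finrank F (Fin (k + 2) → F) = k + 2 := by simp
  have hli := st_indep a v0 hv0 (k + 2) (by rw [hfin])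
  let b : Basis (Fin (k + 2)) F (Fin (k + 2) → F) :=
    basisOfLinearIndependentOfCardEqFinrank hli (by simp)
  have hb : ∀ i, b i = (st a v0 i).2 := fun i => by
    simp [b]
  let R : Matrix (Fin (k + 2)) (Fin (k + 2)) F := Matrix.of fun i => b i
  let L : Matrix (Fin (k + 2)) (Fin (k + 2)) F := Matrix.of fun i j => b.repr (a (b i)) j
  have hRL : R * A = L * R := by
    ext i j
    have h1 : (R * A) i = a (b i) := by
      rw [ha']; rfl
    have h2 : (L * R) i = a (b i) := by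
      rw [← b.sum_repr (a (b i))]
      ext l
      rw [Matrix.mul_apply, Finset.sum_apply]
      exact Finset.sum_congr rfl fun m _ => rfl
    rw [h1, h2]
  have hR : IsUnit R.det := by
    rw [← Matrix.isUnit_iff_isUnit_det, ← Matrix.linearIndependent_rows_iff_isUnit]
    exact b.linearIndependent
  have hmemspan : ∀ (n : ℕ) (v : Fin (k + 2) → F), v ∈ (st a v0 n).1 →
      ∀ j : Fin (k + 2), n ≤ j → b.repr v j = 0 := by
    intro n v hv j hj
    rw [st_one] at hv
    refine Submodule.span_induction (p := fun v _ => b.repr v j = 0) ?_ ?_ ?_ ?_ hv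
    · rintro _ ⟨i, rfl⟩
      have hi : (i : ℕ) < k + 2 := by have := i.2; have := j.2; omega
      have h3 : (st a v0 i).2 = b ⟨i, hi⟩ := (hb ⟨i, hi⟩).symm
      simp only
      rw [h3, b.repr_self, Finsupp.single_eq_of_ne]
      intro h
      rw [h] at hj
      simp only at hj
      have := i.2
      omega
    · simp
    · intro x y _ _ hx hy; rw [map_add, Finsupp.add_apply, hx, hy, add_zero]
    · intro c x _ hx; rw [map_smul, Finsupp.smul_apply, hx, smul_zero]
  refine ⟨R, L, hR, hRL, ?_, ?_⟩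
  · intro i j hij
    change b.repr (a (b i)) j = 0
    apply hmemspan ((i : ℕ) + 2)
    · rw [hb]; exact st_map a v0 i
    · omega
  · change b.repr (a (b 0)) 1 ≠ 0
    have h0 : b 0 = v0 := by rw [hb]; rfl
    have h1 : b 1 = a v0 := by
      rw [hb]
      change (st a v0 (0 + 1)).2 = a v0
      rw [st]
      simp only
      rw [if_pos]
      · rfl
      · change a v0 ∉ ⊥ ⊔ Submodule.span F {v0}
        rw [bot_sup_eq, ha']
        exact hvA
    rw [h0, ← h1, b.repr_self]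
    simp

/-- **Products of two matrices with prescribed characteristic polynomials.** -/
theorem exists_mul (A : Matrix (Fin (k + 2)) (Fin (k + 2)) F) (hdet : A.det ≠ 0)
    (hA : ∀ c : F, A ≠ scalar (Fin (k + 2)) c) {p f : F[X]} (hp : p.Monic)
    (hpdeg : p.natDegree = k + 2) (hp0 : p.coeff 0 ≠ 0) (hf : f.Monic) (hfdeg : f.natDegree = k + 1)
    (hf0 : f.coeff 0 ≠ 0) :
    ∃ x y : Matrix (Fin (k + 2)) (Fin (k + 2)) F, A = x * y ∧ x.charpoly = p ∧
      (∃ m : Fin (k + 2) → F, LinearIndependent F (fun i : Fin (k + 2) => (x ^ (i : ℕ)) *ᵥ m)) ∧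
      ∃ c : F, c ≠ 0 ∧ y.charpoly = (X - C c) * f := by
  obtain ⟨R, L, hR, hRL, hL, hL01⟩ := exists_hess A hA
  have hRR : R⁻¹ * R = 1 := Matrix.nonsing_inv_mul _ hR
  have hRR' : R * R⁻¹ = 1 := Matrix.mul_nonsing_inv _ hR
  have hLdet : L.det ≠ 0 := by
    have h1 : R.det * A.det = L.det * R.det := by rw [← det_mul, ← det_mul, hRL]
    intro h
    rw [h, zero_mul] at h1
    exact mul_ne_zero hR.ne_zero hdet h1
  obtain ⟨x, y, hxy, hxp, ⟨m, hm⟩, hy0, hyc, hyf, -⟩ :=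
    hess hL hLdet hL01 hp hpdeg hp0 hf hfdeg hf0
  have hconj : ∀ M : Matrix (Fin (k + 2)) (Fin (k + 2)) F,
      (R⁻¹ * M * R).charpoly = M.charpoly := by
    intro M
    rw [Matrix.charpoly_mul_comm, ← mul_assoc, hRR', one_mul]
  have hpow : ∀ (M : Matrix (Fin (k + 2)) (Fin (k + 2)) F) (i : ℕ),
      (R⁻¹ * M * R) ^ i = R⁻¹ * M ^ i * R := by
    intro M i
    induction i with
    | zero => rw [pow_zero, pow_zero, mul_one, hRR]
    | succ i ih =>
      rw [pow_succ, ih, pow_succ]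
      have : R⁻¹ * M ^ i * R * (R⁻¹ * M * R) = R⁻¹ * M ^ i * (R * R⁻¹) * M * R := by
        simp only [mul_assoc]
      rw [this, hRR', mul_one, mul_assoc (R⁻¹)]
  refine ⟨R⁻¹ * x * R, R⁻¹ * y * R, ?_, by rw [hconj, hxp], ⟨R⁻¹ *ᵥ m, ?_⟩, y 0 0, hyc, ?_⟩
  · have h1 : R⁻¹ * x * R * (R⁻¹ * y * R) = R⁻¹ * x * (R * R⁻¹) * y * R := by
      simp only [mul_assoc]
    rw [h1, hRR', mul_one, mul_assoc (R⁻¹), hxy, mul_assoc, ← hRL, ← mul_assoc, hRR, one_mul]
  · have h1 : (fun i : Fin (k + 2) => ((R⁻¹ * x * R) ^ (i : ℕ)) *ᵥ (R⁻¹ *ᵥ m))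
        = fun i : Fin (k + 2) => (R⁻¹).mulVecLin ((x ^ (i : ℕ)) *ᵥ m) := by
      funext i
      rw [hpow, Matrix.mulVec_mulVec, mul_assoc, hRR', mul_one, Matrix.mulVecLin_apply,
        Matrix.mulVec_mulVec]
    rw [h1]
    refine hm.map' (R⁻¹).mulVecLin ?_
    rw [LinearMap.ker_eq_bot']
    intro v hv
    rw [Matrix.mulVecLin_apply] at hv
    rw [← Matrix.one_mulVec v, ← hRR', ← Matrix.mulVec_mulVec, hv, mulVec_zero]
  · rw [hconj, charpoly_of_row y hy0, hyf]

end Cfsg.Agent.H962.PP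
end

private theorem dce_a895d292dbc7 : _root_.True := by
  try have : _root_.True := by simp only [_root_.Cfsg.Agent.H962.PP.kap.eq_1]
  try have : _root_.True := by simp only [_root_.Cfsg.Agent.H962.PP.tT.eq_1]
  try have : _root_.True := by simp only [_root_.Cfsg.Agent.H962.PP.st.eq_1]
  try have : _root_.True := by simp only [_root_.Cfsg.Agent.H962.PP.st.eq_def]
  try have : _root_.True := by simp only [_root_.Cfsg.Agent.H962.PP.st.eq_2]
  try have : _root_.True := by simp only [_root_.Cfsg.Agent.H962.PP.outside.eq_1]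
  exact _root_.True.intro
end

-- part: H962/PP/Psl
section
prune_inst 0x10000000000000
set_option linter.all false
open scoped Cfsg.Agent.FastGrp

/-!
# Products of two elements of prescribed order in `SL_n(F)` and `PSL_n(F)`
-/

set_option autoImplicit false

namespace Cfsg.Agent.H962.PP

open Matrix Polynomial

/-- `(X - 1) f` divides `X ^ s - 1`, `f` monic of degree `d` with `(-1) ^ d * f.coeff 0 = 1`. -/
def Adm (F : Type*) [Field F] (d s : ℕ) : Prop :=
  ∃ f : F[X], f.Monic ∧ f.natDegree = d ∧ (X - 1) * f ∣ X ^ s - 1 ∧ (-1) ^ d * f.coeff 0 = 1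

section field
variable {F : Type*} [Field F]

/-- the constant coefficient of a divisor of `X ^ s - 1` -/
theorem const_pow {f : F[X]} (hf : f.Monic) {s : ℕ} (hdvd : f ∣ X ^ s - 1) :
    ((-1) ^ f.natDegree * f.coeff 0) ^ s = 1 := by
  obtain ⟨φ, hφ⟩ : ∃ φ : F →+* AlgebraicClosure F, φ = algebraMap F (AlgebraicClosure F) :=
    ⟨_, rfl⟩
  have hfm : (f.map φ).Monic := hf.map φ
  have hspl : (f.map φ).Splits := IsAlgClosed.splits _
  have h0 := hspl.coeff_zero_eq_prod_roots_of_monic hfm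
  rw [hf.natDegree_map φ] at h0
  have hroots : ((f.map φ).roots.prod) ^ s = 1 := by
    apply Multiset.prod_induction (fun z : AlgebraicClosure F => z ^ s = 1)
    · intro a b ha hb; rw [mul_pow, ha, hb, one_mul]
    · exact one_pow s
    · intro z hz
      have h1 : (f.map φ).IsRoot z := Polynomial.isRoot_of_mem_roots hz
      have h2 : f.map φ ∣ X ^ s - 1 := by
        have := Polynomial.map_dvd φ hdvd
        simpa using this
      have h3 := h1.dvd h2
      rw [IsRoot, eval_sub, eval_pow, eval_X, eval_one, sub_eq_zero] at h3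
      exact h3
  apply φ.injective
  rw [map_pow, map_one, map_mul, map_pow, map_neg, map_one, ← Polynomial.coeff_map, h0,
    ← mul_assoc, ← mul_pow]
  simpa using hroots

theorem eq_one_of_pow_eq_one [Finite F] {s : ℕ} (hs : s.Coprime (Nat.card F - 1)) {c : F}
    (hc : c ^ s = 1) (hs0 : s ≠ 0) : c = 1 := by
  have : Fintype F := Fintype.ofFinite F
  have hc0 : c ≠ 0 := by
    rintro rfl
    rw [zero_pow hs0] at hc
    exact zero_ne_one hc
  have h1 : c ^ (Nat.card F - 1) = 1 := by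
    rw [Nat.card_eq_fintype_card]; exact FiniteField.pow_card_sub_one_eq_one c hc0
  have h2 := Nat.dvd_gcd (orderOf_dvd_of_pow_eq_one hc) (orderOf_dvd_of_pow_eq_one h1)
  rw [hs] at h2
  exact orderOf_eq_one_iff.mp (Nat.dvd_one.mp h2)

/-- **prime `s` with `q` of order `d` modulo `s`** -/
theorem adm_prime [Finite F] {s d : ℕ} (hs : s.Prime) (hd : 2 ≤ d)
    (ho : orderOf ((Nat.card F : ℕ) : ZMod s) = d) : Adm F d s := by
  classical
  have : Fintype F := Fintype.ofFinite F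
  have := Fact.mk hs
  obtain ⟨p, hpc⟩ := CharP.exists F
  have hp : Fact p.Prime := ⟨CharP.char_is_prime F p⟩
  obtain ⟨e, he⟩ := FiniteField.card F p
  have hK : Fintype.card F = p ^ (e : ℕ) := he.2
  have hq : Nat.card F = p ^ (e : ℕ) := by rw [Nat.card_eq_fintype_card, hK]
  have hne : p ≠ s := by
    rintro rfl
    rw [hq, Nat.cast_pow, CharP.cast_eq_zero, zero_pow (PNat.ne_zero e)] at ho
    rw [orderOf_eq_zero] at ho
    · omega
    · rw [isOfFinOrder_iff_pow_eq_one]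
      rintro ⟨n, hn, h⟩
      rw [zero_pow (by omega)] at h
      exact zero_ne_one h
  have hcop : p.Coprime s := (Nat.coprime_primes hp.out hs).mpr hne
  have hdeg : 0 < (cyclotomic s F).natDegree := by
    rw [natDegree_cyclotomic]; exact Nat.totient_pos.mpr hs.pos
  obtain ⟨g, hg, hgd⟩ := Polynomial.exists_monic_irreducible_factor (cyclotomic s F)
    (Polynomial.not_isUnit_of_natDegree_pos _ hdeg)
  have hgdeg : g.natDegree = d := by
    rw [Polynomial.natDegree_of_dvd_cyclotomic_of_irreducible hK hcop hgd.2 hgd.1, ← orderOf_units,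
      ← ho, ZMod.coe_unitOfCoprime, hq]
  have hXs : cyclotomic s F * (X - 1) = X ^ s - 1 := cyclotomic_prime_mul_X_sub_one F s
  have hdvd : (X - 1) * g ∣ X ^ s - 1 := by
    rw [← hXs, mul_comm]
    exact mul_dvd_mul_right hgd.2 _
  have hcs : s.Coprime (Nat.card F - 1) := by
    rw [hs.coprime_iff_not_dvd]
    intro h
    have h1 : s ∣ Nat.card F ^ 1 - 1 := by rwa [pow_one]
    rw [Lib.Zsigmondy.dvd_pow_sub_one_iff Nat.card_pos, ho] at h1
    have := Nat.le_of_dvd one_pos h1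
    omega
  refine ⟨g, hg, hgdeg, hdvd, ?_⟩
  apply eq_one_of_pow_eq_one hcs _ hs.ne_zero
  rw [← hgdeg]
  exact const_pow hg (dvd_trans (dvd_mul_left _ _) hdvd)

/-- the cyclotomic polynomial of prime index -/
theorem adm_cyclo {s : ℕ} (hs : s.Prime) (hs2 : s ≠ 2) : Adm F (s - 1) s := by
  have := Fact.mk hs
  refine ⟨cyclotomic s F, cyclotomic.monic s F, ?_, ?_, ?_⟩
  · rw [natDegree_cyclotomic, Nat.totient_prime hs]
  · rw [mul_comm, cyclotomic_prime_mul_X_sub_one]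
  · rw [cyclotomic_coeff_zero F hs.one_lt, mul_one]
    exact ((hs.even_sub_one hs2)).neg_one_pow

/-- the characteristic polynomial divides `X ^ s - 1` -/
theorem pow_eq_one_of_charpoly {n s : ℕ} {x : Matrix (Fin n) (Fin n) F}
    (h : x.charpoly ∣ X ^ s - 1) : x ^ s = 1 := by
  obtain ⟨g, hg⟩ := h
  have h1 : aeval x (X ^ s - 1 : F[X]) = 0 := by
    rw [hg, map_mul, Matrix.aeval_self_charpoly, zero_mul]
  rwa [map_sub, map_pow, aeval_X, map_one, sub_eq_zero] at h1

/-- **`SL_n(F)`** -/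
theorem sl_mul {k : ℕ} (A : SpecialLinearGroup (Fin (k + 2)) F)
    (hA : A ∉ Subgroup.center (SpecialLinearGroup (Fin (k + 2)) F)) {s t : ℕ}
    (hs : Adm F (k + 2) s) (ht : Adm F (k + 1) t) :
    ∃ x y : SpecialLinearGroup (Fin (k + 2)) F, A = x * y ∧ x ^ s = 1 ∧ y ^ t = 1 := by
  obtain ⟨p, hp, hpdeg, hpdvd, hp0⟩ := hs
  obtain ⟨f, hf, hfdeg, hfdvd, hf0⟩ := ht
  have hsc : ∀ c : F, (A : Matrix (Fin (k + 2)) (Fin (k + 2)) F) ≠ scalar (Fin (k + 2)) c := by
    intro c hc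
    apply hA
    rw [Matrix.SpecialLinearGroup.mem_center_iff]
    refine ⟨c, ?_, hc.symm⟩
    have h1 := A.det_coe
    rw [hc, Matrix.scalar_apply, Matrix.det_diagonal, Finset.prod_const, Finset.card_univ] at h1
    exact h1
  obtain ⟨x, y, hxy, hxp, -, c, hc0, hyc⟩ := exists_mul (A : Matrix (Fin (k + 2)) (Fin (k + 2)) F)
    (by rw [A.det_coe]; exact one_ne_zero) hsc hp hpdeg
    (by rintro h; rw [h, mul_zero] at hp0; exact zero_ne_one hp0) hf hfdeg
    (by rintro h; rw [h, mul_zero] at hf0; exact zero_ne_one hf0)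
  have hxdet : x.det = 1 := by
    rw [Matrix.det_eq_sign_charpoly_coeff, hxp, Fintype.card_fin, hp0]
  have hydet : y.det = 1 := by
    have h1 := A.det_coe
    rwa [hxy, det_mul, hxdet, one_mul] at h1
  have hc : c = 1 := by
    rw [Matrix.det_eq_sign_charpoly_coeff, hyc, Fintype.card_fin, mul_coeff_zero, coeff_sub,
      coeff_X_zero, coeff_C_zero, zero_sub] at hydet
    have h1 : (-1 : F) ^ (k + 2) * (-c * f.coeff 0) = c * ((-1) ^ (k + 1) * f.coeff 0) := by ring
    rwa [h1, hf0, mul_one] at hydet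
  have hxs : x ^ s = 1 := pow_eq_one_of_charpoly (by
    rw [hxp]; exact dvd_trans (dvd_mul_left _ _) hpdvd)
  have hyt : y ^ t = 1 := pow_eq_one_of_charpoly (by rw [hyc, hc, map_one]; exact hfdvd)
  obtain ⟨x', hx'⟩ : ∃ x' : SpecialLinearGroup (Fin (k + 2)) F, x'.val = x := ⟨⟨x, hxdet⟩, rfl⟩
  obtain ⟨y', hy'⟩ : ∃ y' : SpecialLinearGroup (Fin (k + 2)) F, y'.val = y := ⟨⟨y, hydet⟩, rfl⟩
  rw [← hx', ← hy'] at hxy
  rw [← hx'] at hxs
  rw [← hy'] at hyt
  exact ⟨x', y', Subtype.ext (hxy.trans (Matrix.SpecialLinearGroup.coe_mul x' y').symm),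
    Subtype.ext ((Matrix.SpecialLinearGroup.coe_pow x' s).trans (hxs.trans Matrix.SpecialLinearGroup.coe_one.symm)),
    Subtype.ext ((Matrix.SpecialLinearGroup.coe_pow y' t).trans (hyt.trans Matrix.SpecialLinearGroup.coe_one.symm))⟩

/-- **`PSL_n(F)`** -/
theorem psl_mul {k s t : ℕ} (hs : Adm F (k + 2) s) (ht : Adm F (k + 1) t)
    (g : ProjectiveSpecialLinearGroup (Fin (k + 2)) F) :
    ∃ x y : ProjectiveSpecialLinearGroup (Fin (k + 2)) F, g = x * y ∧ x ^ s = 1 ∧ y ^ t = 1 := by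
  obtain ⟨A, rfl⟩ := QuotientGroup.mk'_surjective
    (Subgroup.center (SpecialLinearGroup (Fin (k + 2)) F)) g
  by_cases hA : A ∈ Subgroup.center (SpecialLinearGroup (Fin (k + 2)) F)
  · refine ⟨1, 1, ?_, one_pow _, one_pow _⟩
    rw [mul_one]
    exact (QuotientGroup.eq_one_iff A).mpr hA
  · obtain ⟨x, y, hxy, hx, hy⟩ := sl_mul A hA hs ht
    refine ⟨QuotientGroup.mk' _ x, QuotientGroup.mk' _ y, ?_, ?_, ?_⟩
    · rw [hxy, map_mul]
    · rw [← map_pow, hx, map_one]
    · rw [← map_pow, hy, map_one]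

/-- admissible primes -/
theorem exists_adm [Finite F] {d : ℕ} (hd : 3 ≤ d) :
    ∃ s : ℕ, s.Prime ∧ d + 1 ≤ s ∧ 5 ≤ s ∧ ¬ s ∣ Nat.card F ∧ Adm F d s := by
  have hq : 2 ≤ Nat.card F := Finite.one_lt_card
  by_cases h26 : Nat.card F = 2 ∧ d = 6
  · refine ⟨7, by norm_num, by omega, by norm_num, by rw [h26.1]; norm_num, ?_⟩
    rw [h26.2]
    exact adm_cyclo (s := 7) (by norm_num) (by norm_num)
  · obtain ⟨s, hs, hord⟩ := Lib.Zsigmondy.exists_prime_orderOf hq (n := d) (by omega)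
      (by omega) h26
    have hsq : ¬ s ∣ Nat.card F := by
      intro h
      have := Fact.mk hs
      rw [(ZMod.natCast_eq_zero_iff (Nat.card F) s).2 h, orderOf_eq_zero] at hord
      · omega
      · rw [isOfFinOrder_iff_pow_eq_one]
        rintro ⟨n, hn, h⟩
        rw [zero_pow (by omega)] at h
        exact zero_ne_one h
    have h1 := Lib.Zsigmondy.orderOf_dvd_pred hs hsq
    rw [hord] at h1
    have h2 : d ≤ s - 1 := Nat.le_of_dvd (by have := hs.two_le; omega) h1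
    have h3 : s ≠ 4 := by rintro rfl; norm_num at hs
    exact ⟨s, hs, by omega, by omega, hsq, adm_prime hs (by omega) hord⟩

end field

/-- **`PSL_n(F)`, `n ≥ 4`**: two primes `s ≥ n + 1`, `t ≥ n`, `t ≥ 5`, prime to `q`, such that every
element is a product `x y` with `x ^ s = 1`, `y ^ t = 1`. -/
theorem psl_two_primes {n : ℕ} (hn : 4 ≤ n) (F : Type*) [Field F] [Finite F] :
    ∃ s t : ℕ, s.Prime ∧ t.Prime ∧ n + 1 ≤ s ∧ n ≤ t ∧ 5 ≤ t ∧ ¬ s ∣ Nat.card F ∧
      ¬ t ∣ Nat.card F ∧ ∀ g : ProjectiveSpecialLinearGroup (Fin n) F,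
        ∃ x y : ProjectiveSpecialLinearGroup (Fin n) F, g = x * y ∧ x ^ s = 1 ∧ y ^ t = 1 := by
  obtain ⟨k, rfl⟩ : ∃ k, n = k + 2 := ⟨n - 2, by omega⟩
  obtain ⟨s, hs, hs1, -, hsq, hsa⟩ := exists_adm (F := F) (d := k + 2) (by omega)
  obtain ⟨t, ht, ht1, ht5, htq, hta⟩ := exists_adm (F := F) (d := k + 1) (by omega)
  exact ⟨s, t, hs, ht, by omega, by omega, ht5, hsq, htq, fun g => psl_mul hsa hta g⟩

end Cfsg.Agent.H962.PP
end

-- part: H126/PwO/Num
section
set_option linter.all false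
open scoped Cfsg.Agent.FastGrp

/-!
# S2465, orthogonal groups: arithmetic (helper126)
-/

set_option autoImplicit false

namespace Cfsg.Agent.H126.PwO

/-- odd `d` -/
theorem not_dvd_add {q s d : ℕ} (hq : 1 ≤ q) (hodd : Odd d) (hs : s ∣ q ^ d - 1)
    (hmin : ∀ k, 0 < k → k < d → ¬ s ∣ q ^ k - 1) (h2 : ¬ s ∣ 2) : ∀ i < d, ¬ s ∣ q ^ i + 1 := by
  intro i hi h
  rcases Nat.eq_zero_or_pos i with rfl | hi0
  · exact h2 (by simpa using h)
  have h3 : s ∣ q ^ (2 * i) - 1 := by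
    have h4 : q ^ (2 * i) - 1 = (q ^ i + 1) * (q ^ i - 1) := by
      have h5 := Nat.sq_sub_sq (q ^ i) 1
      rw [one_pow] at h5
      rw [mul_comm 2 i, pow_mul, h5]
    rw [h4]
    exact h.mul_right _
  obtain ⟨k, hk⟩ := hodd
  rcases lt_trichotomy (2 * i) d with h5 | h5 | h5
  · exact hmin _ (by omega) h5 h3
  · omega
  · have h6 : q ^ (2 * i) - 1 = q ^ (2 * i - d) * (q ^ d - 1) + (q ^ (2 * i - d) - 1) := by
      have h7 : q ^ (2 * i) = q ^ (2 * i - d) * q ^ d := by rw [← pow_add]; congr 1; omega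
      have h8 : 1 ≤ q ^ (2 * i - d) := Nat.one_le_pow _ _ hq
      have h9 : 1 ≤ q ^ d := Nat.one_le_pow _ _ hq
      rw [h7, Nat.mul_sub, mul_one]
      have h10 : q ^ (2 * i - d) ≤ q ^ (2 * i - d) * q ^ d := Nat.le_mul_of_pos_right _ h9
      omega
    rw [h6] at h3
    exact hmin _ (by omega) (by omega) ((Nat.dvd_add_right (hs.mul_left _)).1 h3)

/-- `s` a prime such that `q` has order `d` modulo `s` -/
theorem min_of_order {q s d : ℕ} (hq : 1 ≤ q) (h : orderOf (q : ZMod s) = d) :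
    s ∣ q ^ d - 1 ∧ ∀ k, 0 < k → k < d → ¬ s ∣ q ^ k - 1 := by
  constructor
  · rw [Lib.Zsigmondy.dvd_pow_sub_one_iff (by omega), h]
  · intro k h1 h2 h3
    rw [Lib.Zsigmondy.dvd_pow_sub_one_iff (by omega), h] at h3
    have := Nat.le_of_dvd h1 h3
    omega

theorem div_eq {q d : ℕ} (hq : 2 ≤ q) : ∃ M, q ^ d - 1 = M * (q - 1) ∧ (q ^ d - 1) / (q - 1) = M := by
  have h1 : q - 1 ∣ q ^ d - 1 := by
    have := Nat.sub_dvd_pow_sub_pow q 1 d
    rwa [one_pow] at this
  obtain ⟨M, hM⟩ := h1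
  refine ⟨M, by rw [hM, mul_comm], ?_⟩
  rw [hM, Nat.mul_div_cancel_left _ (by omega)]

/-- norm one -/
theorem dvd_div {q s d : ℕ} (hq : 2 ≤ q) (hs : s.Prime) (hd : 2 ≤ d) (h : s ∣ q ^ d - 1)
    (hmin : ∀ k, 0 < k → k < d → ¬ s ∣ q ^ k - 1) : s ∣ (q ^ d - 1) / (q - 1) := by
  obtain ⟨M, hM, hM'⟩ := div_eq (d := d) hq
  rw [hM']
  rw [hM] at h
  rcases hs.dvd_mul.1 h with h1 | h1
  · exact h1
  · exact absurd (by rwa [pow_one]) (hmin 1 one_pos (by omega))

/-- **odd degree, norm one** -/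
theorem exists_prime_odd {q d : ℕ} (hq : 2 ≤ q) (hd : 3 ≤ d) (h26 : ¬ (q = 2 ∧ d = 6)) :
    ∃ s : ℕ, s.Prime ∧ 5 ≤ s ∧ d + 1 ≤ s ∧ s ∣ q ^ d - 1 ∧ ∀ k, 0 < k → k < d → ¬ s ∣ q ^ k - 1 := by
  obtain ⟨s, hs, ho⟩ := Lib.Zsigmondy.exists_prime_orderOf hq (n := d) (by omega) (by omega) h26
  have hsq : ¬ s ∣ q := by
    intro h
    have := Fact.mk hs
    rw [(ZMod.natCast_eq_zero_iff q s).2 h, orderOf_eq_zero] at ho
    · omega
    · rw [isOfFinOrder_iff_pow_eq_one]
      rintro ⟨n, hn, h⟩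
      rw [zero_pow (by omega)] at h
      exact zero_ne_one h
  have h1 := Lib.Zsigmondy.orderOf_dvd_pred hs hsq
  rw [ho] at h1
  have h2 : d ≤ s - 1 := Nat.le_of_dvd (by have := hs.two_le; omega) h1
  have h3 : s ≠ 4 := by rintro rfl; norm_num at hs
  obtain ⟨h4, h5⟩ := min_of_order (by omega) ho
  exact ⟨s, hs, by omega, by omega, h4, h5⟩

theorem coprime_six {s : ℕ} (hs : s.Prime) (h : 5 ≤ s) : s.Coprime 6 := by
  rw [hs.coprime_iff_not_dvd]
  intro h1
  have h2 := Nat.le_of_dvd (by norm_num) h1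
  interval_cases s
  · exact absurd h1 (by norm_num)
  · exact absurd hs (by norm_num)

/-- a prime `≥ 5` dividing `r ^ e - 1`, `r` of order `n` -/
theorem exists_prime_ge {r n : ℕ} (hr : 2 ≤ r) (hn : 3 ≤ n) : ∃ s : ℕ, s.Prime ∧ 5 ≤ s ∧ s ∣ r ^ n - 1 := by
  by_cases h : r = 2 ∧ n = 6
  · exact ⟨7, by norm_num, by norm_num, by rw [h.1, h.2]; norm_num⟩
  · obtain ⟨s, h1, h2, -, h3, -⟩ := exists_prime_odd hr hn h
    exact ⟨s, h1, h2, h3⟩

/-- **the case `N = 6`, `q = r ^ e`, `e ≥ 3`** -/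
theorem exists_six {r e d : ℕ} (hr : 2 ≤ r) (he : 3 ≤ e) (hd : 2 ≤ d) (h8 : ¬ (r ^ e = 8 ∧ d = 2)) :
    ∃ s : ℕ, s.Coprime 6 ∧ s ∣ (r ^ e) ^ d - 1 ∧ (∀ k, 0 < k → k < d → ¬ s ∣ (r ^ e) ^ k - 1) ∧
      ¬ s ∣ ((r ^ e) ^ d - 1) / (r ^ e - 1) * 2 := by
  have hq : 2 ≤ r ^ e := hr.trans (Nat.le_self_pow (by omega) r)
  obtain ⟨l, hl, hl5, hld⟩ := exists_prime_ge hr he
  have h26 : ¬ (r = 2 ∧ e * d = 6) := by
    rintro ⟨rfl, h⟩
    have h1 : e * 2 ≤ 6 := by rw [← h]; exact Nat.mul_le_mul_left _ hd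
    have h2 : e = 3 := by omega
    subst h2
    have h3 : d = 2 := by omega
    exact h8 ⟨by norm_num, h3⟩
  have hed : 6 ≤ e * d := le_trans (by norm_num) (Nat.mul_le_mul he hd)
  obtain ⟨p, hp, hp5, -, hpd, hpm⟩ := exists_prime_odd hr (show 3 ≤ e * d by omega) h26
  have hpm' : ∀ k, 0 < k → k < d → ¬ p ∣ (r ^ e) ^ k - 1 := by
    intro k h1 h2 h3
    rw [← pow_mul] at h3
    exact hpm (e * k) (Nat.mul_pos (by omega) h1) (Nat.mul_lt_mul_of_pos_left h2 (by omega)) h3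
  have hlp : l ≠ p := by
    rintro rfl
    exact hpm' 1 one_pos (by omega) (by rwa [pow_one])
  obtain ⟨M, hM, hM'⟩ := div_eq (d := d) hq
  have hD0 : (r ^ e) ^ d - 1 ≠ 0 := by
    have : 2 ^ 1 ≤ (r ^ e) ^ d := (Nat.pow_le_pow_left hq 1).trans (Nat.pow_le_pow_right (by omega) (by omega))
    omega
  have hM0 : M ≠ 0 := by rintro rfl; rw [zero_mul] at hM; exact hD0 hM
  obtain ⟨a, ha⟩ : ∃ a, a = padicValNat l ((r ^ e) ^ d - 1) := ⟨_, rfl⟩
  have hlF : Fact l.Prime := ⟨hl⟩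
  have hla : l ^ a ∣ (r ^ e) ^ d - 1 := by rw [ha]; exact pow_padicValNat_dvd
  have hcop : Nat.Coprime p (l ^ a) := Nat.Coprime.pow_right _ ((Nat.coprime_primes hp hl).2 hlp.symm)
  refine ⟨p * l ^ a, ?_, ?_, ?_, ?_⟩
  · exact Nat.Coprime.mul_left (coprime_six hp hp5) ((coprime_six hl hl5).pow_left _)
  · refine Nat.Coprime.mul_dvd_of_dvd_of_dvd hcop ?_ hla
    rw [← pow_mul]; exact hpd
  · intro k h1 h2 h3
    exact hpm' k h1 h2 ((dvd_mul_right _ _).trans h3)
  · intro h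
    rw [hM'] at h
    have h1 : l ^ a ∣ M * 2 := (dvd_mul_left _ _).trans h
    have h2 : (l ^ a).Coprime 2 := Nat.Coprime.pow_left _ ((Nat.coprime_primes hl Nat.prime_two).2 (by omega))
    have h3 : l ^ a ∣ M := h2.dvd_of_dvd_mul_right h1
    have h4 : a = padicValNat l M + padicValNat l (r ^ e - 1) := by
      rw [ha, hM, padicValNat.mul hM0 (by omega)]
    have h5 : 1 ≤ padicValNat l (r ^ e - 1) := one_le_padicValNat_of_dvd (by omega) hld
    have h6 : a ≤ padicValNat l M := (padicValNat_dvd_iff_le hM0).1 h3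
    omega

/-- **the case `N = r ≥ 5`** -/
theorem exists_own {q d r : ℕ} (hr : r ∣ q) (hq : 4 ≤ q) (hd : 2 ≤ d) :
    ∃ s : ℕ, s.Coprime r ∧ s ∣ q ^ d - 1 ∧ (∀ k, 0 < k → k < d → ¬ s ∣ q ^ k - 1) ∧
      ¬ s ∣ (q ^ d - 1) / (q - 1) * 2 := by
  obtain ⟨M, hM, hM'⟩ := div_eq (q := q) (d := d) (by omega)
  have hpow : ∀ k, 1 ≤ q ^ k := fun k => Nat.one_le_pow _ _ (by omega)
  refine ⟨q ^ d - 1, ?_, dvd_rfl, ?_, ?_⟩
  · have h1 : (q ^ d - 1).Coprime (q ^ d) := by
      have := Nat.coprime_self_add_right (m := q ^ d - 1) (n := 1)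
      rw [Nat.sub_add_cancel (hpow d)] at this
      exact this.2 (Nat.coprime_one_right _)
    exact h1.coprime_dvd_right (hr.trans (dvd_pow_self q (by omega)))
  · intro k h1 h2 h3
    have h4 : q ^ k < q ^ d := Nat.pow_lt_pow_right (by omega) h2
    have h5 : q ^ 1 ≤ q ^ k := Nat.pow_le_pow_right (by omega) h1
    rw [pow_one] at h5
    have h6 := Nat.le_of_dvd (by omega) h3
    omega
  · intro h
    rw [hM', hM] at h
    have hM0 : 0 < M := by
      rcases Nat.eq_zero_or_pos M with h0 | h0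
      · rw [h0, zero_mul] at hM
        have : q ^ 1 ≤ q ^ d := Nat.pow_le_pow_right (by omega) (by omega)
        rw [pow_one] at this
        omega
      · exact h0
    have h1 := Nat.le_of_dvd (by omega) h
    have h2 := Nat.le_of_mul_le_mul_left h1 hM0
    omega

end Cfsg.Agent.H126.PwO
end

-- part: H126/PwO/Asm
section
prune_inst 0x40024043040000800182502220000400800000200080800808000000d4100422944086182300012102008c04008006811100100420000000a000c0000000000808040008248010c460087800000000000000000000000000000000000010000000000000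
set_option linter.all false
open scoped Cfsg.Agent.FastGrp

-- part: H126/PwO/Step
section
/-!
# S2465, orthogonal groups: products of two elements of prescribed order (helper126)

* `PrO N Q g` : `g = a * b`, `a, b ∈ Om Q`, `a ^ s = 1`, `b ^ t = 1`, `s, t` prime to `N`.
* `stepPr` : `g = u₁ * lev A g₁ * u₂`, `A = X * Y`, `g₁ = x * y`.
* `prO_of_corner` : the case of Schur complement `1`.
-/

set_option autoImplicit false
set_option linter.unusedSectionVars false

namespace Cfsg.Agent.H126.PwO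

open QuadraticMap Matrix Cfsg.Agent.LieClassical.OrthCore Cfsg.Agent.LieClassical.OrthTrans
  Cfsg.Agent.LieClassical.OrthFinite Cfsg.Agent.H140.OreO

variable {F V V' : Type*} [Field F] [AddCommGroup V] [Module F V] [AddCommGroup V'] [Module F V'] {n : ℕ}
  {Q : QuadraticForm F V} {Q' : QuadraticForm F V'}

/-- `g` is a product of two elements of `Ω` of order prime to `N`. -/
def PrO (N : ℕ) (Q : QuadraticForm F V) (g : V ≃ₗ[F] V) : Prop :=
  ∃ a ∈ Om Q, ∃ b ∈ Om Q, ∃ s t : ℕ, g = a * b ∧ s.Coprime N ∧ t.Coprime N ∧ a ^ s = 1 ∧ b ^ t = 1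

theorem PrO.of_autE {N : ℕ} {e : V ≃ₗ[F] V'} (he : ∀ v, Q' (e v) = Q v) {g : V ≃ₗ[F] V}
    (h : PrO N Q' (autE e g)) : PrO N Q g := by
  obtain ⟨a', ha', b', hb', s, t, e', hs, ht, has, hbt⟩ := h
  obtain ⟨a, rfl⟩ := (autE e).surjective a'
  obtain ⟨b, rfl⟩ := (autE e).surjective b'
  refine ⟨a, (autE_mem_Om he).1 ha', b, (autE_mem_Om he).1 hb', s, t, ?_, hs, ht, ?_, ?_⟩
  · apply (autE e).injective
    rw [e', map_mul]
  · apply (autE e).injective
    rw [map_pow, has, map_one]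
  · apply (autE e).injective
    rw [map_pow, hbt, map_one]

theorem mulVec_inv_cancel (X : GL (Fin n) F) (a : Fin n → F) :
    ((X⁻¹ : GL (Fin n) F) : Matrix (Fin n) (Fin n) F) *ᵥ ((X : Matrix (Fin n) (Fin n) F) *ᵥ a) = a := by
  rw [mulVec_mulVec, ← Units.val_mul, inv_mul_cancel, Units.val_one, one_mulVec]

theorem inv_apply_eq' {h : V ≃ₗ[F] V} {x y : V} : h⁻¹ x = y ↔ x = h y := LinearEquiv.symm_apply_eq h

theorem Cop.inv {X : GL (Fin n) F} {h : V ≃ₗ[F] V} (hc : Cop X h) : Cop X⁻¹ h⁻¹ := by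
  have hti : ti X⁻¹ = (ti X)⁻¹ := ti_inv X
  refine ⟨fun f hf => hc.a f fun a => ?_, fun f hf => hc.b f fun v => ?_, fun f h0 hf => hc.c f h0 fun a => ?_,
    fun f hf => hc.a' f fun a => ?_, fun f hf => hc.b' f fun v => ?_, fun f h0 hf => hc.c' f h0 fun a => ?_⟩
  · have h1 := hf ((X : Matrix (Fin n) (Fin n) F) *ᵥ a)
    rw [mulVec_inv_cancel] at h1
    exact inv_apply_eq'.1 h1.symm
  · have h1 := hf (h v)
    have h2 : h⁻¹ (h v) = v := LinearEquiv.symm_apply_apply h v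
    rw [h2, hti] at h1
    have h3 := mulVec_inv_cancel (ti X)⁻¹ (f (h v))
    rw [inv_inv, ← h1] at h3
    exact h3.symm
  · have h1 := hf ((X : Matrix (Fin n) (Fin n) F) *ᵥ a)
    rw [mulVec_inv_cancel, hti] at h1
    have h3 := mulVec_inv_cancel (ti X)⁻¹ (f ((X : Matrix (Fin n) (Fin n) F) *ᵥ a))
    rw [inv_inv, ← h1] at h3
    exact h3.symm
  · have h1 := hf ((ti X : Matrix (Fin n) (Fin n) F) *ᵥ a)
    rw [hti, mulVec_inv_cancel] at h1
    exact inv_apply_eq'.1 h1.symm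
  · have h1 := hf (h v)
    have h2 : h⁻¹ (h v) = v := LinearEquiv.symm_apply_apply h v
    rw [h2] at h1
    have h3 := mulVec_inv_cancel X⁻¹ (f (h v))
    rw [inv_inv, ← h1] at h3
    exact h3.symm
  · have h1 := hf ((ti X : Matrix (Fin n) (Fin n) F) *ᵥ a)
    rw [hti, mulVec_inv_cancel] at h1
    have h3 := mulVec_inv_cancel X⁻¹ (f ((ti X : Matrix (Fin n) (Fin n) F) *ᵥ a))
    rw [inv_inv, ← h1] at h3
    exact h3.symm

/-- elements of odd order are in `Ω` -/
theorem mem_Om_of_pow [FiniteDimensional F V] (hG : Good Q) {g : V ≃ₗ[F] V} (hg : g ∈ O Q) {s : ℕ}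
    (hs : Odd s) (h : g ^ s = 1) : g ∈ Om Q := by
  let H : Subgroup (Abelianization (O Q)) :=
    { carrier := {a | a * a = 1}
      one_mem' := mul_one 1
      mul_mem' := fun {a b} ha hb => by
        change a * b * (a * b) = 1
        have ha' : a * a = 1 := ha
        have hb' : b * b = 1 := hb
        rw [mul_mul_mul_comm, ha', hb', mul_one]
      inv_mem' := fun {a} ha => by
        change a⁻¹ * a⁻¹ = 1
        have ha' : a * a = 1 := ha
        rw [← _root_.mul_inv_rev, ha', inv_one] }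
  have h1 : H141.SpinFacts.pj Q ⟨g, hg⟩ * H141.SpinFacts.pj Q ⟨g, hg⟩ = 1 :=
    H141.SpinFacts.pj_mem hG H (fun v hv => H141.SpinFacts.pj_rO_sq hv) ⟨g, hg⟩
  have h2 : (⟨g, hg⟩ : O Q) ^ s = 1 := Subtype.ext h
  obtain ⟨k, rfl⟩ := hs
  have h3 := congrArg (H141.SpinFacts.pj Q) h2
  rw [map_pow, map_one, pow_succ, pow_mul, pow_two, h1, one_pow, one_mul] at h3
  exact (H141.SpinFacts.pj_eq_one_iff _).1 h3

section Fin

variable [Finite F] [FiniteDimensional F V]

/-- **STEP.** -/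
theorem stepPr {A X Y : GL (Fin n) F} {g₁ x y : V ≃ₗ[F] V} {u₁ u₂ : M F V n ≃ₗ[F] M F V n}
    (hu₁ : u₁ ∈ Um n Q) (hu₂ : u₂ ∈ Up n Q) (hA : A = X * Y) (hg : g₁ = x * y) (hx : x ∈ O Q) (hy : y ∈ O Q)
    (hXx : Cop X x) (hYy : Cop Y y) :
    ∃ v₁ ∈ Om (MQ n Q), ∃ v₂ ∈ Om (MQ n Q),
      u₁ * lev A g₁ * u₂ = (v₁ * lev X x * v₁⁻¹) * (v₂ * lev Y y * v₂⁻¹) := by
  obtain ⟨v₁, -, hv₁', e₁⟩ := hXx.exists_um hx hu₁
  obtain ⟨v₂, -, hv₂', e₂⟩ := hYy.exists_up hy (lev_conj_Up (A := Y) hy hu₂)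
  refine ⟨v₁, hv₁', v₂, hv₂', ?_⟩
  rw [← e₁, ← e₂, hA, hg, lev_mul]
  group

theorem lev_pow (A : GL (Fin n) F) (h : V ≃ₗ[F] V) (s : ℕ) : lev A h ^ s = lev (A ^ s) (h ^ s) := by
  induction s with
  | zero => rw [pow_zero, pow_zero, pow_zero, lev_one]
  | succ s ih => rw [pow_succ, pow_succ, pow_succ, ih, lev_mul]

/-- **model form** -/
theorem prO_model {N : ℕ} {g : M F V n ≃ₗ[F] M F V n} {X Y : GL (Fin n) F} {g₁ x y : V ≃ₗ[F] V}
    {u₁ u₂ : M F V n ≃ₗ[F] M F V n}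
    (hu₁ : u₁ ∈ Um n Q) (hu₂ : u₂ ∈ Up n Q) (hgu : g = u₁ * lev (X * Y) g₁ * u₂) (hg₁ : g₁ = x * y)
    (hx : x ∈ O Q) (hy : y ∈ O Q) (hXx : Cop X x) (hYy : Cop Y y)
    (hXO : lev X x ∈ Om (MQ n Q)) (hYO : lev Y y ∈ Om (MQ n Q))
    {s t : ℕ} (hs : s.Coprime N) (ht : t.Coprime N) (hXs : X ^ s = 1) (hxs : x ^ s = 1) (hYt : Y ^ t = 1)
    (hyt : y ^ t = 1) : PrO N (MQ n Q) g := by
  obtain ⟨v₁, hv₁, v₂, hv₂, e⟩ := stepPr hu₁ hu₂ rfl hg₁ hx hy hXx hYy
  refine ⟨_, (Om _).mul_mem ((Om _).mul_mem hv₁ hXO) ((Om _).inv_mem hv₁), _,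
    (Om _).mul_mem ((Om _).mul_mem hv₂ hYO) ((Om _).inv_mem hv₂), s, t, by rw [hgu, e], hs, ht, ?_, ?_⟩
  · rw [conj_pow, lev_pow, hXs, hxs, lev_one, mul_one, mul_inv_cancel]
  · rw [conj_pow, lev_pow, hYt, hyt, lev_one, mul_one, mul_inv_cancel]

/-- the Schur complement -/
theorem schur_one_of {g : M F V n ≃ₗ[F] M F V n} {A : GL (Fin n) F} {g₁ : V ≃ₗ[F] V}
    {u₁ u₂ : M F V n ≃ₗ[F] M F V n} (hu₁ : u₁ ∈ Um n Q) (hu₂ : u₂ ∈ Up n Q) (e : g = u₁ * lev A g₁ * u₂)
    {v v' : V} {c d : Fin n → F} (h : g (c, v, 0) = (0, v', d)) : g₁ v = v' := by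
  have h1 : (u₂ (c, v, 0)).2.1 = v := hu₂.2.2.1 _ rfl
  have h3 : u₁ (lev A g₁ (u₂ (c, v, 0))) = (0, v', d) := by
    rw [← h, e]; rfl
  have h4 : (lev A g₁ (u₂ (c, v, 0))).1 = 0 := by
    rw [← hu₁.2.1, h3]
  have h5 := hu₁.2.2.1 _ h4
  rw [h3, lev_apply, h1] at h5
  exact h5.symm

/-- **Schur complement `1`.** -/
theorem prO_of_corner {N m : ℕ} (hN : 5 ≤ Module.finrank F V) {w w' : Fin m → V} (hQ : Nondeg Q)
    (hf : Frame Q w w') {g : V ≃ₗ[F] V} (hg : g ∈ O Q)
    (hS : SchurOne Q g w w') {X Y : GL (Fin m) F}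
    (hXY : corner Q g w w' = ((X * Y : GL (Fin m) F) : Matrix (Fin m) (Fin m) F))
    {x : perp Q w w' ≃ₗ[F] perp Q w w'} (hx : x ∈ O (res Q w w'))
    (hXx : Cop X x) (hYy : Cop Y x⁻¹)
    (hX : (X : Matrix (Fin m) (Fin m) F).det = 1) (hY : (Y : Matrix (Fin m) (Fin m) F).det = 1)
    {k : ℕ} (hk : Odd k) (hxk : x ^ k = 1)
    {s t : ℕ} (hs : s.Coprime N) (ht : t.Coprime N) (hXs : X ^ s = 1) (hxs : x ^ s = 1) (hYt : Y ^ t = 1)
    (hyt : x ^ t = 1) : PrO N Q g := by
  have he : ∀ v, MQ m (res Q w w') (hf.toModel v) = Q v := hf.MQ_toModel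
  have hQ1 := hf.nondeg_res hQ
  have hG : Good (MQ m (res Q w w')) := by
    apply good_of_finite (nondeg_MQ hQ1)
    rw [← hf.toModel.finrank_eq]; omega
  refine PrO.of_autE he ?_
  obtain ⟨u₁, hu₁, g₁, hg₁, u₂, hu₂, e⟩ := decomp ((autE_mem_O he).2 hg) (X * Y) (fun a => by
    rw [corner_model, hXY])
  have h1 : g₁ = 1 := by
    apply LinearEquiv.ext
    intro v
    obtain ⟨c, d, hcd⟩ := schur_model hf hS v
    exact schur_one_of hu₁ hu₂ e hcd
  have hO : ∀ (Z : GL (Fin m) F) (z : perp Q w w' ≃ₗ[F] perp Q w w'), (Z : Matrix (Fin m) (Fin m) F).det = 1 →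
      z ∈ O (res Q w w') → z ^ k = 1 → lev Z z ∈ Om (MQ m (res Q w w')) := by
    intro Z z hZ hz hzk
    have h2 : lev Z z = lev Z 1 * lev 1 z := by rw [← lev_mul, mul_one, one_mul]
    rw [h2]
    refine (Om _).mul_mem (lev_det_one_mem hG hZ) (mem_Om_of_pow hG (lev_mem hz) hk ?_)
    rw [lev_pow, one_pow, hzk, lev_one]
  refine prO_model hu₁ hu₂ e (x := x) (y := x⁻¹) ?_ hx ((O _).inv_mem hx) hXx hYy (hO X x hX hx hxk)
    (hO Y x⁻¹ hY ((O _).inv_mem hx) (by rw [inv_pow, hxk, inv_one])) hs ht hXs hxs hYt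
    (by rw [inv_pow, hyt, inv_one])
  rw [h1, mul_inv_cancel]

end Fin

end Cfsg.Agent.H126.PwO
end

-- part: H126/PwO/Crit
section
/-!
# S2465, orthogonal groups: criteria for `Cop` (helper126)
-/

set_option autoImplicit false
set_option linter.unusedSectionVars false

namespace Cfsg.Agent.H126.PwO

open QuadraticMap Matrix Polynomial Cfsg.Agent.LieClassical.OrthCore Cfsg.Agent.LieClassical.OrthTrans
  Cfsg.Agent.LieClassical.OrthFinite Cfsg.Agent.H140.OreO

variable {F V : Type*} [Field F] [AddCommGroup V] [Module F V] {n : ℕ} {Q : QuadraticForm F V}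

theorem inj_of_coprime {A : Matrix (Fin n) (Fin n) F} {f P : F[X]} (hP : aeval A P = 0) (h : IsCoprime f P)
    (w : Fin n → F) (hw : aeval (toLin' A) f w = 0) : w = 0 :=
  inj_of_unit (Un.of_coprime_mat hP h) w hw

/-- alternating intertwiners, `1` a simple eigenvalue -/
theorem alt_zero {A B : Matrix (Fin n) (Fin n) F} {f P : F[X]} (hA : aeval A ((X - 1) * f) = 0)
    (hf1 : f.eval 1 ≠ 0) (hE : Module.finrank F (Module.End.eigenspace (toLin' A) 1) ≤ 1)
    (hB : aeval B P = 0) (hfP : IsCoprime f P) (φ : (Fin n → F) →ₗ[F] (Fin n → F))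
    (h0 : ∀ a, a ⬝ᵥ φ a = 0) (hφ : ∀ a, φ (A *ᵥ a) = B *ᵥ φ a) : φ = 0 := by
  have hanti : ∀ a b, a ⬝ᵥ φ b = - (b ⬝ᵥ φ a) := by
    intro a b
    have h1 := h0 (a + b)
    rw [map_add, add_dotProduct, dotProduct_add, dotProduct_add, h0, h0, zero_add, add_zero] at h1
    exact eq_neg_of_add_eq_zero_left h1
  have hint : ∀ (c : F[X]) a, φ (aeval (toLin' A) c a) = aeval (toLin' B) c (φ a) := fun c a =>
    intertwine φ (toLin' A) (toLin' B) hφ c a
  have hker : ∀ a, aeval (toLin' A) f a = 0 → φ a = 0 := by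
    intro a ha
    apply inj_of_coprime hB hfP
    rw [← hint, ha, map_zero]
  have hA' : aeval (toLin' A) ((X - 1) * f) = 0 := by rw [aeval_toLin', hA, map_zero]
  have hcop : IsCoprime (X - 1 : F[X]) f := by
    have h1 : IsCoprime (X - C 1 : F[X]) f := by
      rw [(irreducible_X_sub_C (1 : F)).coprime_iff_not_dvd, dvd_iff_isRoot]
      exact hf1
    rwa [C_1] at h1
  obtain ⟨r, s, hrs⟩ := hcop
  obtain ⟨e, he⟩ := finrank_le_one_iff.1 hE
  -- decomposition
  have hdec : ∀ a, ∃ t : F, ∃ a₀, φ a₀ = 0 ∧ a = a₀ + t • (e : Fin n → F) := by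
    intro a
    have h1 : aeval (toLin' A) (s * f) a ∈ Module.End.eigenspace (toLin' A) 1 := by
      rw [Module.End.mem_eigenspace_iff, one_smul]
      have h2 : aeval (toLin' A) (X - 1 : F[X]) (aeval (toLin' A) (s * f) a) = 0 := by
        rw [← Module.End.mul_apply, ← map_mul]
        have h3 : (X - 1) * (s * f) = s * ((X - 1) * f) := by ring
        rw [h3, map_mul, hA', mul_zero, LinearMap.zero_apply]
      rw [map_sub, aeval_X, map_one, LinearMap.sub_apply, Module.End.one_apply, sub_eq_zero] at h2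
      exact h2
    obtain ⟨t, ht⟩ := he ⟨_, h1⟩
    refine ⟨t, aeval (toLin' A) (r * (X - 1)) a, hker _ ?_, ?_⟩
    · rw [← Module.End.mul_apply, ← map_mul]
      have h3 : f * (r * (X - 1)) = r * ((X - 1) * f) := by ring
      rw [h3, map_mul, hA', mul_zero, LinearMap.zero_apply]
    · have h4 : t • (e : Fin n → F) = aeval (toLin' A) (s * f) a := congrArg Subtype.val ht
      rw [h4, ← LinearMap.add_apply, ← map_add, hrs, map_one, Module.End.one_apply]
  have he0 : φ e = 0 := by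
    rw [← dotProduct_eq_zero_iff]
    intro b
    obtain ⟨t, b₀, hb₀, rfl⟩ := hdec b
    rw [dotProduct_comm, hanti, map_add, hb₀, zero_add, map_smul, dotProduct_smul, h0, smul_zero, neg_zero]
  apply LinearMap.ext
  intro a
  obtain ⟨t, a₀, ha₀, rfl⟩ := hdec a
  rw [map_add, ha₀, map_smul, he0, smul_zero, add_zero, LinearMap.zero_apply]

theorem finrank_eig_le {A : Matrix (Fin n) (Fin n) F} {f : F[X]} (hA : A.charpoly = (X - 1) * f)
    (hf1 : f.eval 1 ≠ 0) : Module.finrank F (Module.End.eigenspace (toLin' A) 1) ≤ 1 := by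
  refine (LinearMap.finrank_eigenspace_le _ _).trans ?_
  have hf0 : f ≠ 0 := by rintro rfl; rw [eval_zero] at hf1; exact hf1 rfl
  have h0 : (X - C 1 : F[X]) * f ≠ 0 := mul_ne_zero (X_sub_C_ne_zero 1) hf0
  rw [Matrix.charpoly_toLin', hA, ← C_1, rootMultiplicity_mul h0, rootMultiplicity_X_sub_C_self,
    rootMultiplicity_eq_zero (by exact hf1)]

/-- **`1` is a simple eigenvalue of `X`.** -/
theorem cop_of_fix {A : GL (Fin n) F} {h : V ≃ₗ[F] V} {f : F[X]}
    (hA : (A : Matrix (Fin n) (Fin n) F).charpoly = (X - 1) * f)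
    (hf1 : f.eval 1 ≠ 0) (hf : IsCoprime f f.reverse) (h1 : Un (h : Module.End F V) ((X - 1) * f))
    (h2 : Un (h : Module.End F V) ((X - 1) * f).reverse) : Cop A h := by
  have hrev : ((X - 1) * f : F[X]).reverse = (1 - X) * f.reverse := by
    rw [reverse_mul_of_domain]
    congr 1
    rw [reverse, ← C_1, natDegree_X_sub_C, reflect_sub, reflect_one_X, reflect_C, C_1, one_mul, pow_one]
  have hP : aeval (A : Matrix (Fin n) (Fin n) F) ((X - 1) * f) = 0 := by
    rw [← hA]; exact aeval_self_charpoly _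
  have hP' : aeval (ti A : Matrix (Fin n) (Fin n) F) ((1 - X) * f.reverse) = 0 := by
    rw [← hrev, ← hA]; exact aeval_ti_reverse A
  have hP'' : aeval (ti A : Matrix (Fin n) (Fin n) F) ((X - 1) * f.reverse) = 0 := by
    have : ((X - 1) * f.reverse : F[X]) = - ((1 - X) * f.reverse) := by ring
    rw [this, map_neg, hP', neg_zero]
  have hcf : IsCoprime f (X - 1 : F[X]) := by
    have h3 : IsCoprime (X - C 1 : F[X]) f := by
      rw [(irreducible_X_sub_C (1 : F)).coprime_iff_not_dvd, dvd_iff_isRoot]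
      exact hf1
    rw [C_1] at h3
    exact h3.symm
  have hr1 : f.reverse.eval 1 ≠ 0 := by
    letI : Invertible (1 : F) := invertibleOne
    have h3 := eval₂_reverse_mul_pow (RingHom.id F) (1 : F) f
    rw [invOf_one, one_pow, mul_one] at h3
    change eval₂ (RingHom.id F) 1 f.reverse ≠ 0
    rw [h3]
    exact hf1
  have hcf' : IsCoprime f.reverse (X - 1 : F[X]) := by
    have h3 : IsCoprime (X - C 1 : F[X]) f.reverse := by
      rw [(irreducible_X_sub_C (1 : F)).coprime_iff_not_dvd, dvd_iff_isRoot]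
      exact hr1
    rw [C_1] at h3
    exact h3.symm
  have c1 : IsCoprime f ((1 - X) * f.reverse) := by
    refine IsCoprime.mul_right ?_ hf
    rw [← IsCoprime.neg_right_iff, neg_sub]
    exact hcf
  have c2 : IsCoprime f.reverse ((X - 1) * f) := IsCoprime.mul_right hcf' hf.symm
  have hE' : Module.finrank F (Module.End.eigenspace (toLin' (ti A : Matrix (Fin n) (Fin n) F)) 1) ≤ 1 := by
    have h3 : Module.End.eigenspace (toLin' (ti A : Matrix (Fin n) (Fin n) F)) 1 =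
        Module.End.eigenspace (toLin' (A : Matrix (Fin n) (Fin n) F)ᵀ) 1 := by
      have h4 : (A : Matrix (Fin n) (Fin n) F)ᵀ * (ti A : Matrix (Fin n) (Fin n) F) = 1 := (ti A).inv_val
      have h5 : (ti A : Matrix (Fin n) (Fin n) F) * (A : Matrix (Fin n) (Fin n) F)ᵀ = 1 := (ti A).val_inv
      ext a
      rw [Module.End.mem_eigenspace_iff, Module.End.mem_eigenspace_iff, one_smul, toLin'_apply, toLin'_apply]
      constructor
      · intro h6
        conv_lhs => rw [← h6]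
        rw [mulVec_mulVec, h4, one_mulVec]
      · intro h6
        conv_lhs => rw [← h6]
        rw [mulVec_mulVec, h5, one_mulVec]
    rw [h3]
    apply finrank_eig_le (f := f) _ hf1
    rw [charpoly_transpose, hA]
  refine ⟨fun f' hf' => ?_, fun f' hf' => ?_, fun f' h0 hf' => ?_, fun f' hf' => ?_, fun f' hf' => ?_,
    fun f' h0 hf' => ?_⟩
  · apply LinearMap.ext
    intro a
    apply inj_of_unit h1
    have := intertwine f' (Matrix.toLin' (A : Matrix (Fin n) (Fin n) F)) (h : Module.End F V) hf'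
      ((X - 1) * f) a
    rw [← this, aeval_toLin', hP, map_zero, LinearMap.zero_apply, map_zero]
  · apply LinearMap.ext
    intro v
    obtain ⟨w, rfl⟩ := surj_of_unit h2 v
    have := intertwine f' (h : Module.End F V) (Matrix.toLin' (ti A : Matrix (Fin n) (Fin n) F)) hf'
      ((X - 1) * f).reverse w
    rw [this, aeval_toLin', hrev, hP', map_zero, LinearMap.zero_apply, LinearMap.zero_apply]
  · exact alt_zero hP hf1 (finrank_eig_le hA hf1) hP' c1 f' h0 hf'
  · apply LinearMap.ext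
    intro a
    apply inj_of_unit h2
    have := intertwine f' (Matrix.toLin' (ti A : Matrix (Fin n) (Fin n) F)) (h : Module.End F V) hf'
      ((X - 1) * f).reverse a
    rw [← this, aeval_toLin', hrev, hP', map_zero, LinearMap.zero_apply, map_zero]
  · apply LinearMap.ext
    intro v
    obtain ⟨w, rfl⟩ := surj_of_unit h1 v
    have := intertwine f' (h : Module.End F V) (Matrix.toLin' (A : Matrix (Fin n) (Fin n) F)) hf'
      ((X - 1) * f) w
    rw [this, aeval_toLin', hP, map_zero, LinearMap.zero_apply, LinearMap.zero_apply]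
  · exact alt_zero hP'' hr1 hE' hP c2 f' h0 hf'

end Cfsg.Agent.H126.PwO
end

-- part: H126/PwO/Asm
section
/-!
# S2465, orthogonal groups: from a corner and two polynomials to a product (helper126)

* `CopP p h` : every `X` with characteristic polynomial `p` satisfies `Cop X h`;
* `split` : `A = X * Y` with prescribed characteristic polynomials (helper962's theorem);
* `prO_pol` : Schur complement `1`, corner `A`.
-/

set_option autoImplicit false
set_option linter.unusedSectionVars false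

namespace Cfsg.Agent.H126.PwO

open QuadraticMap Matrix Polynomial Cfsg.Agent.LieClassical.OrthCore Cfsg.Agent.LieClassical.OrthTrans
  Cfsg.Agent.LieClassical.OrthFinite Cfsg.Agent.H140.OreO

variable {F V : Type*} [Field F] [AddCommGroup V] [Module F V] {m : ℕ} {Q : QuadraticForm F V}

/-- every `X` with characteristic polynomial `p` satisfies `Cop X h` -/
def CopP (m : ℕ) (p : F[X]) (h : V ≃ₗ[F] V) : Prop :=
  ∀ X : GL (Fin m) F, (X : Matrix (Fin m) (Fin m) F).charpoly = p → Cop X h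

theorem copP_of_cop {p : F[X]} {h : V ≃ₗ[F] V} (h1 : Un (h : Module.End F V) p)
    (h2 : Un (h : Module.End F V) p.reverse) (h3 : IsCoprime p p.reverse) : CopP m p h := by
  intro X hX
  apply cop_of_charpoly <;> rw [hX] <;> assumption

theorem copP_of_fix {f : F[X]} {h : V ≃ₗ[F] V} (hf1 : f.eval 1 ≠ 0) (hf : IsCoprime f f.reverse)
    (h1 : Un (h : Module.End F V) ((X - 1) * f)) (h2 : Un (h : Module.End F V) ((X - 1) * f).reverse) :
    CopP m ((X - 1) * f) h := by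
  intro X hX
  exact cop_of_fix hX hf1 hf h1 h2

theorem det_of_charpoly {X : Matrix (Fin m) (Fin m) F} {p : F[X]} (hX : X.charpoly = p)
    (hp : (-1) ^ m * p.coeff 0 = 1) : X.det = 1 := by
  rw [det_eq_sign_charpoly_coeff, hX, Fintype.card_fin, hp]

theorem pow_of_charpoly {X : GL (Fin m) F} {p : F[X]} (hX : (X : Matrix (Fin m) (Fin m) F).charpoly = p) {s : ℕ}
    (hs : p ∣ Polynomial.X ^ s - 1) : X ^ s = 1 := by
  apply Units.ext
  rw [Units.val_pow_eq_pow_val, Units.val_one]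
  exact H962.PP.pow_eq_one_of_charpoly (by rw [hX]; exact hs)

/-- products with prescribed characteristic polynomials -/
theorem split {k : ℕ} {A : Matrix (Fin (k + 2)) (Fin (k + 2)) F} (hdet : A.det = 1)
    (hA : A = 1 ∨ ∀ c : F, A ≠ c • (1 : Matrix (Fin (k + 2)) (Fin (k + 2)) F)) {p f : F[X]} {c : F}
    (hp : p.Monic) (hpd : p.natDegree = k + 2) (hp0 : (-1) ^ (k + 2) * p.coeff 0 = 1)
    (hf : f.Monic) (hfd : f.natDegree = k + 1) (hf0 : (-1) ^ (k + 1) * f.coeff 0 * c = 1) :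
    ∃ X Y : GL (Fin (k + 2)) F, A = ((X * Y : GL (Fin (k + 2)) F) : Matrix (Fin (k + 2)) (Fin (k + 2)) F) ∧
      (X : Matrix (Fin (k + 2)) (Fin (k + 2)) F).charpoly = p ∧
      ((Y : Matrix (Fin (k + 2)) (Fin (k + 2)) F).charpoly = (Polynomial.X - C c) * f ∨ Y = X⁻¹) := by
  have hp0' : p.coeff 0 ≠ 0 := by rintro h; rw [h, mul_zero] at hp0; exact zero_ne_one hp0
  have hf0' : f.coeff 0 ≠ 0 := by rintro h; rw [h, mul_zero, zero_mul] at hf0; exact zero_ne_one hf0
  rcases hA with rfl | hA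
  · obtain ⟨X, hX⟩ := exists_matrix p hp hp0' hpd
    exact ⟨X, X⁻¹, by rw [mul_inv_cancel, Units.val_one], hX, Or.inr rfl⟩
  · have hsc : ∀ c : F, A ≠ scalar (Fin (k + 2)) c := by
      intro c hc
      apply hA c
      rw [hc, scalar_apply, smul_one_eq_diagonal]
    obtain ⟨x, y, hxy, hxp, -, c', hc0, hyc⟩ := H962.PP.exists_mul A (by rw [hdet]; exact one_ne_zero)
      hsc hp hpd hp0' hf hfd hf0'
    have hxdet : x.det = 1 := det_of_charpoly hxp hp0
    have hydet : y.det = 1 := by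
      have h1 := hdet
      rwa [hxy, det_mul, hxdet, one_mul] at h1
    have hc : c' = c := by
      rw [det_eq_sign_charpoly_coeff, hyc, Fintype.card_fin, mul_coeff_zero, coeff_sub,
        coeff_X_zero, coeff_C_zero, zero_sub] at hydet
      have h1 : (-1 : F) ^ (k + 2) * (-c' * f.coeff 0) = c' * ((-1) ^ (k + 1) * f.coeff 0) := by ring
      rw [h1] at hydet
      have h2 : (-1 : F) ^ (k + 1) * f.coeff 0 ≠ 0 :=
        mul_ne_zero (pow_ne_zero _ (neg_ne_zero.2 one_ne_zero)) hf0'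
      apply mul_right_cancel₀ h2
      rw [hydet, mul_comm c, hf0]
    obtain ⟨X, hX⟩ : ∃ X : GL (Fin (k + 2)) F, (X : Matrix _ _ F) = x :=
      ⟨Matrix.GeneralLinearGroup.mkOfDetNeZero x (by rw [hxdet]; exact one_ne_zero), rfl⟩
    obtain ⟨Y, hY⟩ : ∃ Y : GL (Fin (k + 2)) F, (Y : Matrix _ _ F) = y :=
      ⟨Matrix.GeneralLinearGroup.mkOfDetNeZero y (by rw [hydet]; exact one_ne_zero), rfl⟩
    refine ⟨X, Y, ?_, by rw [hX, hxp], Or.inl ?_⟩
    · rw [Units.val_mul, hX, hY, hxy]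
    · rw [hY, hyc, hc]

/-- **Schur complement `1` and two polynomials.** -/
theorem prO_pol [Finite F] [FiniteDimensional F V] {N k : ℕ} (hN : 5 ≤ Module.finrank F V)
    {w w' : Fin (k + 2) → V} (hQ : Nondeg Q)
    (hf : Frame Q w w') {g : V ≃ₗ[F] V} (hg : g ∈ O Q) (hS : SchurOne Q g w w')
    (hdet : (corner Q g w w').det = 1)
    (hA : corner Q g w w' = 1 ∨ ∀ c : F, corner Q g w w' ≠ c • (1 : Matrix (Fin (k + 2)) (Fin (k + 2)) F))
    {p f : F[X]} {c : F} (hp : p.Monic) (hpd : p.natDegree = k + 2) (hp0 : (-1) ^ (k + 2) * p.coeff 0 = 1)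
    (hfm : f.Monic) (hfd : f.natDegree = k + 1) (hf0 : (-1) ^ (k + 1) * f.coeff 0 * c = 1)
    {x : perp Q w w' ≃ₗ[F] perp Q w w'} (hx : x ∈ O (res Q w w'))
    (h1 : CopP (k + 2) p x) (h2 : CopP (k + 2) ((Polynomial.X - C c) * f) x⁻¹)
    {j : ℕ} (hj : Odd j) (hxj : x ^ j = 1) {s t : ℕ} (hs : s.Coprime N) (ht : t.Coprime N)
    (hps : p ∣ Polynomial.X ^ s - 1) (hft : (Polynomial.X - C c) * f ∣ Polynomial.X ^ t - 1)
    (hxs : x ^ s = 1) (hxt : x ^ t = 1) : PrO N Q g := by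
  obtain ⟨X, Y, hXY, hX, hY⟩ := split hdet hA hp hpd hp0 hfm hfd hf0
  have hXd : (X : Matrix (Fin (k + 2)) (Fin (k + 2)) F).det = 1 := det_of_charpoly hX hp0
  have hXs : X ^ s = 1 := pow_of_charpoly hX hps
  rcases hY with hY | rfl
  · have hYd : (Y : Matrix (Fin (k + 2)) (Fin (k + 2)) F).det = 1 := by
      refine det_of_charpoly hY ?_
      rw [mul_coeff_zero, coeff_sub, coeff_X_zero, coeff_C_zero, zero_sub]
      linear_combination hf0
    exact prO_of_corner hN hQ hf hg hS hXY hx (h1 X hX) (h2 Y hY) hXd hYd hj hxj hs ht hXs hxs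
      (pow_of_charpoly hY hft) hxt
  · have hYd : ((X⁻¹ : GL (Fin (k + 2)) F) : Matrix (Fin (k + 2)) (Fin (k + 2)) F).det = 1 := by
      have h3 : ((X * X⁻¹ : GL (Fin (k + 2)) F) : Matrix (Fin (k + 2)) (Fin (k + 2)) F).det = 1 := by
        rw [mul_inv_cancel, Units.val_one, det_one]
      rwa [Units.val_mul, det_mul, hXd, one_mul] at h3
    refine prO_of_corner hN hQ hf hg hS hXY hx (h1 X hX) (Cop.inv (h1 X hX)) hXd hYd hj hxj hs hs hXs hxs ?_ hxs
    rw [inv_pow, hXs, inv_one]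

/-- **Schur complement `1`, two given matrices.** -/
theorem prO_mat [Finite F] [FiniteDimensional F V] {N m : ℕ} (hN : 5 ≤ Module.finrank F V)
    {w w' : Fin m → V} (hQ : Nondeg Q)
    (hf : Frame Q w w') {g : V ≃ₗ[F] V} (hg : g ∈ O Q) (hS : SchurOne Q g w w')
    {X Y : Matrix (Fin m) (Fin m) F} (hXY : corner Q g w w' = X * Y) (hX : X.det = 1) (hY : Y.det = 1)
    (hc1 : CopP m X.charpoly (1 : perp Q w w' ≃ₗ[F] perp Q w w'))
    (hc2 : CopP m Y.charpoly (1 : perp Q w w' ≃ₗ[F] perp Q w w')) {s t : ℕ} (hs : s.Coprime N) (ht : t.Coprime N)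
    (hXs : X ^ s = 1) (hYt : Y ^ t = 1) : PrO N Q g := by
  obtain ⟨X', hX'⟩ : ∃ X' : GL (Fin m) F, (X' : Matrix _ _ F) = X :=
    ⟨Matrix.GeneralLinearGroup.mkOfDetNeZero X (by rw [hX]; exact one_ne_zero), rfl⟩
  obtain ⟨Y', hY'⟩ : ∃ Y' : GL (Fin m) F, (Y' : Matrix _ _ F) = Y :=
    ⟨Matrix.GeneralLinearGroup.mkOfDetNeZero Y (by rw [hY]; exact one_ne_zero), rfl⟩
  refine prO_of_corner hN hQ hf hg hS (X := X') (Y := Y') (x := 1) ?_ (O _).one_mem (hc1 X' (by rw [hX'])) ?_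
    (by rw [hX', hX]) (by rw [hY', hY]) (k := 1) odd_one (one_pow 1) hs ht ?_ (one_pow s) ?_ (one_pow t)
  · rw [Units.val_mul, hX', hY', hXY]
  · rw [inv_one]; exact hc2 Y' (by rw [hY'])
  · apply Units.ext
    rw [Units.val_pow_eq_pow_val, Units.val_one, hX', hXs]
  · apply Units.ext
    rw [Units.val_pow_eq_pow_val, Units.val_one, hY', hYt]

end Cfsg.Agent.H126.PwO
end
end

-- part: H126/PwO/Nu
section
prune_inst 0x10000000000000
set_option linter.all false
open scoped Cfsg.Agent.FastGrp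

/-!
# S2465, orthogonal groups: the classes `(T - ν) f` (helper126)

`prO_nu` : a frame of length `m ≥ 3` with Schur complement `1` (any middle space), `N = 6`, `q = r ^ e`, `e ≥ 3`,
or `N` a divisor of `q ≥ 4`.
-/

set_option autoImplicit false
set_option linter.unusedSectionVars false

namespace Cfsg.Agent.H126.PwO

open QuadraticMap Matrix Polynomial Cfsg.Agent.LieClassical.OrthCore Cfsg.Agent.LieClassical.OrthTrans
  Cfsg.Agent.LieClassical.OrthFinite Cfsg.Agent.H140.OreO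

variable {F V : Type*} [Field F] [AddCommGroup V] [Module F V] {m : ℕ} {Q : QuadraticForm F V}

theorem cop_rev_of_coeff {f : F[X]} (hm : f.Monic) (hf : Irreducible f) (h0 : f.coeff 0 ≠ 0)
    (h : f.coeff 0 * f.coeff 0 ≠ 1) : IsCoprime f f.reverse := by
  rw [hf.coprime_iff_not_dvd]
  intro hd
  have h1 := Polynomial.eq_mul_leadingCoeff_of_monic_of_dvd_of_natDegree_le hm hd (natDegree_rev h0).le
  have h2 : f.reverse.leadingCoeff = f.coeff 0 := by
    rw [reverse_leadingCoeff, trailingCoeff, natTrailingDegree_eq_zero_of_constantCoeff_ne_zero h0]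
  have h3 : f.reverse.coeff 0 = 1 := by rw [coeff_zero_reverse]; exact hm
  rw [h2] at h1
  rw [h1, mul_coeff_zero, coeff_C_zero] at h3
  exact h h3

theorem isCoprime_lin {f : F[X]} (hf : Irreducible f) (hd : 2 ≤ f.natDegree) (a b : F) (hab : a ≠ 0 ∨ b ≠ 0) :
    IsCoprime f (C a - C b * X) := by
  rw [hf.coprime_iff_not_dvd]
  intro h
  have h0 : (C a - C b * X : F[X]) ≠ 0 := by
    intro h0
    have e1 := congrArg (fun p => coeff p 0) h0
    have e2 := congrArg (fun p => coeff p 1) h0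
    simp at e1 e2
    rcases hab with h | h
    · exact h e1
    · exact h e2
  have h1 := natDegree_le_of_dvd h h0
  have h2 : (C a - C b * X : F[X]).natDegree ≤ 1 := by compute_degree
  omega

theorem reverse_lin (c : F) : (X - C c : F[X]).reverse = 1 - C c * X := by
  rw [reverse, natDegree_X_sub_C, reflect_sub, reflect_one_X, reflect_C, pow_one]

theorem cop_rev_lin {f : F[X]} {c : F} (hf : Irreducible f) (hd : 2 ≤ f.natDegree) (hc : c * c ≠ 1)
    (h : IsCoprime f f.reverse) : IsCoprime ((X - C c) * f) ((X - C c) * f).reverse := by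
  have h0 : f.coeff 0 ≠ 0 := coeff_zero_ne hf hd
  rw [reverse_mul_of_domain, reverse_lin]
  have e1 : IsCoprime f (1 - C c * X) := by
    have := isCoprime_lin hf hd 1 c (Or.inl one_ne_zero)
    rwa [C_1] at this
  have e2 : IsCoprime f.reverse (X - C c) := by
    have := isCoprime_lin (irreducible_rev hf h0) (by rw [natDegree_rev h0]; exact hd) c 1 (Or.inr one_ne_zero)
    rw [C_1, one_mul] at this
    have h3 := this.neg_right
    rwa [neg_sub] at h3
  have e3 : IsCoprime (X - C c : F[X]) (1 - C c * X) := by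
    rw [(irreducible_X_sub_C c).coprime_iff_not_dvd, dvd_iff_isRoot, IsRoot.def, eval_sub, eval_one, eval_mul,
      eval_C, eval_X, sub_eq_zero]
    exact fun h => hc h.symm
  exact IsCoprime.mul_left (IsCoprime.mul_right e3 e2.symm) (IsCoprime.mul_right e1 h)

/-- the polynomial `(T - ν) f` -/
theorem exists_nu (F : Type*) [Field F] [Finite F] {s d : ℕ} (hd : 2 ≤ d) (hs : s ∣ Nat.card F ^ d - 1)
    (hmin : ∀ k, 0 < k → k < d → ¬ s ∣ Nat.card F ^ k - 1)
    (h2 : ¬ s ∣ (Nat.card F ^ d - 1) / (Nat.card F - 1) * 2) :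
    ∃ (f : F[X]) (c : F), f.Monic ∧ Irreducible f ∧ f.natDegree = d ∧ (-1) ^ d * f.coeff 0 * c = 1 ∧
      c * c ≠ 1 ∧ IsCoprime f f.reverse ∧ (X - C c) * f ∣ X ^ s - 1 := by
  obtain ⟨f, hf⟩ := exists_pol F (by omega) hs hmin
  obtain ⟨b, hb⟩ : ∃ b, b = (-1) ^ d * f.coeff 0 := ⟨_, rfl⟩
  have hf0 : f.coeff 0 ≠ 0 := coeff_zero_ne hf.irr (by rw [hf.deg]; exact hd)
  have hb0 : b ≠ 0 := by rw [hb]; exact mul_ne_zero (pow_ne_zero _ (neg_ne_zero.2 one_ne_zero)) hf0
  have hbs : b ^ s = 1 := by rw [hb, hf.coef]; exact dvd_mul_left _ _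
  have hb2 : b * b ≠ 1 := by
    intro h
    apply h2
    rw [← hf.coef 2, ← hb, pow_two, h]
  have hc2 : b⁻¹ * b⁻¹ ≠ 1 := by
    intro h
    apply hb2
    rw [← mul_inv, inv_eq_one] at h
    exact h
  refine ⟨f, b⁻¹, hf.monic, hf.irr, hf.deg, ?_, hc2, ?_, ?_⟩
  · rw [← hb, mul_inv_cancel₀ hb0]
  · apply cop_rev_of_coeff hf.monic hf.irr hf0
    intro h
    apply hb2
    have h3 : ((-1 : F) ^ d) * (-1) ^ d = 1 := by
      rw [← mul_pow]; simp
    rw [hb]
    linear_combination h3 + (-1) ^ d * (-1) ^ d * h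
  · have h4 : IsCoprime (X - C b⁻¹ : F[X]) f := by
      have := isCoprime_lin hf.irr (by rw [hf.deg]; exact hd) b⁻¹ 1 (Or.inr one_ne_zero)
      rw [C_1, one_mul] at this
      have h3 := this.neg_right
      rw [neg_sub] at h3
      exact h3.symm
    refine h4.mul_dvd ?_ ((hf.dvd s).2 dvd_rfl)
    rw [dvd_iff_isRoot, IsRoot.def, eval_sub, eval_pow, eval_X, eval_one, inv_pow, hbs, inv_one, sub_self]

/-- **The classes `(T - ν) f`.** -/
theorem prO_of_nu [Finite F] [FiniteDimensional F V] {N k : ℕ} (hN : 5 ≤ Module.finrank F V)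
    {w w' : Fin (k + 2) → V} (hQ : Nondeg Q)
    (hf : Frame Q w w') {g : V ≃ₗ[F] V} (hg : g ∈ O Q) (hS : SchurOne Q g w w')
    (hdet : (corner Q g w w').det = 1)
    (hA : corner Q g w w' = 1 ∨ ∀ c : F, corner Q g w w' ≠ c • (1 : Matrix (Fin (k + 2)) (Fin (k + 2)) F))
    {s : ℕ} (hk : 1 ≤ k) (hsN : s.Coprime N) (hs : s ∣ Nat.card F ^ (k + 1) - 1)
    (hmin : ∀ j, 0 < j → j < k + 1 → ¬ s ∣ Nat.card F ^ j - 1)
    (h2 : ¬ s ∣ (Nat.card F ^ (k + 1) - 1) / (Nat.card F - 1) * 2) : PrO N Q g := by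
  obtain ⟨f, c, hfm, hfi, hfd, hf0, hc, hcop, hdvd⟩ := exists_nu F (by omega) hs hmin h2
  have hd2 : 2 ≤ f.natDegree := by rw [hfd]; omega
  have hpm : ((X - C c) * f).Monic := (monic_X_sub_C c).mul hfm
  have hev : ((X - C c) * f).eval 1 ≠ 0 := by
    rw [eval_mul, eval_sub, eval_X, eval_C]
    refine mul_ne_zero ?_ (eval_ne_zero hfi hd2 1)
    intro h
    rw [sub_eq_zero] at h
    apply hc
    rw [← h, mul_one]
  have hev' : ((X - C c) * f).reverse.eval 1 ≠ 0 := by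
    have : Invertible (1 : F) := invertibleOne
    have h3 := eval₂_reverse_mul_pow (RingHom.id F) (1 : F) ((X - C c) * f)
    rw [invOf_one, one_pow, mul_one] at h3
    change eval₂ (RingHom.id F) 1 ((X - C c) * f).reverse ≠ 0
    rw [h3]
    exact hev
  have hC : CopP (k + 2) ((X - C c) * f) (1 : perp Q w w' ≃ₗ[F] perp Q w w') :=
    copP_of_cop (un_one hev) (un_one hev') (cop_rev_lin hfi hd2 hc hcop)
  refine prO_pol hN hQ hf hg hS hdet hA hpm ?_ ?_ hfm hfd hf0 (x := 1) (O _).one_mem hC (by rw [inv_one]; exact hC)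
    odd_one (one_pow 1) hsN hsN hdvd hdvd (one_pow s) (one_pow s)
  · rw [(monic_X_sub_C c).natDegree_mul hfm, natDegree_X_sub_C, hfd]; omega
  · rw [mul_coeff_zero, coeff_sub, coeff_X_zero, coeff_C_zero, zero_sub]
    linear_combination hf0

/-- **`N = r ≥ 5`** -/
theorem prO_own [Finite F] [FiniteDimensional F V] {r k : ℕ} (hN : 5 ≤ Module.finrank F V)
    {w w' : Fin (k + 2) → V} (hQ : Nondeg Q)
    (hf : Frame Q w w') {g : V ≃ₗ[F] V} (hg : g ∈ O Q) (hS : SchurOne Q g w w')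
    (hdet : (corner Q g w w').det = 1)
    (hA : corner Q g w w' = 1 ∨ ∀ c : F, corner Q g w w' ≠ c • (1 : Matrix (Fin (k + 2)) (Fin (k + 2)) F))
    (hk : 1 ≤ k) (hr : r ∣ Nat.card F) (hq : 4 ≤ Nat.card F) : PrO r Q g := by
  obtain ⟨s, h1, h2, h3, h4⟩ := exists_own hr hq (show 2 ≤ k + 1 by omega)
  exact prO_of_nu hN hQ hf hg hS hdet hA hk h1 h2 h3 h4

/-- **`N = 6`, `q = r ^ e`, `e ≥ 3`** -/
theorem prO_six [Finite F] [FiniteDimensional F V] {r e k : ℕ} (hN : 5 ≤ Module.finrank F V)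
    {w w' : Fin (k + 2) → V} (hQ : Nondeg Q)
    (hf : Frame Q w w') {g : V ≃ₗ[F] V} (hg : g ∈ O Q) (hS : SchurOne Q g w w')
    (hdet : (corner Q g w w').det = 1)
    (hA : corner Q g w w' = 1 ∨ ∀ c : F, corner Q g w w' ≠ c • (1 : Matrix (Fin (k + 2)) (Fin (k + 2)) F))
    (hk : 1 ≤ k) (hr : 2 ≤ r) (he : 3 ≤ e) (hq : Nat.card F = r ^ e) (h8 : ¬ (Nat.card F = 8 ∧ k = 1)) :
    PrO 6 Q g := by
  obtain ⟨s, h1, h2, h3, h4⟩ := exists_six hr he (show 2 ≤ k + 1 by omega) (by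
    rw [← hq]; exact fun h => h8 ⟨h.1, by omega⟩)
  rw [← hq] at h2 h3 h4
  exact prO_of_nu hN hQ hf hg hS hdet hA hk h1 h2 h3 h4

end Cfsg.Agent.H126.PwO
end

-- part: H85/Pw/Two
section
prune_inst 0x10000000000000
set_option linter.all false
open scoped Cfsg.Agent.FastGrp

/-!
# Two commuting blocks of type `A` in `D.group K` (S2465)

* `Tb` : the table of a block;  `Two` : the table of two commuting blocks which generate the Levi subgroup of `J`;
* `UJ_le₂`, `UNJ_le₂` : `U_J`, `U_J⁻` are in the products of the images of the unitriangular groups;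
* `Ev` : the eigenvalues over `K'`;
* `pairs_of_two` : if all `L * U` of the two blocks are products of two elements with eigenvalues in `E₁`, `E₂` such that no
  root outside `J` has value `1`, and `lam ^ N = 1`, then every element is a product of two elements with `a ^ N = 1`.
-/

set_option autoImplicit false
set_option linter.unusedSectionVars false

namespace Cfsg.Agent.H85.Pw

open CoxeterSystem Cfsg.Agent.ChevalleyStructure.CoxeterGeom Cfsg.Agent.Tits.Roots Cfsg.Agent.Tits.Core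
  Cfsg.Agent.Nodes.Reps Cfsg.Agent.Nodes.BNOf Cfsg.Agent.Nodes.RGDLib Cfsg.Agent.Nodes.Bruhat
  Cfsg.Agent.Nodes.OppDec Cfsg.Agent.Nodes.LeviDec Cfsg.Agent.Nodes.KindChev Cfsg.Agent.Nodes.ChevCls
  Cfsg.Agent.OddHalf.NI.ModelChev
  Cfsg.Agent.H162.GaussDec Cfsg.Agent.H162.GaussLevi Cfsg.Agent.H162.GaussSL Cfsg.Agent.H162.GaussReg
  Cfsg.Agent.H162.GaussMain Cfsg.Agent.H162.GaussPQ Cfsg.Agent.H162.GaussExc
open Cfsg.Lie Cfsg.Agent.ChevalleyStructure Cfsg.Agent.ChevalleyStructure.Elts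
  Cfsg.Agent.ChevalleyStructure.RootVec Cfsg.Agent.ChevalleyStructure.NPerm
  Cfsg.Agent.ChevalleyStructure.CoxeterGeomTypes Cfsg.Agent.Nodes.RGDChev Cfsg.Agent.KFacts.RgdChevCoord
open Cfsg.Agent.H928.Ore.Frame (NF LP)
open Cfsg.Agent.H482.Ore.Fix (Bk Dz SimpB)
open Cfsg.Agent.H85.Ore
open Polynomial (X C)

universe u

/-! ### Commuting subgroups -/

theorem sup_mem {G : Type*} [Group G] {A B : Subgroup G} (h : ∀ x ∈ A, ∀ y ∈ B, x * y = y * x) {g : G} (hg : g ∈ A ⊔ B) :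
    ∃ a ∈ A, ∃ b ∈ B, g = a * b := by
  have h1 : B ≤ Subgroup.normalizer (A : Set G) := by
    intro b hb
    rw [Subgroup.mem_normalizer_iff]
    intro x
    constructor
    · intro hx
      rwa [← h x hx b hb, mul_inv_cancel_right]
    · intro hx
      have h2 := h _ hx b hb
      have h3 : b * x * b⁻¹ = x := by
        have h4 : b * x * b⁻¹ * b = b * (b * x * b⁻¹) := h2
        have h5 : x = b * x * b⁻¹ := by
          calc x = b⁻¹ * (b * x * b⁻¹ * b) := by group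
            _ = b⁻¹ * (b * (b * x * b⁻¹)) := by rw [h4]
            _ = b * x * b⁻¹ := by group
        exact h5.symm
      rwa [h3] at hx
  have h2 : g ∈ ((A ⊔ B : Subgroup G) : Set G) := hg
  rw [Subgroup.coe_mul_of_right_le_normalizer_left _ _ h1, Set.mem_mul] at h2
  obtain ⟨a, ha, b, hb, e⟩ := h2
  exact ⟨a, ha, b, hb, e.symm⟩

/-! ### Tables -/

/-- the table of a block -/
structure Tb {D : ChevalleyDatum} {l : ℕ} {M : CoxeterMatrix (Fin l)} (hp : IsType D l M) (J : List (Fin l)) (n : ℕ)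
    (r : Fin (n + 2) → Fin (n + 2) → ℕ) (j : Fin (n + 1) → Fin l) (ε : ℤ) : Prop where
  eps : ε * ε = 1
  up : ∀ a : Fin (n + 1), r a.castSucc a.succ = D.simple (j a)
  neg : ∀ a b, a ≠ b → r b a = D.neg (r a b)
  rlt : ∀ a b, a ≠ b → r a b < D.nroots
  rJ : ∀ a b, a ≠ b → ∀ k, k ∉ J → vec D l (r a b) k = 0
  hom : ∀ (F : Type) [Field F], ∃ φ : Matrix.SpecialLinearGroup (Fin (n + 2)) F →* ↥(D.group F),
    ∀ a b (hab : a ≠ b) c, φ (Matrix.SpecialLinearGroup.transvection hab c) = xc hp (vec D l (r a b)) ((ε : F) * c)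

/-- the roots of the Levi subgroup -/
def Sub2 (D : ChevalleyDatum) (l : ℕ) (J : List (Fin l)) (n₁ n₂ : ℕ) (r₁ : Fin (n₁ + 2) → Fin (n₁ + 2) → ℕ)
    (r₂ : Fin (n₂ + 2) → Fin (n₂ + 2) → ℕ) : Prop :=
  ∀ q < D.nroots, (∀ k, k ∉ J → vec D l q k = 0) →
    (∃ a b, a ≠ b ∧ r₁ a b = q ∧ (a < b → ∃ k, 0 < vec D l q k) ∧ (b < a → ∃ k, vec D l q k < 0)) ∨
    (∃ a b, a ≠ b ∧ r₂ a b = q ∧ (a < b → ∃ k, 0 < vec D l q k) ∧ (b < a → ∃ k, vec D l q k < 0))

instance (D : ChevalleyDatum) (l : ℕ) (J : List (Fin l)) (n₁ n₂ : ℕ) (r₁ : Fin (n₁ + 2) → Fin (n₁ + 2) → ℕ)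
    (r₂ : Fin (n₂ + 2) → Fin (n₂ + 2) → ℕ) : Decidable (Sub2 D l J n₁ n₂ r₁ r₂) := by
  unfold Sub2
  refine @Nat.decidableBallLT _ _ fun q _ => ?_
  refine @instDecidableForall _ _ inferInstance ?_
  refine @instDecidableOr _ _ ?_ ?_
  · refine @Fintype.decidableExistsFintype _ _ (fun a => ?_) _
    refine @Fintype.decidableExistsFintype _ _ (fun b => ?_) _
    infer_instance
  · refine @Fintype.decidableExistsFintype _ _ (fun a => ?_) _
    refine @Fintype.decidableExistsFintype _ _ (fun b => ?_) _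
    infer_instance

/-- the two blocks commute -/
def Com2 (D : ChevalleyDatum) (n₁ n₂ : ℕ) (r₁ : Fin (n₁ + 2) → Fin (n₁ + 2) → ℕ)
    (r₂ : Fin (n₂ + 2) → Fin (n₂ + 2) → ℕ) : Prop :=
  ∀ a b, a ≠ b → ∀ c d, c ≠ d → r₂ c d ≠ r₁ a b ∧ r₂ c d ≠ D.neg (r₁ a b) ∧ D.commTerms (r₁ a b) (r₂ c d) = []

instance (D : ChevalleyDatum) (n₁ n₂ : ℕ) (r₁ : Fin (n₁ + 2) → Fin (n₁ + 2) → ℕ)
    (r₂ : Fin (n₂ + 2) → Fin (n₂ + 2) → ℕ) : Decidable (Com2 D n₁ n₂ r₁ r₂) := by
  unfold Com2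
  infer_instance

section

variable {D : ChevalleyDatum} {l : ℕ} {M : CoxeterMatrix (Fin l)} (hp : IsType D l M) {J : List (Fin l)} {n₁ n₂ : ℕ}
  {r₁ : Fin (n₁ + 2) → Fin (n₁ + 2) → ℕ} {r₂ : Fin (n₂ + 2) → Fin (n₂ + 2) → ℕ} {j₁ : Fin (n₁ + 1) → Fin l}
  {j₂ : Fin (n₂ + 1) → Fin l} {ε₁ ε₂ : ℤ} (T₁ : Tb hp J n₁ r₁ j₁ ε₁) (T₂ : Tb hp J n₂ r₂ j₂ ε₂)
  (hsub : Sub2 D l J n₁ n₂ r₁ r₂) (hcom : Com2 D n₁ n₂ r₁ r₂)

include T₁ T₂ hcom in
theorem xc_comm {F : Type*} [Field F] {a b : Fin (n₁ + 2)} (hab : a ≠ b) {c d : Fin (n₂ + 2)} (hcd : c ≠ d) (x y : F) :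
    xc hp (vec D l (r₁ a b)) x * xc hp (vec D l (r₂ c d)) y = xc hp (vec D l (r₂ c d)) y * xc hp (vec D l (r₁ a b)) x := by
  obtain ⟨h1, h2, h3⟩ := hcom a b hab c d hcd
  have h4 := Cfsg.Agent.TitsThree.KExcBase.comm_nil (F := F) hp.inList (T₁.rlt a b hab) (T₂.rlt c d hcd) h1 h2 h3 x y
  apply Subtype.ext
  rw [Subgroup.coe_mul, Subgroup.coe_mul, coe_xc hp (T₁.rlt a b hab), coe_xc hp (T₂.rlt c d hcd)]
  exact h4

variable {K : Type u} [Field K]
  {φ₁ : Matrix.SpecialLinearGroup (Fin (n₁ + 2)) K →* ↥(D.group K)}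
  {φ₂ : Matrix.SpecialLinearGroup (Fin (n₂ + 2)) K →* ↥(D.group K)}
  (hφ₁ : ∀ a b (hab : a ≠ b) c, φ₁ (Matrix.SpecialLinearGroup.transvection hab c) =
    xc hp (vec D l (r₁ a b)) ((ε₁ : K) * c))
  (hφ₂ : ∀ a b (hab : a ≠ b) c, φ₂ (Matrix.SpecialLinearGroup.transvection hab c) =
    xc hp (vec D l (r₂ a b)) ((ε₂ : K) * c))

include T₁ T₂ hcom hφ₁ hφ₂ in
theorem comm_phi₂ (A : Matrix.SpecialLinearGroup (Fin (n₁ + 2)) K) (B : Matrix.SpecialLinearGroup (Fin (n₂ + 2)) K) :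
    φ₁ A * φ₂ B = φ₂ B * φ₁ A := by
  have h1 : ∀ a b (hab : a ≠ b) (x : K) (B : Matrix.SpecialLinearGroup (Fin (n₂ + 2)) K),
      xc hp (vec D l (r₁ a b)) x * φ₂ B = φ₂ B * xc hp (vec D l (r₁ a b)) x := by
    intro a b hab x B
    have h2 : (MulAut.conj (xc hp (vec D l (r₁ a b)) x)).toMonoidHom.comp φ₂ = φ₂ := by
      refine hom_ext fun c d hcd y => ?_
      change xc hp (vec D l (r₁ a b)) x * φ₂ _ * (xc hp (vec D l (r₁ a b)) x)⁻¹ = φ₂ _
      rw [hφ₂, xc_comm hp T₁ T₂ hcom hab hcd, mul_inv_cancel_right]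
    have h3 := DFunLike.congr_fun h2 B
    change xc hp (vec D l (r₁ a b)) x * φ₂ B * (xc hp (vec D l (r₁ a b)) x)⁻¹ = φ₂ B at h3
    exact mul_inv_eq_iff_eq_mul.1 h3
  have h2 : (MulAut.conj (φ₂ B)).toMonoidHom.comp φ₁ = φ₁ := by
    refine hom_ext fun a b hab y => ?_
    change φ₂ B * φ₁ _ * (φ₂ B)⁻¹ = φ₁ _
    rw [hφ₁, ← h1 a b hab, mul_inv_cancel_right]
  have h3 := DFunLike.congr_fun h2 A
  change φ₂ B * φ₁ A * (φ₂ B)⁻¹ = φ₁ A at h3
  exact (mul_inv_eq_iff_eq_mul.1 h3).symm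

include T₁ T₂ hsub hφ₁ hφ₂

theorem up₂ {x : Fin l → ℤ} (hx : x ∈ Cfsg.Agent.Nodes.StabComb.PosJ M.toCoxeterSystem hp.isCartan {k | k ∈ J}) :
    XX D l K x ≤ (UT (n₁ + 2) K).map φ₁ ⊔ (UT (n₂ + 2) K).map φ₂ := by
  have he₁ : (ε₁ : K) * (ε₁ : K) = 1 := by rw [← Int.cast_mul, T₁.eps, Int.cast_one]
  have he₂ : (ε₂ : K) * (ε₂ : K) = 1 := by rw [← Int.cast_mul, T₂.eps, Int.cast_one]
  obtain ⟨q, hq, rfl⟩ := (isRoot_iff hp _ x).1 hx.1
  rcases hsub q hq hx.2.2 with ⟨a, b, hab, rfl, h1, h2⟩ | ⟨a, b, hab, rfl, h1, h2⟩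
  · refine le_trans ?_ le_sup_left
    have hlt : a < b := by
      rcases lt_or_gt_of_ne hab with h | h
      · exact h
      · obtain ⟨k, hk⟩ := h2 h
        exact absurd (hx.2.1 k) (not_le.2 hk)
    intro y hy
    obtain ⟨c, rfl⟩ := (mem_XX hp hq y).1 hy
    refine ⟨Matrix.SpecialLinearGroup.transvection hab ((ε₁ : K) * c), tv_mem_UT hab hlt _, ?_⟩
    rw [hφ₁, ← mul_assoc, he₁, one_mul]
  · refine le_trans ?_ le_sup_right
    have hlt : a < b := by
      rcases lt_or_gt_of_ne hab with h | h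
      · exact h
      · obtain ⟨k, hk⟩ := h2 h
        exact absurd (hx.2.1 k) (not_le.2 hk)
    intro y hy
    obtain ⟨c, rfl⟩ := (mem_XX hp hq y).1 hy
    refine ⟨Matrix.SpecialLinearGroup.transvection hab ((ε₂ : K) * c), tv_mem_UT hab hlt _, ?_⟩
    rw [hφ₂, ← mul_assoc, he₂, one_mul]

theorem lo₂ {x : Fin l → ℤ} (hx : x ∈ Cfsg.Agent.Nodes.StabComb.PosJ M.toCoxeterSystem hp.isCartan {k | k ∈ J}) :
    XX D l K (-x) ≤ (LT (n₁ + 2) K).map φ₁ ⊔ (LT (n₂ + 2) K).map φ₂ := by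
  have he₁ : (ε₁ : K) * (ε₁ : K) = 1 := by rw [← Int.cast_mul, T₁.eps, Int.cast_one]
  have he₂ : (ε₂ : K) * (ε₂ : K) = 1 := by rw [← Int.cast_mul, T₂.eps, Int.cast_one]
  obtain ⟨q, hq, hqx⟩ := (isRoot_iff hp _ (-x)).1 hx.1.neg
  have hx' : ∀ k, vec D l q k = - x k := fun k => by rw [hqx, Pi.neg_apply]
  have hx0 : ∀ k, 0 ≤ x k := hx.2.1
  rw [← hqx]
  rcases hsub q hq (fun k hk => by rw [hx', hx.2.2 k hk, neg_zero]) with ⟨a, b, hab, rfl, h1, h2⟩ |
    ⟨a, b, hab, rfl, h1, h2⟩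
  · refine le_trans ?_ le_sup_left
    have hlt : b < a := by
      rcases lt_or_gt_of_ne hab with h | h
      · obtain ⟨k, hk⟩ := h1 h
        rw [hx'] at hk
        exact absurd hk (not_lt.2 (neg_nonpos.2 (hx0 k)))
      · exact h
    intro y hy
    obtain ⟨c, rfl⟩ := (mem_XX hp hq y).1 hy
    refine ⟨Matrix.SpecialLinearGroup.transvection hab ((ε₁ : K) * c), tv_mem_LT hab hlt _, ?_⟩
    rw [hφ₁, ← mul_assoc, he₁, one_mul]
  · refine le_trans ?_ le_sup_right
    have hlt : b < a := by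
      rcases lt_or_gt_of_ne hab with h | h
      · obtain ⟨k, hk⟩ := h1 h
        rw [hx'] at hk
        exact absurd hk (not_lt.2 (neg_nonpos.2 (hx0 k)))
      · exact h
    intro y hy
    obtain ⟨c, rfl⟩ := (mem_XX hp hq y).1 hy
    refine ⟨Matrix.SpecialLinearGroup.transvection hab ((ε₂ : K) * c), tv_mem_LT hab hlt _, ?_⟩
    rw [hφ₂, ← mul_assoc, he₂, one_mul]

include hcom

theorem UJ_mem₂ {w : ↥(D.group K)} (hw : w ∈ UJ M.toCoxeterSystem hp.isCartan (XX D l K) {k | k ∈ J}) :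
    ∃ U₁ ∈ UT (n₁ + 2) K, ∃ U₂ ∈ UT (n₂ + 2) K, w = φ₁ U₁ * φ₂ U₂ := by
  have h1 : UJ M.toCoxeterSystem hp.isCartan (XX D l K) {k | k ∈ J} ≤
      (UT (n₁ + 2) K).map φ₁ ⊔ (UT (n₂ + 2) K).map φ₂ :=
    RGD.Sup_le fun x hx => up₂ hp T₁ T₂ hsub hφ₁ hφ₂ hx
  obtain ⟨a, ⟨U₁, h2, rfl⟩, b, ⟨U₂, h3, rfl⟩, rfl⟩ := sup_mem (by
    rintro _ ⟨x, -, rfl⟩ _ ⟨y, -, rfl⟩
    exact comm_phi₂ hp T₁ T₂ hcom hφ₁ hφ₂ x y) (h1 hw)
  exact ⟨U₁, h2, U₂, h3, rfl⟩

theorem UNJ_mem₂ {w : ↥(D.group K)} (hw : w ∈ UNJ M.toCoxeterSystem hp.isCartan (XX D l K) {k | k ∈ J}) :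
    ∃ L₁ ∈ LT (n₁ + 2) K, ∃ L₂ ∈ LT (n₂ + 2) K, w = φ₁ L₁ * φ₂ L₂ := by
  have h1 : UNJ M.toCoxeterSystem hp.isCartan (XX D l K) {k | k ∈ J} ≤
      (LT (n₁ + 2) K).map φ₁ ⊔ (LT (n₂ + 2) K).map φ₂ :=
    RGD.Sup_le fun x hx => by
      have := lo₂ hp T₁ T₂ hsub hφ₁ hφ₂ (x := -x) hx
      rwa [_root_.neg_neg] at this
  obtain ⟨a, ⟨L₁, h2, rfl⟩, b, ⟨L₂, h3, rfl⟩, rfl⟩ := sup_mem (by
    rintro _ ⟨x, -, rfl⟩ _ ⟨y, -, rfl⟩
    exact comm_phi₂ hp T₁ T₂ hcom hφ₁ hφ₂ x y) (h1 hw)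
  exact ⟨L₁, h2, L₂, h3, rfl⟩

end

/-! ### Eigenvalues -/

/-- `x` has distinct eigenvalues over `K'`, the tuple in `E` -/
def Ev {K : Type u} {K' : Type} [Field K] [Field K'] (i : K →+* K') {m : ℕ} (E : (Fin m → K') → Prop)
    (x : Matrix.SpecialLinearGroup (Fin m) K) : Prop :=
  ∃ lam : Fin m → K', E lam ∧ Function.Injective lam ∧ x.1.charpoly.map i = ∏ a, (X - C (lam a))

section

variable {D : ChevalleyDatum} {l : ℕ} {M : CoxeterMatrix (Fin l)} (hp : IsType D l M) {J : List (Fin l)} {n₁ n₂ : ℕ}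
  {r₁ : Fin (n₁ + 2) → Fin (n₁ + 2) → ℕ} {r₂ : Fin (n₂ + 2) → Fin (n₂ + 2) → ℕ} {j₁ : Fin (n₁ + 1) → Fin l}
  {j₂ : Fin (n₂ + 1) → Fin l} {ε₁ ε₂ : ℤ} (T₁ : Tb hp J n₁ r₁ j₁ ε₁) (T₂ : Tb hp J n₂ r₂ j₂ ε₂)
  (hsub : Sub2 D l J n₁ n₂ r₁ r₂) (hcom : Com2 D n₁ n₂ r₁ r₂)
  {K : Type u} [Field K] [Finite K]
  {φ₁ : Matrix.SpecialLinearGroup (Fin (n₁ + 2)) K →* ↥(D.group K)}
  {φ₂ : Matrix.SpecialLinearGroup (Fin (n₂ + 2)) K →* ↥(D.group K)}
  (hφ₁ : ∀ a b (hab : a ≠ b) c, φ₁ (Matrix.SpecialLinearGroup.transvection hab c) =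
    xc hp (vec D l (r₁ a b)) ((ε₁ : K) * c))
  (hφ₂ : ∀ a b (hab : a ≠ b) c, φ₂ (Matrix.SpecialLinearGroup.transvection hab c) =
    xc hp (vec D l (r₂ a b)) ((ε₂ : K) * c))
  {K' : Type} [Field K'] [Finite K'] (i : K →+* K') {E₁ : (Fin (n₁ + 2) → K') → Prop}
  {E₂ : (Fin (n₂ + 2) → K') → Prop}

include T₁ hφ₁ in
theorem exists_Bk : ∃ φ' : Matrix.SpecialLinearGroup (Fin (n₁ + 2)) K' →* ↥(D.group K'),
    Bk hp i {k | k ∈ J} n₁ r₁ j₁ φ₁ φ' (fun _ _ => (ε₁ : K)) := by
  obtain ⟨φ', hφ'⟩ := T₁.hom K'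
  refine ⟨φ', ?_⟩
  exact
    { simp := ⟨T₁.up, fun a => by rw [← T₁.up a]; exact T₁.neg _ _ (cs_ne a)⟩
      rlt := T₁.rlt
      rJ := T₁.rJ
      hφ := hφ₁
      hφ' := fun a b hab c => by rw [hφ' a b hab c, map_intCast]
      ss := fun a => by rw [← Int.cast_mul, T₁.eps, Int.cast_one] }

include T₁ hφ₁ in
theorem phi_mem₁ (A : Matrix.SpecialLinearGroup (Fin (n₁ + 2)) K) :
    φ₁ A ∈ LJ M.toCoxeterSystem hp.isCartan (TT D K) (XX D l K) {k | k ∈ J} := by
  have h1 : (⊤ : Subgroup (Matrix.SpecialLinearGroup (Fin (n₁ + 2)) K)) ≤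
      (LJ M.toCoxeterSystem hp.isCartan (TT D K) (XX D l K) {k | k ∈ J}).comap φ₁ := by
    rw [← Cfsg.Agent.LieClassical.SLGen.closure_transvections, Subgroup.closure_le]
    rintro _ ⟨a, b, hab, c, rfl⟩
    change φ₁ _ ∈ LJ M.toCoxeterSystem hp.isCartan (TT D K) (XX D l K) {k | k ∈ J}
    rw [hφ₁]
    refine X_le_LJ (J := {k | k ∈ J}) (x := vec D l (r₁ a b)) ⟨isRoot_vec hp _ (T₁.rlt a b hab), T₁.rJ a b hab⟩ ?_
    exact (mem_XX hp (T₁.rlt a b hab) _).2 ⟨_, rfl⟩
  exact h1 (Subgroup.mem_top A)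

include T₁ T₂ hcom hφ₁ hφ₂ in
theorem nf₂ (hout : ∀ lam, E₁ lam → ∀ mu, E₂ mu → ∀ q < D.nroots, (∃ k, k ∉ J ∧ vec D l q k ≠ 0) →
      (∏ b, lam b ^ wt D j₁ q b) * ∏ b, mu b ^ wt D j₂ q b ≠ 1)
    {x : Matrix.SpecialLinearGroup (Fin (n₁ + 2)) K} {y : Matrix.SpecialLinearGroup (Fin (n₂ + 2)) K} (hx : Ev i E₁ x)
    (hy : Ev i E₂ y) :
    NF (VJ M.toCoxeterSystem hp.isCartan (XX D l K) {k | k ∈ J}) (φ₁ x * φ₂ y) ∧
      NF (VNJ M.toCoxeterSystem hp.isCartan (XX D l K) {k | k ∈ J}) (φ₁ x * φ₂ y) := by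
  obtain ⟨ch, hch⟩ := CharP.exists K'
  have := Fintype.ofFinite K'
  have : Fact ch.Prime := ⟨(CharP.char_is_prime_or_zero K' ch).resolve_right (CharP.char_ne_zero_of_finite K' ch)⟩
  obtain ⟨lam, h1, h2, h3⟩ := hx
  obtain ⟨mu, g1, g2, g3⟩ := hy
  obtain ⟨g, hg⟩ := Cfsg.Agent.H934.MF.diag_map i x.1 h2 h3
  obtain ⟨h, hh⟩ := Cfsg.Agent.H934.MF.diag_map i y.1 g2 g3
  obtain ⟨φ₁', B₁⟩ := exists_Bk hp T₁ hφ₁ i
  obtain ⟨φ₂', B₂⟩ := exists_Bk hp T₂ hφ₂ i
  refine ((B₁.dz hp hg).mul hp (B₂.dz hp hh) (B₁.comm_range₂ hp B₂ fun a b hab c d hcd x y =>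
    xc_comm hp T₁ T₂ hcom hab hcd x y)).nf hp ch fun q hq hk => ?_
  exact hout lam h1 mu g1 q hq hk

variable (hl : 0 < l) (hG : IsSimpleGroup ↥(D.group K) ∧ ¬ IsMulCommutative ↥(D.group K))
  (hM : ∀ J : Finset (Fin l), J = ∅ ∨ J = Finset.univ ∨ ∃ a ∈ J, ∃ b, b ∉ J ∧ M a b ≠ 2)

include T₁ T₂ hsub hcom hφ₁ hφ₂ hl hG hM in
/-- **The frame for two blocks.** -/
theorem pairs_of_two {N : ℕ}
    (hout : ∀ lam, E₁ lam → ∀ mu, E₂ mu → ∀ q < D.nroots, (∃ k, k ∉ J ∧ vec D l q k ≠ 0) →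
      (∏ b, lam b ^ wt D j₁ q b) * ∏ b, mu b ^ wt D j₂ q b ≠ 1)
    (hN₁ : ∀ lam, E₁ lam → ∀ a, lam a ^ N = 1) (hN₂ : ∀ mu, E₂ mu → ∀ a, mu a ^ N = 1)
    (P₁ : ∀ L ∈ LT (n₁ + 2) K, ∀ U ∈ UT (n₁ + 2) K, ∃ x y : Matrix.SpecialLinearGroup (Fin (n₁ + 2)) K,
      L * U = x * y ∧ Ev i E₁ x ∧ Ev i E₁ y)
    (P₂ : ∀ L ∈ LT (n₂ + 2) K, ∀ U ∈ UT (n₂ + 2) K, ∃ x y : Matrix.SpecialLinearGroup (Fin (n₂ + 2)) K,
      L * U = x * y ∧ Ev i E₂ x ∧ Ev i E₂ y) (g : ↥(D.group K)) :
    ∃ a b : ↥(D.group K), g = a * b ∧ a ^ N = 1 ∧ b ^ N = 1 := by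
  obtain ⟨p, hpc⟩ := CharP.exists K
  have := Fintype.ofFinite K
  have : Fact p.Prime := ⟨(CharP.char_is_prime_or_zero K p).resolve_right (CharP.char_ne_zero_of_finite K p)⟩
  have := finite_W hp M.toCoxeterSystem
  have : Nonempty (Fin l) := ⟨⟨0, hl⟩⟩
  have hcm := comm_phi₂ hp T₁ T₂ hcom hφ₁ hφ₂
  have hpow : ∀ {x : Matrix.SpecialLinearGroup (Fin (n₁ + 2)) K} {y : Matrix.SpecialLinearGroup (Fin (n₂ + 2)) K},
      Ev i E₁ x → Ev i E₂ y → (φ₁ x * φ₂ y) ^ N = 1 := by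
    intro x y hx hy
    obtain ⟨lam, h1, h2, h3⟩ := hx
    obtain ⟨mu, g1, g2, g3⟩ := hy
    have hc : Commute (φ₁ x) (φ₂ y) := hcm x y
    rw [hc.mul_pow, ← map_pow, ← map_pow, pow_eq_one h2 h3 (hN₁ lam h1), pow_eq_one g2 g3 (hN₂ mu g1), map_one, map_one,
      mul_one]
  by_cases hg : g ∈ (RGD.B M.toCoxeterSystem hp.isCartan (TT D K) (XX D l K)).normalCore
  · rw [one_of_core hp hl hG.1 hg]
    exact ⟨1, 1, by simp, one_pow _, one_pow _⟩
  · obtain ⟨c₁, c₂, x, y, ⟨h1, h2⟩, h3⟩ := Cfsg.Agent.H928.Ore.Frame.pair (rgd (K := K) hp M.toCoxeterSystem p)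
      (G1_eq_top hp _) (coord hp) (Cfsg.Agent.Nodes.ChevChart.irr_of hM) (J := {k | k ∈ J})
      (Pr := fun c₁ c₂ : ↥(D.group K) => c₁ ^ N = 1 ∧ c₂ ^ N = 1) (fun v hv w hw => by
        obtain ⟨L₁, hL₁, L₂, hL₂, rfl⟩ := UNJ_mem₂ hp T₁ T₂ hsub hcom hφ₁ hφ₂ hv
        obtain ⟨U₁, hU₁, U₂, hU₂, rfl⟩ := UJ_mem₂ hp T₁ T₂ hsub hcom hφ₁ hφ₂ hw
        obtain ⟨x, y, e1, hx, hy⟩ := P₁ L₁ hL₁ U₁ hU₁
        obtain ⟨x', y', e2, hx', hy'⟩ := P₂ L₂ hL₂ U₂ hU₂
        refine ⟨φ₁ x * φ₂ x', φ₁ y * φ₂ y', ?_, ⟨mul_mem (phi_mem₁ hp T₁ hφ₁ x) (phi_mem₁ hp T₂ hφ₂ x'),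
          mul_mem (phi_mem₁ hp T₁ hφ₁ y) (phi_mem₁ hp T₂ hφ₂ y'), (nf₂ hp T₁ T₂ hcom hφ₁ hφ₂ i hout hx hx').2,
          (nf₂ hp T₁ T₂ hcom hφ₁ hφ₂ i hout hy hy').1⟩, hpow hx hx', hpow hy hy'⟩
        calc φ₁ L₁ * φ₂ L₂ * (φ₁ U₁ * φ₂ U₂) = φ₁ L₁ * (φ₂ L₂ * φ₁ U₁) * φ₂ U₂ := by group
          _ = φ₁ L₁ * (φ₁ U₁ * φ₂ L₂) * φ₂ U₂ := by rw [hcm U₁ L₂]
          _ = φ₁ (L₁ * U₁) * φ₂ (L₂ * U₂) := by rw [map_mul, map_mul]; group
          _ = φ₁ x * (φ₁ y * φ₂ x') * φ₂ y' := by rw [e1, e2, map_mul, map_mul]; group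
          _ = φ₁ x * (φ₂ x' * φ₁ y) * φ₂ y' := by rw [hcm y x']
          _ = _ := by group) hg
    exact ⟨_, _, h3, by rw [conj_pow, h1, mul_one, mul_inv_cancel], by rw [conj_pow, h2, mul_one, mul_inv_cancel]⟩

end

end Cfsg.Agent.H85.Pw
end

-- part: H85/Pw/Roots
section
set_option linter.all false
open scoped Cfsg.Agent.FastGrp

/-!
# Eigenvalues over a finite extension (S2465)

* `exists_lam` : a monic divisor of `X ^ |K'| - X` is a product of different linear factors over `K'`;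
* `root_pow` : the eigenvalues of `x`, `x ^ N = 1`, satisfy `z ^ N = 1`;
* `ev_of_dvd` : the eigenvalues over `K'`, `|K'| = |K| ^ n`, of `x` in `SL_m(K)` whose characteristic polynomial divides
  `X ^ (|K| ^ n) - X`;
* `irr_ne` : roots of an irreducible polynomial of degree `d` are not fixed by `x ↦ x ^ (|K| ^ e)` if `d ∤ e`.
-/

set_option autoImplicit false
set_option linter.unusedSectionVars false

namespace Cfsg.Agent.H85.Pw

open Polynomial

universe u

theorem exists_lam {L : Type*} [Field L] [Finite L] {g : L[X]} {m : ℕ} (hm : g.Monic) (hd : g.natDegree = m)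
    (h : g ∣ X ^ Nat.card L - X) : ∃ lam : Fin m → L, Function.Injective lam ∧ g = ∏ a, (X - C (lam a)) := by
  classical
  have := Fintype.ofFinite L
  have hc : Nat.card L = Fintype.card L := Nat.card_eq_fintype_card
  rw [hc] at h
  have h0 : (X ^ Fintype.card L - X : L[X]) ≠ 0 := FiniteField.X_pow_card_sub_X_ne_zero L Fintype.one_lt_card
  have h1 : (X ^ Fintype.card L - X : L[X]).Splits := by
    rw [splits_iff_card_roots, FiniteField.roots_X_pow_card_sub_X,
      FiniteField.X_pow_card_sub_X_natDegree_eq _ Fintype.one_lt_card]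
    rfl
  have h2 : g.Splits := h1.of_dvd h0 h
  have h3 : g.roots.Nodup := by
    refine Multiset.nodup_of_le (roots.le_of_dvd h0 h) ?_
    rw [FiniteField.roots_X_pow_card_sub_X]
    exact Finset.univ.nodup
  have h4 : g.roots.toFinset.card = m := by
    rw [Multiset.toFinset_card_of_nodup h3, ← h2.natDegree_eq_card_roots, hd]
  let e : ↥g.roots.toFinset ≃ Fin m := Finset.equivFinOfCardEq h4
  refine ⟨fun a => (e.symm a : L), fun a b hab => e.symm.injective (Subtype.ext hab), ?_⟩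
  have h5 : ∏ a : Fin m, (X - C ((e.symm a : L))) = ∏ z : ↥g.roots.toFinset, (X - C (z : L)) :=
    Equiv.prod_comp e.symm fun z : ↥g.roots.toFinset => (X - C (z : L))
  rw [h5, Finset.prod_coe_sort g.roots.toFinset fun z : L => (X - C z)]
  nth_rw 1 [h2.eq_prod_roots_of_monic hm]
  rw [Finset.prod, Multiset.toFinset_val, Multiset.dedup_eq_self.2 h3]

theorem pow_mulVec {F : Type*} [Field F] {m : ℕ} (M : Matrix (Fin m) (Fin m) F) {v : Fin m → F} {z : F}
    (h : M.mulVec v = z • v) (N : ℕ) : (M ^ N).mulVec v = z ^ N • v := by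
  induction N with
  | zero => simp
  | succ N ih => rw [pow_succ, ← Matrix.mulVec_mulVec, h, Matrix.mulVec_smul, ih, smul_smul, pow_succ, mul_comm]

theorem exists_vec_of_root {F : Type*} [Field F] {m : ℕ} (M : Matrix (Fin m) (Fin m) F) {z : F}
    (h : M.charpoly.IsRoot z) : ∃ v : Fin m → F, v ≠ 0 ∧ M.mulVec v = z • v := by
  rw [IsRoot.def, Matrix.eval_charpoly, ← Matrix.exists_mulVec_eq_zero_iff] at h
  obtain ⟨v, h1, h2⟩ := h
  rw [Matrix.sub_mulVec, sub_eq_zero, eq_comm, Matrix.scalar_apply, ← Matrix.smul_one_eq_diagonal, Matrix.smul_mulVec,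
    Matrix.one_mulVec] at h2
  exact ⟨v, h1, h2⟩

/-- the eigenvalues of an element of order dividing `N` -/
theorem root_pow {K K' : Type*} [Field K] [Field K'] {i : K →+* K'} {m : ℕ} {x : Matrix.SpecialLinearGroup (Fin m) K}
    {N : ℕ} (hx : x ^ N = 1) {z : K'} (hz : (x.1.charpoly.map i).IsRoot z) : z ^ N = 1 := by
  rw [← Matrix.charpoly_map] at hz
  obtain ⟨v, h1, h2⟩ := exists_vec_of_root _ hz
  have h3 := pow_mulVec _ h2 N
  have h4 : (x.1.map i) ^ N = 1 := by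
    have h5 : (x ^ N : Matrix.SpecialLinearGroup (Fin m) K).1 = x.1 ^ N := Matrix.SpecialLinearGroup.coe_pow x N
    have h6 : (x.1 ^ N).map i = (x.1.map i) ^ N := map_pow i.mapMatrix x.1 N
    rw [← h6, ← h5, hx]
    exact map_one i.mapMatrix
  rw [h4, Matrix.one_mulVec] at h3
  by_contra hcon
  apply h1
  have h5 : (1 - z ^ N) • v = 0 := by rw [sub_smul, one_smul, ← h3, sub_self]
  exact (smul_eq_zero.1 h5).resolve_left (sub_ne_zero.2 (Ne.symm hcon))

section

variable {K : Type u} [Field K] [Finite K] {K' : Type} [Field K'] [Finite K'] [Algebra K K'] {n : ℕ}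

theorem exists_lam_map (hK' : Nat.card K' = Nat.card K ^ n) {f : K[X]} {m : ℕ} (hm : f.Monic) (hd : f.natDegree = m)
    (h : f ∣ X ^ Nat.card K ^ n - X) :
    ∃ lam : Fin m → K', Function.Injective lam ∧ f.map (algebraMap K K') = ∏ a, (X - C (lam a)) := by
  refine exists_lam (hm.map _) (by rw [natDegree_map, hd]) ?_
  rw [hK']
  have h1 := map_dvd (algebraMap K K') h
  rwa [Polynomial.map_sub, Polynomial.map_pow, Polynomial.map_X] at h1

/-- the product of the eigenvalues -/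
theorem prod_of_map {K K' : Type*} [Field K] [Field K'] {i : K →+* K'} {m : ℕ} (x : Matrix.SpecialLinearGroup (Fin m) K)
    {lam : Fin m → K'} (h : x.1.charpoly.map i = ∏ a, (X - C (lam a))) : ∏ a, lam a = 1 := by
  have h1 : (x.1.map i).det = 1 := by
    have h2 : (x.1.map i).det = i x.1.det := (RingHom.map_det _ _).symm
    rw [h2, x.2, map_one]
  rw [Matrix.det_eq_sign_charpoly_coeff, Matrix.charpoly_map, h, coeff_zero_eq_eval_zero, eval_prod] at h1
  simp only [eval_sub, eval_X, eval_C, zero_sub] at h1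
  have h2 : ∀ a : Fin m, -(lam a) = (-1) * lam a := fun a => neg_eq_neg_one_mul _
  rw [Finset.prod_congr rfl fun a _ => h2 a, Finset.prod_mul_distrib, Finset.prod_const, Finset.card_univ,
    Fintype.card_fin, ← mul_assoc, ← mul_pow, neg_one_mul, neg_neg, one_pow, one_mul] at h1
  exact h1

/-- the eigenvalues over `K'` -/
theorem ev_of_dvd (hK' : Nat.card K' = Nat.card K ^ n) {m : ℕ} {x : Matrix.SpecialLinearGroup (Fin m) K}
    (h : x.1.charpoly ∣ X ^ Nat.card K ^ n - X) {E : (Fin m → K') → Prop}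
    (hE : ∀ lam : Fin m → K', ∏ a, lam a = 1 → Function.Injective lam →
      (∀ a, (x.1.charpoly.map (algebraMap K K')).IsRoot (lam a)) → E lam) : Ev (algebraMap K K') E x := by
  obtain ⟨lam, h1, h2⟩ := exists_lam_map (K' := K') hK' x.1.charpoly_monic
    (by rw [Matrix.charpoly_natDegree_eq_dim, Fintype.card_fin]) h
  refine ⟨lam, hE lam (prod_of_map x h2) h1 fun a => ?_, h1, h2⟩
  rw [h2, IsRoot.def, eval_prod]
  exact Finset.prod_eq_zero (Finset.mem_univ a) (by simp)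

/-- an irreducible polynomial with a root `z` divides every polynomial with root `z` -/
theorem dvd_of_irr {f g : K[X]} (hf : Irreducible f) {z : K'} (h1 : (f.map (algebraMap K K')).IsRoot z)
    (h2 : (g.map (algebraMap K K')).IsRoot z) : f ∣ g := by
  have e1 : aeval z f = 0 := by rwa [IsRoot.def, eval_map_algebraMap] at h1
  have e2 : aeval z g = 0 := by rwa [IsRoot.def, eval_map_algebraMap] at h2
  have h3 : minpoly K z ∣ f := minpoly.dvd K z e1
  have h4 : minpoly K z ∣ g := minpoly.dvd K z e2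
  have h5 : ¬ IsUnit (minpoly K z) := (minpoly.irreducible (Algebra.IsIntegral.isIntegral z)).not_isUnit
  obtain ⟨c, hc⟩ := h3
  rcases hf.isUnit_or_isUnit hc with h6 | h6
  · exact absurd h6 h5
  · refine (Associated.dvd ?_).trans h4
    rw [hc]
    exact (associated_mul_unit_left _ _ h6)

/-- roots of irreducible polynomials are not in small subfields -/
theorem irr_ne {f : K[X]} (hf : Irreducible f) {e : ℕ} (he : ¬ f.natDegree ∣ e) {z : K'}
    (h1 : (f.map (algebraMap K K')).IsRoot z) : z ^ (Nat.card K ^ e) ≠ z := by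
  intro h2
  apply he
  rw [hf.natDegree_dvd_iff_dvd_X_pow_card_pow_sub_X]
  refine dvd_of_irr hf h1 ?_
  rw [IsRoot.def, Polynomial.map_sub, Polynomial.map_pow, Polynomial.map_X, eval_sub, eval_pow, eval_X, h2, sub_self]

theorem irr_dvd {f : K[X]} (hf : Irreducible f) (he : f.natDegree ∣ n) : f ∣ X ^ Nat.card K ^ n - X :=
  hf.natDegree_dvd_iff_dvd_X_pow_card_pow_sub_X.1 he

theorem dvd_lin (a : K) (n : ℕ) : X - C a ∣ (X ^ Nat.card K ^ n - X : K[X]) := by
  have := Fintype.ofFinite K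
  rw [dvd_iff_isRoot, IsRoot.def, eval_sub, eval_pow, eval_X, Nat.card_eq_fintype_card, FiniteField.pow_card_pow, sub_self]

/-- quadratic polynomials with different roots -/
theorem dvd_quad (hn : 2 ∣ n) {t : K} (h1 : t ≠ 2) (h2 : t ≠ -2) :
    (X ^ 2 - C t * X + C 1 : K[X]) ∣ X ^ Nat.card K ^ n - X := by
  have hm : (X ^ 2 - C t * X + C 1 : K[X]).Monic := by monicity!
  have hd : (X ^ 2 - C t * X + C 1 : K[X]).natDegree = 2 := by compute_degree!
  by_cases hr : ∃ a : K, a ^ 2 - t * a + 1 = 0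
  · obtain ⟨a, ha⟩ := hr
    have e : (X ^ 2 - C t * X + C 1 : K[X]) = (X - C a) * (X - C (t - a)) := by
      have e1 : (1 : K) = a * (t - a) := by linear_combination ha
      nth_rw 1 [e1]
      rw [C_mul, C_sub]
      ring
    rw [e]
    refine IsCoprime.mul_dvd ?_ (dvd_lin a n) (dvd_lin _ n)
    refine isCoprime_X_sub_C_of_isUnit_sub (sub_ne_zero.2 fun h => ?_).isUnit
    have h3 : t = 2 * a := by linear_combination -h
    have h4 : a * a = 1 := by
      rw [h3] at ha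
      linear_combination -ha
    rcases mul_self_eq_one_iff.1 h4 with h5 | h5
    · exact h1 (by rw [h3, h5, mul_one])
    · exact h2 (by rw [h3, h5]; ring)
  · refine irr_dvd ?_ (by rw [hd]; exact hn)
    rw [hm.irreducible_iff_roots_eq_zero_of_degree_le_three (by omega) (by omega)]
    refine Multiset.eq_zero_of_forall_notMem fun x hx => hr ⟨x, ?_⟩
    have h3 := (mem_roots hm.ne_zero).1 hx
    rw [IsRoot.def] at h3
    simpa using h3

end

end Cfsg.Agent.H85.Pw
end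
end
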