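import Cfsg.Agent.H934.MF.Blk_m3
import Cfsg.Agent.H841.TwG_m3
import Mathlib
import Cfsg.Agent.ChevalleyStructure.Tits.Table
import Cfsg.Agent.H323.Pw.Coset
import Cfsg.Agent.ChevalleyStructure.Elts
import Cfsg.Agent.H537.EP.OfMJ
import Cfsg.Agent.KFacts.RgdChevCoord
import Cfsg.Agent.H126.PwO.Nu_m3
import Cfsg.Agent.FastGrp
import Cfsg.Agent.Prune
set_option linter.all false

section
prune_inst 0x7ffcadf8abbc29dfdfff7e7ff69dcdfc39911fffa6dff943ffe061ff0bdf038609c5f3ad09e010fe0ed6c01410a87803fb7eeeffea6bd87ffffd1ff45ffbee5fe5f7bd0851968c341fbc0fff63f0778e7f3fffffffffffffffffffffffffffbeffbfffffffff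

-- part: H126/PwO/FiveThree
section
set_option linter.all false
open scoped Cfsg.Agent.FastGrp

-- part: H126/PwO/Cert
section
/-!
# Kernel checks with matrices over a field with `p` elements, `p` prime (helper126)
-/

set_option autoImplicit false
set_option linter.unusedSectionVars false

namespace Cfsg.Agent.H126.PwO.Cert

open Matrix Polynomial Cfsg.Agent.H934.MF

variable {F : Type*} [Field F] {p : ℕ}

/-- `a x + y` -/
def zw (p a : ℕ) (x y : List ℕ) : List ℕ := List.zipWith (fun u v => (a * u + v) % p) x y

/-- `v R + acc` -/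
def vm (p : ℕ) : List ℕ → List (List ℕ) → List ℕ → List ℕ
  | a :: v, r :: R, acc => vm p v R (zw p a r acc)
  | _, _, acc => acc

theorem length_zw {a : ℕ} {x y : List ℕ} (h : x.length = y.length) : (zw p a x y).length = y.length := by
  rw [zw, List.length_zipWith, h, min_self]

/-- the entries in `F` -/
def g (F : Type*) [Field F] (l : List ℕ) (j : ℕ) : F := ((l.getD j 0 : ℕ) : F)

theorem g_zw [CharP F p] {a : ℕ} {x y : List ℕ} (h : x.length = y.length) (j : ℕ) :
    g F (zw p a x y) j = a * g F x j + g F y j := by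
  rw [g, g, g, zw]
  by_cases hj : j < y.length
  · rw [List.getD_eq_getElem _ _ (by rw [List.length_zipWith, h, min_self]; exact hj), List.getElem_zipWith,
      List.getD_eq_getElem _ _ (by rw [h]; exact hj), List.getD_eq_getElem _ _ hj, CharP.cast_eq_mod F p,
      Nat.mod_mod, ← CharP.cast_eq_mod F p, Nat.cast_add, Nat.cast_mul]
  · rw [List.getD_eq_default _ _ (by rw [List.length_zipWith, h, min_self]; omega),
      List.getD_eq_default _ _ (by rw [h]; omega), List.getD_eq_default _ _ (by omega)]
    simp

theorem length_vm : ∀ (v : List ℕ) (R : List (List ℕ)) (acc : List ℕ), (∀ r ∈ R, r.length = acc.length) →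
    (vm p v R acc).length = acc.length
  | [], _, acc, _ => by rw [vm]; simp
  | a :: v, [], acc, _ => by rw [vm]; simp
  | a :: v, r :: R, acc, h => by
    have h1 := h r (List.mem_cons_self)
    rw [vm, length_vm v R _ (fun r' hr' => by rw [length_zw h1, h r' (List.mem_cons_of_mem _ hr')]), length_zw h1]

theorem g_vm [CharP F p] (j : ℕ) : ∀ (R : List (List ℕ)) (v : List ℕ) (acc : List ℕ),
    (∀ r ∈ R, r.length = acc.length) → v.length = R.length →
    g F (vm p v R acc) j = g F acc j + ∑ k ∈ Finset.range R.length, g F v k * g F (R.getD k []) j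
  | [], [], acc, _, _ => by simp [vm]
  | [], a :: v, acc, _, h => absurd h (by simp)
  | r :: R, [], acc, _, h => absurd h (by simp)
  | r :: R, a :: v, acc, h, hl => by
    have h1 := h r (List.mem_cons_self)
    rw [vm, g_vm j R v _ (fun r' hr' => by rw [length_zw h1, h r' (List.mem_cons_of_mem _ hr')])
      (by simpa using hl), g_zw h1, List.length_cons, Finset.sum_range_succ']
    simp only [List.getD_cons_succ, List.getD_cons_zero, g]
    ring

/-- row vector -/
def row (F : Type*) [Field F] (n : ℕ) (l : List ℕ) : Fin n → F := fun j => g F l j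

/-- matrix from rows -/
def mat (F : Type*) [Field F] (n : ℕ) (R : List (List ℕ)) : Matrix (Fin n) (Fin n) F :=
  Matrix.of fun i j => g F (R.getD i []) j

/-- well-formed square matrices -/
def WF (n : ℕ) (R : List (List ℕ)) : Prop := R.length = n ∧ ∀ r ∈ R, r.length = n

theorem row_vm [CharP F p] {n : ℕ} {R : List (List ℕ)} (hR : WF n R) {v acc : List ℕ} (hv : v.length = n)
    (ha : acc.length = n) : row F n (vm p v R acc) = row F n acc + row F n v ᵥ* mat F n R := by
  ext j
  rw [row, g_vm j R v acc (fun r hr => by rw [hR.2 r hr, ha]) (by rw [hv, hR.1]), hR.1, Pi.add_apply,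
    Matrix.vecMul, dotProduct,
    ← Fin.sum_univ_eq_sum_range (fun k => g F v k * g F (R.getD k []) j)]
  rfl

/-- the zero vector -/
def z0 (n : ℕ) : List ℕ := List.replicate n 0

theorem row_z0 (n : ℕ) : row F n (z0 n) = 0 := by
  ext j
  rw [row, g, z0]
  have : (List.replicate n 0).getD (j : ℕ) 0 = 0 := by
    rw [List.getD_eq_getElem _ _ (by rw [List.length_replicate]; exact j.2), List.getElem_replicate]
  rw [this, Nat.cast_zero, Pi.zero_apply]

/-- product of matrices -/
def mulR (p n : ℕ) (A B : List (List ℕ)) : List (List ℕ) := A.map fun a => vm p a B (z0 n)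

theorem getD_map {α β : Type*} (f : α → β) (l : List α) (i : ℕ) (a : α) (b : β) (hi : i < l.length) :
    (l.map f).getD i b = f (l.getD i a) := by
  rw [List.getD_eq_getElem _ _ (by rw [List.length_map]; exact hi), List.getElem_map,
    List.getD_eq_getElem _ _ hi]

theorem mat_mulR [CharP F p] {n : ℕ} {A B : List (List ℕ)} (hA : WF n A) (hB : WF n B) :
    mat F n (mulR p n A B) = mat F n A * mat F n B := by
  ext i j
  have hi : (i : ℕ) < A.length := by rw [hA.1]; exact i.2
  have h1 : (mulR p n A B).getD i [] = vm p (A.getD i []) B (z0 n) := by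
    rw [mulR, getD_map _ _ _ [] _ hi]
  have h2 : (A.getD i []).length = n := by
    rw [List.getD_eq_getElem _ _ hi]; exact hA.2 _ (List.getElem_mem _)
  rw [mat, Matrix.of_apply, h1]
  have hz : (z0 n).length = n := by rw [z0, List.length_replicate]
  have h3 := congrFun (row_vm (F := F) (p := p) hB h2 hz) j
  rw [row_z0, zero_add] at h3
  exact h3

/-- the check `v f(X) = acc` -/
def kr (p n : ℕ) (R : List (List ℕ)) : List ℕ → List ℕ → List ℕ → Bool
  | [], v, acc => v == acc
  | b :: l, v, acc => kr p n R l (vm p v R (z0 n)) (zw p (p - b) v acc)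

theorem kr_spec [CharP F p] {n : ℕ} {R : List (List ℕ)} (hR : WF n R) : ∀ (l : List ℕ) (v acc : List ℕ),
    (∀ b ∈ l, b ≤ p) → v.length = n → acc.length = n → kr p n R l v acc = true →
    row F n v ᵥ* (aeval (mat F n R) (mono (l.map fun b : ℕ => (b : F)))) = row F n acc
  | [], v, acc, _, _, _, h => by
    rw [kr, beq_iff_eq] at h
    have : mono (([] : List ℕ).map fun b : ℕ => (b : F)) = 1 := by
      rw [List.map_nil, mono, List.nil_append, toP, toP, mul_zero, add_zero, C_1]
    rw [this, map_one, Matrix.vecMul_one, h]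
  | b :: l, v, acc, hb, hv, ha, h => by
    have hz : (z0 n).length = n := by rw [z0, List.length_replicate]
    have h1 := kr_spec hR l _ _ (fun b' hb' => hb b' (List.mem_cons_of_mem _ hb'))
      (by rw [length_vm _ _ _ (fun r hr => by rw [hR.2 r hr, hz]), hz])
      (by rw [length_zw (by rw [hv, ha]), ha]) h
    have h2 : mono ((b :: l).map fun b : ℕ => (b : F)) = C ((b : ℕ) : F) + X * mono (l.map fun b : ℕ => (b : F)) := rfl
    rw [h2, map_add, map_mul, aeval_X, aeval_C, Matrix.vecMul_add, ← Matrix.vecMul_vecMul]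
    have h3 := row_vm (F := F) (p := p) hR hv hz
    rw [row_z0, zero_add] at h3
    rw [← h3, h1]
    ext j
    have h4 : row F n (zw p (p - b) v acc) j = ((p - b : ℕ) : F) * row F n v j + row F n acc j :=
      g_zw (by rw [hv, ha]) j
    rw [Pi.add_apply, h4, Nat.cast_sub (hb b (List.mem_cons_self)), CharP.cast_eq_zero F p, zero_sub]
    have h5 : (row F n v ᵥ* (algebraMap F (Matrix (Fin n) (Fin n) F)) ((b : ℕ) : F)) j =
        ((b : ℕ) : F) * row F n v j := by
      rw [Algebra.algebraMap_eq_smul_one, Matrix.vecMul_smul, Matrix.vecMul_one]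
      rfl
    rw [h5]
    ring

/-- the first unit vector -/
def e1 (n : ℕ) : List ℕ := 1 :: List.replicate (n - 1) 0

theorem charpoly_of_kr [CharP F p] {n : ℕ} (hn : 0 < n) {R : List (List ℕ)} (hR : WF n R) {l : List ℕ}
    (hl : l.length = n) (hlp : ∀ b ∈ l, b ≤ p) (hirr : Irreducible (mono (l.map fun b : ℕ => (b : F))))
    (h : kr p n R l (e1 n) (z0 n) = true) :
    (mat F n R).charpoly = mono (l.map fun b : ℕ => (b : F)) := by
  refine charpoly_of_vec hirr (mono_monic _) (by rw [mono_natDegree, List.length_map, hl]) (v := row F n (e1 n)) ?_ ?_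
  · intro h0
    have := congrFun h0 ⟨0, hn⟩
    rw [row, g, e1] at this
    simp at this
  · rw [kr_spec hR l (e1 n) (z0 n) hlp (by rw [e1, List.length_cons, List.length_replicate]; omega)
      (by rw [z0, List.length_replicate]) h, row_z0]

/-- digits -/
def dg (p c i : ℕ) : ℕ := c / p ^ i % p

/-- entries of the block companion matrix -/
def ent (p n b c i j : ℕ) : ℕ :=
  if b.testBit j = true then
    (if i ≤ j ∧ ((List.range n).all fun k => decide (i ≤ k → k < j → b.testBit k = false)) = true then dg p c i else 0)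
  else if i = j + 1 then 1 else 0

/-- rows of the block companion matrix -/
def rowsB (p n b c : ℕ) : List (List ℕ) := (List.range n).map fun i => (List.range n).map fun j => ent p n b c i j

theorem getD_range (n i : ℕ) (hi : i < n) : (List.range n).getD i 0 = i := by
  rw [List.getD_eq_getElem _ _ (by rw [List.length_range]; exact hi), List.getElem_range]

theorem mat_rowsB {n b c : ℕ} : mat F n (rowsB p n b c) =
    blk (fun i : Fin n => b.testBit i) (fun i => ((dg p c i : ℕ) : F)) := by
  ext i j
  rw [mat, Matrix.of_apply, g, rowsB, getD_map _ _ _ 0 _ (by rw [List.length_range]; exact i.2), getD_range n i i.2,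
    getD_map _ _ _ 0 _ (by rw [List.length_range]; exact j.2), getD_range n j j.2, ent, blk, Matrix.of_apply]
  have h1 : (((List.range n).all fun k => decide ((i : ℕ) ≤ k → k < (j : ℕ) → b.testBit k = false)) = true) ↔
      ∀ k : Fin n, i ≤ k → k < j → b.testBit k = false := by
    rw [List.all_eq_true]
    constructor
    · intro h k h2 h3
      have := h k (List.mem_range.2 k.2)
      rw [decide_eq_true_iff] at this
      exact this h2 h3
    · intro h k hk
      rw [decide_eq_true_iff]
      intro h2 h3
      exact h ⟨k, List.mem_range.1 hk⟩ h2 h3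
  by_cases hb : b.testBit j = true
  · rw [if_pos hb, if_pos hb]
    by_cases h2 : (i : ℕ) ≤ j ∧ ((List.range n).all fun k => decide ((i : ℕ) ≤ k → k < (j : ℕ) → b.testBit k = false)) = true
    · rw [if_pos h2, if_pos ⟨h2.1, h1.1 h2.2⟩]
    · rw [if_neg h2, if_neg (fun h3 => h2 ⟨h3.1, h1.2 h3.2⟩), Nat.cast_zero]
  · rw [if_neg hb, if_neg hb]
    by_cases h2 : (i : ℕ) = j + 1
    · rw [if_pos h2, if_pos h2, Nat.cast_one]
    · rw [if_neg h2, if_neg h2, Nat.cast_zero]

/-- decoding of a row -/
def unR (p n w : ℕ) : List ℕ := (List.range n).map fun i => dg p w i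

/-- decoding of a matrix, rows of 8 bits -/
def unM (p n w : ℕ) : List (List ℕ) := (List.range n).map fun i => unR p n (w / 256 ^ i % 256)

theorem wf_unM (n w : ℕ) : WF n (unM p n w) := by
  refine ⟨by rw [unM, List.length_map, List.length_range], fun r hr => ?_⟩
  rw [unM, List.mem_map] at hr
  obtain ⟨i, -, rfl⟩ := hr
  rw [unR, List.length_map, List.length_range]

end Cfsg.Agent.H126.PwO.Cert
end

-- part: H126/PwO/FiveThree
section
/-!
# `SL_5(3)`: every non-scalar element is a product of two elements of order `11` (helper126)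

Generated certificates.
-/

set_option autoImplicit false
set_option maxRecDepth 100000

namespace Cfsg.Agent.H126.PwO.Five

open Matrix Polynomial Cfsg.Agent.H934.MF Cfsg.Agent.H126.PwO.Cert

/-- lower coefficients -/
def lF : List ℕ := [2, 2, 1, 2, 0]

/-- entries times `-1` -/
def ng (R : List (List ℕ)) : List (List ℕ) := R.map fun r => r.map fun x => 2 * x % 3

/-- check of one certificate -/
def okC (b c w : ℕ) : Bool :=
  (mulR 3 5 (unM 3 5 (w % 1099511627776)) (unM 3 5 (w / 1099511627776)) == rowsB 3 5 b c ||
    mulR 3 5 (unM 3 5 (w % 1099511627776)) (unM 3 5 (w / 1099511627776)) == ng (rowsB 3 5 b c)) &&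
    (kr 3 5 (unM 3 5 (w % 1099511627776)) lF (e1 5) (z0 5) && kr 3 5 (unM 3 5 (w / 1099511627776)) lF (e1 5) (z0 5))

/-- the starts of the blocks have nonzero digits -/
def stOK (b c : ℕ) : Bool := (List.range 5).all fun i => decide ((i = 0 ∨ b.testBit (i - 1) = true) → dg 3 c i ≠ 0)

/-- scalars -/
def ex (b c : ℕ) : Bool := (b == 31) && (c == 121 || c == 242)

/-! All `243` values of `c` are treated at once : two masks for each entry. -/

private def vb (z s : Bool) : ℕ := cond z (cond s 2 1) 0

private def tv (c : ℕ) (t : ℕ × ℕ) : ℕ := vb (t.1.testBit c) (t.2.testBit c)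

private noncomputable def fB {α : Type} (x : ℕ) (k : ℕ → α) : α := Bool.rec (k x) (k x) (Nat.beq x 0)

private theorem fB_eq {α : Type} (x : ℕ) (k : ℕ → α) : fB x k = k x := by
  unfold fB
  cases Nat.beq x 0 <;> rfl

private noncomputable def tm (a b : ℕ × ℕ) : ℕ × ℕ :=
  Prod.rec (fun z s => Prod.rec (fun z' s' => (Nat.land z z', Nat.xor s s')) b) a

private noncomputable def ta (a b : ℕ × ℕ) : ℕ × ℕ :=
  Prod.rec (fun z s => Prod.rec (fun z' s' => fB (Nat.land z z') fun m =>
    fB (Nat.xor (Nat.lor z z') (Nat.land m (Nat.xor s s'))) fun u =>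
    fB (Nat.xor (Nat.lor (Nat.land z s) (Nat.land z' s')) m) fun v => (u, v)) b) a

private theorem val_mul (c : ℕ) (a b : ℕ × ℕ) : tv c (tm a b) = tv c a * tv c b % 3 := by
  obtain ⟨z, s⟩ := a
  obtain ⟨z', s'⟩ := b
  have h : ∀ a b c d : Bool, vb (a && c) (b ^^ d) = vb a b * vb c d % 3 := by decide
  show vb ((z &&& z').testBit c) ((s ^^^ s').testBit c) = _
  rw [Nat.testBit_and, Nat.testBit_xor]
  exact h _ _ _ _

private theorem val_add (c : ℕ) (a b : ℕ × ℕ) : tv c (ta a b) = (tv c a + tv c b) % 3 := by
  obtain ⟨z, s⟩ := a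
  obtain ⟨z', s'⟩ := b
  have h : ∀ a b c d : Bool, vb ((a || c) ^^ ((a && c) && (b ^^ d))) (((a && b) || (c && d)) ^^ (a && c)) =
      (vb a b + vb c d) % 3 := by decide
  show tv c (fB (Nat.land z z') fun m => fB _ fun u => fB _ fun v => _) = _
  rw [fB_eq, fB_eq, fB_eq]
  simp only [tv, Nat.land_eq, Nat.lor_eq, Nat.xor_eq, Nat.testBit_and, Nat.testBit_or, Nat.testBit_xor]
  exact h _ _ _ _

private noncomputable def zwT (a : ℕ × ℕ) (x y : List (ℕ × ℕ)) : List (ℕ × ℕ) := List.zipWith (fun u v => ta (tm a u) v) x y

private theorem val_zwT (c : ℕ) {a : ℕ × ℕ} {n : ℕ} (h : tv c a % 3 = n % 3) : ∀ x y : List (ℕ × ℕ),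
    (zwT a x y).map (tv c) = zw 3 n (x.map (tv c)) (y.map (tv c))
  | [], _ => rfl
  | _ :: _, [] => rfl
  | u :: x, v :: y => List.cons_eq_cons.2 ⟨by
      rw [val_add, val_mul, Nat.mod_add_mod, Nat.add_mod, Nat.mul_mod, h, ← Nat.mul_mod, ← Nat.add_mod], val_zwT c h x y⟩

private noncomputable def vmT : List (ℕ × ℕ) → List (List (ℕ × ℕ)) → List (ℕ × ℕ) → List (ℕ × ℕ)
  | a :: v, r :: R, acc => vmT v R (zwT a r acc)
  | _, _, acc => acc

private theorem val_vmT (c : ℕ) : ∀ (v : List (ℕ × ℕ)) (R : List (List (ℕ × ℕ))) (acc : List (ℕ × ℕ)),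
    (vmT v R acc).map (tv c) = vm 3 (v.map (tv c)) (R.map (List.map (tv c))) (acc.map (tv c))
  | [], _, _ => rfl
  | _ :: _, [], _ => rfl
  | _ :: v, _ :: R, _ => (val_vmT c v R _).trans (congrArg _ (val_zwT c rfl _ _))

private def cst (n : ℕ) : ℕ × ℕ :=
  cond (Nat.beq (n % 3) 0) ⟨0, 0⟩ ⟨0x7ffffffffffffffffffffffffffffffffffffffffffffffffffffffffffff, cond (Nat.beq (n % 3) 1) 0 0x7ffffffffffffffffffffffffffffffffffffffffffffffffffffffffffff⟩

private theorem val_cst {c : ℕ} (hc : c < 243) (n : ℕ) : tv c (cst n) = n % 3 := by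
  have h : ∀ c < 243, ∀ r < 3, tv c (cst r) = r := by decide +kernel
  rw [← h c hc _ (Nat.mod_lt n (by decide)), cst, cst, Nat.mod_mod]

private noncomputable def eqM (V : ℕ) : List (ℕ × ℕ) → List (ℕ × ℕ) → Bool
  | [], [] => true
  | u :: x, v :: y => Nat.beq (Nat.land V (Nat.lor (Nat.xor u.1 v.1) (Nat.land u.1 (Nat.xor u.2 v.2)))) 0 && eqM V x y
  | _, _ => false

private theorem eqM_spec {V c : ℕ} (hV : V.testBit c = true) : ∀ x y : List (ℕ × ℕ), eqM V x y = true →
    x.map (tv c) = y.map (tv c)
  | [], [], _ => rfl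
  | [], _ :: _, h => nomatch h
  | _ :: _, [], h => nomatch h
  | u :: x, v :: y, h => by
    obtain ⟨h1, h2⟩ := Bool.and_eq_true_iff.1 h
    have h3 := congrArg (Nat.testBit · c) (Nat.eq_of_beq_eq_true h1)
    have h4 : ∀ a b c d : Bool, ((a ^^ c) || (a && (b ^^ d))) = false → vb a b = vb c d := by decide
    simp only [Nat.land_eq, Nat.lor_eq, Nat.xor_eq, Nat.testBit_and, Nat.testBit_or, Nat.testBit_xor, hV,
      Bool.true_and, Nat.zero_testBit] at h3
    exact List.cons_eq_cons.2 ⟨h4 _ _ _ _ h3, eqM_spec hV x y h2⟩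

private theorem val_z {c : ℕ} (hc : c < 243) (n : ℕ) : (List.replicate n (cst 0)).map (tv c) = z0 n := by
  rw [List.map_replicate, val_cst hc, z0]

private noncomputable def krT (V : ℕ) (R : List (List (ℕ × ℕ))) : List ℕ → List (ℕ × ℕ) → List (ℕ × ℕ) → Bool
  | [], v, acc => eqM V v acc
  | b :: l, v, acc => krT V R l (vmT v R (List.replicate 5 (cst 0))) (zwT (cst (3 - b)) v acc)

private theorem krT_spec {V c : ℕ} (hc : c < 243) (hV : V.testBit c = true) (R : List (List (ℕ × ℕ))) :
    ∀ (l : List ℕ) (v acc : List (ℕ × ℕ)), krT V R l v acc = true →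
      kr 3 5 (R.map (List.map (tv c))) l (v.map (tv c)) (acc.map (tv c)) = true
  | [], v, acc, h => beq_iff_eq.2 (eqM_spec hV v acc h)
  | b :: l, v, acc, h => by
    have h1 := krT_spec hc hV R l _ _ h
    rwa [val_vmT, val_z hc, val_zwT c (n := 3 - b) (by rw [val_cst hc, Nat.mod_mod])] at h1

private def pl (P k : ℕ) : ℕ :=
  Nat.land (Nat.shiftRight P (Nat.mul 243 k)) 0x7ffffffffffffffffffffffffffffffffffffffffffffffffffffffffffff

private def matT (P o : ℕ) : List (List (ℕ × ℕ)) :=
  (List.range 5).map fun i => (List.range 5).map fun j => ⟨pl P (o + 10 * i + 2 * j), pl P (o + 10 * i + 2 * j + 1)⟩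

private theorem enc (P o c : ℕ) : ∃ u < 1099511627776, unM 3 5 u = (matT P o).map (List.map (tv c)) := by
  have h1 : ∀ a < 3, ∀ b < 3, ∀ c < 3, ∀ d < 3, ∀ e < 3, a + 3 * (b + 3 * (c + 3 * (d + 3 * e))) < 256 ∧
    unR 3 5 (a + 3 * (b + 3 * (c + 3 * (d + 3 * e)))) = [a, b, c, d, e] := by
    set_option synthInstance.maxSize 2000 in decide +kernel
  have h2 : ∀ a b, vb a b < 3 := by decide
  have h3 : ∀ i, ∃ n < 256, unR 3 5 n = ((List.range 5).map fun j =>
      ((pl P (o + 10 * i + 2 * j), pl P (o + 10 * i + 2 * j + 1)) : ℕ × ℕ)).map (tv c) := fun i =>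
    ⟨_, h1 _ (h2 _ _) _ (h2 _ _) _ (h2 _ _) _ (h2 _ _) _ (h2 _ _)⟩
  obtain ⟨n0, l0, e0⟩ := h3 0
  obtain ⟨n1, l1, e1⟩ := h3 1
  obtain ⟨n2, l2, e2⟩ := h3 2
  obtain ⟨n3, l3, e3⟩ := h3 3
  obtain ⟨n4, l4, e4⟩ := h3 4
  obtain ⟨u, hu⟩ : ∃ u, u = n0 + 256 * (n1 + 256 * (n2 + 256 * (n3 + 256 * n4))) := ⟨_, rfl⟩
  refine ⟨u, by omega, ?_⟩
  show [unR 3 5 (u / 1 % 256), unR 3 5 (u / 256 % 256), unR 3 5 (u / 65536 % 256), unR 3 5 (u / 16777216 % 256),
    unR 3 5 (u / 4294967296 % 256)] = _
  rw [show u / 1 % 256 = n0 by omega, show u / 256 % 256 = n1 by omega, show u / 65536 % 256 = n2 by omega,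
    show u / 16777216 % 256 = n3 by omega, show u / 4294967296 % 256 = n4 by omega, e0, e1, e2, e3, e4]
  rfl

private def dgP : ℕ := 0x3fffffffffffffffffffe00000000000000000000000000000000000000007fffffffffffffffffffffffffffffffffffffffe00000000000000000000ffffffe00000000000007ffffff00000000000003ffffff80000000000001fffffffffffff8000000fffffffffffffc0000007ffffffffffffe0000003fe00007fc0000ff80001ff00003fe00007fc0000ff80001ff00003fe00007fffe00ffffc01ffff803ffff007fffe00ffffc01ffff803ffff007fffe00e070381c0e070381c0e070381c0e070381c0e070381c0e070381c0e070381f8fc7e3f1f8fc7e3f1f8fc7e3f1f8fc7e3f1f8fc7e3f1f8fc7e3f1f8fc7e24924924924924924924924924924924924924924924924924924924924926db6db6db6db6db6db6db6db6db6db6db6db6db6db6db6db6db6db6db6db6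

private def entT (b i j : ℕ) : ℕ × ℕ :=
  if b.testBit j = true then
    (if i ≤ j ∧ ((List.range 5).all fun k => decide (i ≤ k → k < j → b.testBit k = false)) = true then
      ⟨pl dgP (2 * i), pl dgP (2 * i + 1)⟩ else cst 0)
  else if i = j + 1 then cst 1 else cst 0

private theorem val_entT {c i : ℕ} (hc : c < 243) (hi : i < 5) (b j : ℕ) :
    tv c (entT b i j) = ent 3 5 b c i j ∧ ent 3 5 b c i j < 3 := by
  have h : ∀ c < 243, ∀ i < 5, tv c ⟨pl dgP (2 * i), pl dgP (2 * i + 1)⟩ = dg 3 c i := by decide +kernel
  rw [entT, ent]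
  split_ifs
  exacts [⟨h c hc i hi, Nat.mod_lt _ (by decide)⟩, ⟨val_cst hc 0, by decide⟩, ⟨val_cst hc 1, by decide⟩,
    ⟨val_cst hc 0, by decide⟩]

private noncomputable def chkT (b P : ℕ) : Bool :=
  ((List.range 243).all fun c => !stOK b c || ex b c || (pl P 101).testBit c) &&
  ((List.range 5).all fun i => eqM (pl P 101) (vmT ((matT P 0).getD i []) (matT P 50) (List.replicate 5 (cst 0)))
    ((List.range 5).map fun j => tm ((cst 1).1, pl P 100) (entT b i j))) &&
  krT (pl P 101) (matT P 0) lF (cst 1 :: List.replicate 4 (cst 0)) (List.replicate 5 (cst 0)) &&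
  krT (pl P 101) (matT P 50) lF (cst 1 :: List.replicate 4 (cst 0)) (List.replicate 5 (cst 0))

private theorem chkT_spec {b P c : ℕ} (h : chkT b P = true) (hc : c < 243) (h1 : stOK b c = true) (h2 : ex b c = false) :
    ∃ w, okC b c w = true := by
  simp only [chkT, Bool.and_eq_true, List.all_eq_true, List.mem_range] at h
  obtain ⟨⟨⟨h3, h4⟩, h5⟩, h6⟩ := h
  have hV := h3 c hc
  rw [h1, h2, Bool.not_true, Bool.false_or, Bool.false_or] at hV
  have h7 := krT_spec hc hV _ _ _ _ h5
  have h8 := krT_spec hc hV _ _ _ _ h6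
  rw [List.map_cons, val_z hc, val_z hc, val_cst hc] at h7 h8
  obtain ⟨u, hu, hx⟩ := enc P 0 c
  obtain ⟨v, -, hy⟩ := enc P 50 c
  refine ⟨u + 1099511627776 * v, ?_⟩
  rw [okC, show (u + 1099511627776 * v) % 1099511627776 = u by omega,
    show (u + 1099511627776 * v) / 1099511627776 = v by omega, hx, hy, Bool.and_eq_true, Bool.and_eq_true,
    Bool.or_eq_true, beq_iff_eq, beq_iff_eq]
  refine ⟨?_, h7, h8⟩
  obtain ⟨n, hn⟩ : ∃ n, tv c ((cst 1).1, pl P 100) = n := ⟨_, rfl⟩
  have h9 : ∀ i < 5, vm 3 (((matT P 0).getD i []).map (tv c)) ((matT P 50).map (List.map (tv c))) (z0 5) =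
      (List.range 5).map fun j => n * ent 3 5 b c i j % 3 := fun i hi => by
    have e := eqM_spec hV _ _ (h4 i hi)
    rw [val_vmT, val_z hc, List.map_map] at e
    exact e.trans (List.map_congr_left fun j _ => (val_mul _ _ _).trans (by rw [hn, (val_entT hc hi b j).1]))
  have h10 : mulR 3 5 ((matT P 0).map (List.map (tv c))) ((matT P 50).map (List.map (tv c))) =
      (List.range 5).map fun i => (List.range 5).map fun j => n * ent 3 5 b c i j % 3 :=
    List.cons_eq_cons.2 ⟨h9 0 (by decide), List.cons_eq_cons.2 ⟨h9 1 (by decide), List.cons_eq_cons.2 ⟨h9 2 (by decide),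
      List.cons_eq_cons.2 ⟨h9 3 (by decide), List.cons_eq_cons.2 ⟨h9 4 (by decide), rfl⟩⟩⟩⟩⟩
  have h11 : ∀ c < 243, (cst 1).1.testBit c = true := by decide +kernel
  rw [tv, h11 c hc] at hn
  rw [h10, ng, rowsB, List.map_map]
  cases e : (pl P 100).testBit c <;> rw [e] at hn <;> cases hn
  · exact Or.inl (List.map_congr_left fun i hi => List.map_congr_left fun j _ => by
      have := (val_entT hc (List.mem_range.1 hi) b j).2
      show 1 * _ % 3 = _
      omega)
  · exact Or.inr (List.map_congr_left fun i _ =>
      (List.map_map (g := fun x => 2 * x % 3) (f := fun j => ent 3 5 b c i j) (l := List.range 5)).symm)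

private theorem chk16 : chkT 16 0x36db6db6db6db6db6db6db6db6db6db6db6db6db6db6db6db6db6db6db6db49249249249249249249249249249249249249249249249249249249249241a00240a00901b2482020824180c30402586120580412936902086d344220b68a4c145b20b6db6d845269b21b65804b0d340b00b25a6d32c16da6db44021004204300009149005220209000b28800005240001305068800a0490520da20944960b49b29a28a64b4da68165344365a6d904a65a2d344144961b6006086030136480484934902480410492404002180d00980030d909b04001a6d96d26426db65b6d36da6596986d96d90c06db6db41304b65b29b61941300a0400800104124810c10182482c049941265100308360205a64200b09965b4ca2120932d34906196834db0db2d32d26da2596906ca49b4db64169b2590d900829b64004a00b21801148000200121021061a24220a40009801b20b61b2596db6cb4494d16d341229a0804c36536434cb4db4c148a21368b6d92894402502014d10002134122c16c32412130104c12100430804984430002d36d905a0d86da6182c26cb6592db64b2436ca0db6d360961b29b4d865861048b01809809200028020041844821b2c821801301821b4420920122400124936cb4936d34886592592cb09b45b6d94c34836c32c369b4124834c82c80020000094934c001149000341a0000082804d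22820020026524412520034504c109169369b01269b0896d34084c16da29b6d96d14d24ca48a6db69360028228000949804b40801028001200b44100820049928a6882000532082030524da2136d36496c304265b28a6196c920b4c14936d34d905268a6d30d145b2d000060301360040040149808801268140845105b0ca60800849120269b6da25a6c869a6da4d169a2932592d24d82c369a61b6d94db4516d225140000040a0900400000100884012114126006820402890500830020002010516490c14db01844905a29308a6d26d24d34da4d80d329b2906136582506c805024a4d001144164261009b45b2080000020c00882010cb60125141160860a2db6da44a29b2d84c341b69b65344a21965a2916d16596d224b2ca6d36030c009001261808249940100024148800801840028000208a0516830c845069b05b2cb4db61249b6892986db2d32c944b4c805264241165b2d86190d84000c02d320940b05b0d108004028024021909209808160105120001260069105b25a6532d361b65a6914ca05a4d96c361a69b4112c868a64a69b4c22c02810800102100826800094c10894422400084836006826410030cb08a05a0582192db25a2194d04816992db6894490092936d12d34db6c965b6d14d90010020882190094094082c00106cb4884182582880800180194900114026d36d26db05b2db68928905a60b6db6db0cb05b4592d32936db6d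b2822ca68069244a0934426000880096182c80934594032c02126082082406010cb2194db49b6db6886c34996c92c325b61a69b2d365a05b6c104125b6d961b6d901a0982002014c00184520da4904504506804000094014100000820930516cb69b6422d26db00b48b45b6da4da2da2d90c301969168a28a05841369a60000140b48000848a20a0510920984010484000810c30900410000102082926c06c36d92d14d36cb40b25b65b28268b6da2d921965a04969945b05965b24300024a64000005a4020892432090c000121309061a2030886400402806db6d32d94da61069b68a6d12d96516594426da6532cb4516934ca0c96580510580406880d04594d94c820949000000044148128268044a21100000000b68b2082d96db6cb69b6db4cb6da69160369b6d16514d908b65b24b0832094d328364221004a0404900186004c34900d200009028028a00001340808069a6536ca4ca44961b6924830c24db69a09b65121b0da4d94532db6c92d32920422c049020001840009301a0814800012420db24924b08024304009301340a6db29a4db4134c26db68365a6d148325b45b6596db61304a6ca21a65121868a40001844021000825a64a60809308001b2da0430004496930024422db2d949128309905a68345b4cb4d105369a4136db6586034892da6db48b4412812084016884084400400c00406980410134594d849144109a0410d004b2d06d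b4922d90910994884d900a2d325929b6db69b09b2996934d925b20901020340009160020a0c14022d92d104008240020200a4800036c121241260b2c86db0932c80c14db68365b65a6894d26cb4504d94984016da2db69344221108860045948824000028a6006100ca08a28a4002482034084c008001b4c32d36d249b6d34582d30db4d24da45b6996db4d245b2d96d94db4db20004b4c060005908820149340200824300b2500116c04510520104080104016d96db2db4cb29b4da2da69049b6ca6d96db6c26db2cb64a68a29960b09b6402104800020022802032c34c200004145205060209a01b2106080186084096da6db40b4d04d20596d86db49144828b45a6cb6536cb6d32db2132c94c90000916010512484100194100024404520090422080c124100200a24008825901b6c26da2db6ca64b29b0c34ca0cb6d92584d945924a2d948965a2932536020004092d80522114094484012010914500916004c10002914100db09b6ca4524c92db48b4ca6932d92da25b25a69b4d22cb4da6424d22db61b61800900040061208040829208a00304160840125101204120360241140b0524532ca2884cb65848b0d26194c26586d92d36da2834d92c06d169a6db64a6004110520c065900921868809820009249828048141801008020845904201b6ca25b4990cb2516db6d929305a6926db4502906d325b61b2c10cb28b60840000a60a40201360044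100205004168825925020200008029164940b0822c264b6db68b6036c82992c848b64b6db45b2cb6524082db2d32c969165145809004808a21804120040009008b6100c208800a4104002130c02190cb01b21200b65b6432096d94814936136d32d869b4c96cb0db04b69864365b6c228020128300029000049021269820840820200204300148005101860140a65a6592586c065a4024934cb6db05129965861a6c96192d24db6d30d868340144044b4080800104000092100512090c80086180486d84424084820010d22ca4996890910d30db04b64301a64325964b2c360b6db6c84832d944061808a2c845068a2014980400504910532d10590d10000922804c04da0884d845b4db0ca0d94406db20b0cb4d269a65a28b2da6c241b6db6da6db6d149b0180990034484086924120530010c00006130022114826436004c260228b08b41328b69b2d36db4cb41a6cb29801b2d269b4532d34d86c34986cb4536d84104004412902d14d06c025100348028841800a0c06084c30020084992006c269328b2d36db29b6d945b6126934d96930014984c96d869949b0db6cb41040125860809201308129820021844a65128065121049001860161b4890934826cb6cb45b65265965b2d84c36c96db6d00ca64b4d32030c92cb6d965824909a04301908004105044308905844208301100940900000a0080800110592d365868b29964a25a69b65b65b6c965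a60268b2896080d94836d000a61040808840300204a6c04000c00020900086c120120968909008840925b61a0d32110c864a4194db6d92d86d245a6092da6532d16d169329148364b6d800264104201140060100800860805921000800044a2000000032000820400404c92d960b2d14c96936596db21b6d349304808b4520c94c06494d86d849261924a68001201001060240001108800a00909109100a2412c940020245a4d36db6d221a68a20b6c968220365924b68b61a69b24165a65b29264a6c84032800c24124026cb24044008840168000120b00a0804110c86930424104826db0d949248a4db64b6992db2916d34402c16516936ca25b0db6196c261220b0824010000106984914534132102c829241840a0c800a01101309a25a4516db4c861860b6db0d32db6926ca2d925b4932d345b0c369b2826d34c80d000904100a44b01228805908a40128009808029825304b0084c10c00c325a49369a6d14cb65365b0cb2916d125a4db0db4db6db6996d14da21a45b6010012c06814130d208124048340805200a6112000c040000821361a6100d268b65a6d369361b6d264b4986d361b69b4c225a45a2934894d36d34ca05801220040128240840804b04000b40049808040949224a09021200200308120b4d26912d16892d101b64829169969b4db2c369a4d94d34cb4526c16d06 = true := by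
  decide +kernel

private theorem chk17 : chkT 17 0x361b0d86c361b0d86c361b0d86c361b0d86c361b0d86c361b0d86c361b0d84422110884422110884422110884422110884422110884422110884422110084820000c840220b0000c10000000004010c000000a0180004010c004041909068301b0c06c160a0986034030d00c021a0586434130d828221b0d86c12190406816180884004080184812000002c06100004c32180d004361008024361b0d82c30130d86c100b0d06404190584c301809864341b0086c301109008001801828041004820321a0100002000086034080c000020008864001a0906c36030586820090d86c341b0886426030c86c16180984c14110c84830080582c20180000810010080004120082814010402c200309820040b00068100b0d86032020186832090c04c36090d06822080d84c161b04868361a0980006000100800000000c241b04808000a08000241000004001001040321b0c82c36120184c340a0d86c36090582c141b0104c36090180c340a0c06c200100000040a0484c02020004402100800404080000810090c00404120084822190586c140909824241a08864201b0c808160801864161b0480834010004c200a0400000000400c040800000260205008140000020101008020020309860341901008321b0d82830180186c260b0506810130d02422100486c320201000121800004320b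0502814020000000110104800010000c10080006c240b0182434120986c360a0d82c360b0802822130986832180d868321b0c060020804800021a0904012030480002100800024100404010000882c10180d06416190886436130902c361b0c86c26180184c220908064161905864240201044001200004361208000000908040020000840100000000001b0006c361209824341a0086c26110980412180900c30090d86c021204064360108004340a0100816110984800020d04020010002020180406c20100104406180586c16030d02c32130d044141a08068060b0c06034090d860300b0980c000a00800200201048020a0182422000502004020800034080c84022020806c16030c048341b0d02434030d86c320b0d028261b08068161b0906c34100400c20010184804010884410000000800000580824100002c001008020141b05840360b0986c221309828140a09024001b05868321a0582c221a0502804100000402080c84034080c000120108008100801060200208008040001848341a0482c121b08868301805864061309064321a0c848241809868320b0880002000004420110402022190500030100804000080582804110000830110582c001a0c84c220b0c844360b05860201a0c864120b0d80c26100986c06120c84000120004012100402036130484024020d80c30000580000010800c241b0902c26010902c20080406c361b0d8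48261b0d86c120b0982002110800810020c00812080c000200000008340105048360000808301005804101901068041a0506c101a0584c240b0586c060a0906c300b0586c321b0982020100482832120406422000d008100800004100904804040909808100a0c84422190d86436090c86c141a0d024101008824161b0484c361b09028341b0500402020804c020b0400c301000828021008000300809000020a01020100a0c80c361b09864361b0986832110582434110c864301a0900c161b0c064060008044120a0c840140a0900804020002820010800826110c008020a0400c141b0882c16190882c341305868360a0d86416180104c361a0102436080404400100400022000180c121200824041b0580c020008004200201028300a0884836190084414030182434130d868361b0186c161208848241b0506004000000c00100100414010c008100900820240201024000004004061a0082c02090182c221305828161a0582816130404836120586c021b0484c360b0886802100802402120486830180d82006010580806020180c220a05824001b0d06420100580436190d068361b0c84c161b0180c261b0d864141b0486822190100030010006426100900024010006814000c06c34080c000001b0004c32120806406080d84c241b0184c160a0d86814180d86c1219090043609018000010010202403098281411000000408008600411000001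6000d020021b0c02c34120504c161b0d828361a0884810130d00c26180502c361b0d00c10010804000030480c00020804000020404c02030082034000d848241004020261b08008260b0d82c36120d808241a0980426190506c301b0d048260804004020200000220a01840000000004121204040200a0100002090400432090484c34030d86436130906c32100c82436190c068361a0186416190c86c36090182024120580424000d00020100482c20000980002010404400000006c121b0406c261b0c84c161a0404022090584016130c06416080d868260805844000a0800426080d02c060305800241009040100309800061300000060b0c868141b0586c161a0d84c060b0d06820120d860361b0104c36110d84c301a0100014110802826000006406100000410100886802100880c30020c86836120986c26110d86c14010c82c22090986422110d844301309868361900040140a0882c000a0406010180004804080802010180c02032100002c20190d02836190d860361b0c064320a09068161305024301a0586c261b0584434020404800190406000000100412120104810010c00c060904820101a0006c361a0d828360a0c84416030186c361a0d86c361b0d82c120b05028360800824201005800100005820000000020100301044160001804101904808121905844200b0d864360b05028041904064260a0c82c02030486c321b0d0640400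0400000010480034080904c20180900010010484820080002000080004c361a0000832190086c30130d844341301020320b09840140a0c068161b0100414120482020030c80c12000400022110904800000c06014030100800120582c36190406c161b0586c30190c86c321a0986410190d828361a0d04410180000420100004800010000416020800004130100410000004032090506c36030586c341009820260a0986c24180c84c26120582814110c86c361b04008100200024121a0984400080002810120002822100802020080004412190d02c36100c82c34130d848301005028261b0d04c20100506834130982434030406006100c00002080000036090182432010804430010400034080806c16190c86c301a0500c30190506c16130c86432120c86c321a0406c14130800406000100016100800c00010c008000a0004c04030980c20100984406190480c120a0006c22190d84c121b0980814180d848261b0d84c26130d86c14010006410000580804120880010180080000020480006110004014000486c16180c824041b0984c241b00060341b08860160b0980c22130902c30090800c02100c828240800868040000064041208860141004000240100000101a0d80434190d84816110d808241b0d828241b0c86820090c84c06120106800100c00426000404002110000002120402006080806410000904030120104826180984c36090d8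2c32120c80c361b0c00c361b0c824321a09864360b0082800000004810130802412010180000100004816080004810080480c20030d02834000d068261b0d82c261301848261b0d02c161309864120b0184c14020d00022030580c101308868200801800221808840141a0d00c10030802c141b08844161b0d86c26190d06832130106434110c06c361b0986c261905020000804008020101008001300060200009868221001040220009020020a0504414180d024160a0104836100c04c041b0d04c20130c864061a0c84c200001800240800040200004000021008808000a0004000020106812080406404130404c160108848260a0584c30190506814110c84406030d06c16090d82014110c800101004048120005040241b00024041808000001104008201b0502c26190806434190d024341a0c848361805808321104808221b0906800030080020030882404020582020000d024360204064221308804101008008260b0c86836190582c260b0c06c101b0c86c241a0d864261900860241101864200105000000104044320a0004032010004030080c00024010906400030d860260a0d068320a08864340a0986c360b0d868141b0d06836120d840200205040060800840001900860021109800060a0800414100002000090d060260a0902c340b0d84436190d06c36130986c34130c86c261905844321b0 = true := by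
  decide +kernel

private theorem chk18 : chkT 18 0x36db6006db6c00db6d801b6db0036db6006db6c00db6d801b6db0036db6004912400922480124490024892004912400922480124490024892004912400c12900010c000208320061268000905000020900024140001824000020001a25a00161a2006506c00db4d800b61a0026d120064a6c00130d801004b00041300041904004108001a0090010490002cb00000328000121100200b6000c36000c36d80092920034db60064b2c00d96d001965300225a6004896c00500800010880000c960000820001825001a0410002c24000100800c008000a4180036d32002992c000b45800365b00344a20065a4c00cb41801a29800248a60048800000961801821200004200000140004229000a4c80000122006d36c00d30880196db0032cb4000096c00926c800a45a0016994004d344000100800a24900041000004808000260000305000029000060020008a08801a6d90036c92000c26c004b6100034c20036cb6006d32400d104001149b0024034000000400580180080cb00101140044228005021000100000341000048968008305800b0030036d960024a68008945801a4530026d86006db4c00400800030cb00001a60008800000a08000864800220100020868001900000841100069960064b6c00d96d80116db0032cb2004436000d90d001325a000442400003200091098000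2930010084002526000036080004110002004006986c00906c00122db0036d36002996800ca4c801b6d900149b6000420c00036000106030004020000100c00804000020000000800002010000584000116c90034c96002894400536980192890034006006d92000d061000b4890004430000810c00004c80082000012920000d80400404480090910026012002ca6c009861800169900304a6002534c00db25800b49b00325b2004d82c00000c000140000368320001800008301801008a0002c04000020c00480400030590026d32006d06c000b6c001a60b00201360065b4c00d36d801b21800225b60008020001a00800001000024800008b0800194880180800000406006cb6c00582500134990024c240045960005369800b6db00309b0000596c00884000104c30036900000494c001a05800300a0000000000110400102c00110c900229b6006d24c00db2d801b69b00369940000a20009a24801b2db0020102004026400c961001004a0000910000406400024980104810020c12006536c00c96d801b2d300364960009220008a2c80096db0036d32006d864000a2800010c20016400000400400924880006090004c020001904008a4000134d20012d84002c920000b4180136d10032cb6006d84c000b2580114c000105860000060000b2180106410000084002804c000065001225300200200021b2c00400c800b6430032c96000430c005a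2d801b6ca00344a60061b6c00024080036d00004490000120000024d00024010032400004080400902180124990036db4004db20008364801a49b0014d320064b6400c14480130cb00000000001124001809800a61000048000040144008829001124100000200024b08005a2580134530014c24000932000c86d801b0da00265b6002484800c004001221800244200000200008009000200000240820045320000060801a24a00345b6006884c00534880196120034c320069b2c009a65801a0d30020090000c24000984080180880004d00004c04800020180000520002084006c16c00db4d801309b00349360069b6000d84900004d300069a4006432c00004d80180c00004412002020000884c000901a0014c000004300009208001b2db0036da2006db6400c84480114d90032c340069948001869001a69900068100008068000824000108000005320004a2000594180012020034422006d02000906d000b6d800165a60028a6c00db4d800b2930016d36006894c00004400000120004014002400800c12500082530000c04000020c00184400182d80026834002996c00db6d801a6da00364a6002d86800484980034c90000410004112c00082c80102080022580004120000800400000d80030c00006092400822d801b6d900244100044b48008b6d00132d900305b4006192800022c00100d00026920004502000882100190090002d00004c9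2800802d80034d900365b4006d34800da4580112ca0036d36006da4000d965801a05b0004012004410000130d80184030026814000116800804800112510000196002886c00c869800365b0032986004d12800836d001929900324a20040b2c00094d800804a0010102004810000010000020480034420006814800022c001329b00324b40029b6c00d868000269a0004596006986400d16d801b45b00104140041320004040801100800200200024224000a2100010000014c32002cb6c00d26d001b2cb0036836006484000494480014cb0006026006d96c00510980182c20002100000096400102580006c200100360040920009000000b6d30032d860065b2000036c80122cb0004d96006086c00892d801b4900034004004020400c06480182010020100002416800020c00004010030100006c10c00c94180194db0030c36006032000cb6d001b4da0000932006cb00001865000000100221000005120001820000200000024000028148005061001b2db0002c02006db44001b6580132d90004906004d820005369801a4d20016c000048b20008a44001801a0006022004012000510800006000000002002d80800936580114c900305b4004c24400cb6c001a6d90002d92004932c005a60800861800020820021a60000049801000100101800000224001041800b4d10034c30002430c00cb4c80082db00324a60065b08009a6d800228b000413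40048960004044000b0030004512002d208004800801000b00000000049b6c00d12d001a6ca0016da6004ca64005b4d800921b0036896004116000916900010800022c06004110400022880002490002d020021108008b2800126d200261b2006d94c00d260801265900365920045a0c004a6900136d10036100006802400100d00120c80000114004424000030880002c00012114006da4400d224801329b0034190002da6800da4900136d30032d94006c32c000300000129000300060069808000940001964a00004220060268004808801b6980022526006c02c00d36180012c00036db6002494c00db6d001909b0020000000894c00102100006000002534002104800530c00002010010180004026000916d801a4530034c340065b6800d32d800b6d90020da20068b40001120000041800000b2004502000884c000105000040820068a04000908001264000369b4002136c00cb4480136db00121a0004db6c00db4d800361b0002134000400c00180400082800004504004834000c00000024030000594006536c00cb09800b2d90010d32006da2c00906d801b6520024c360000b2c00402d00000910032100000d00800000880016d100040900004004004244800845b00169a20064264009a6100136d90002da20048b28005961801b6db0020c060028800001240801001900121b00020020000a01000000200021000065a6c005348801a691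00369b2002436400d205000961200068b40005a40001020001020800261a0000c200005900800809300125b00009b04001800001a0490026cb0004c34c005965800b25b00309a60024b60005369801b0d20024484002832c000100001069200220040005060004a0000080490004c14006892c00d86d800929a0024d360044a6c008b4d001941b0012cb6002996c00822000112420004012002100000024100106420000000002c028009044001244800265a4006c82400da28000049b0022c86004130c00db6580120da0004c200005104009000000100000040040021a08000020001b09a0030ca00069848008a6580120820036ca2006da0c00cb4d800a4490036134006594c00084800024000032482004c36000da00000244800101840041104001220001b6d10034982006d96c00996c001b41b00369960029b6c00cb28800b4d30016112004014400010c00136080002510000d00000492500022880030030002d264008b69801a65b0026db6002da64009b6c801b6cb0036d30006c06400082880000000010190002810000434c00106100002012002434400100800190d900260240028b2c00582c800a6d90020c26002532c005a6d801261a00301140001840001928801108a0014100000986400d849800161300044000065b6800032c000b65b00365b4002c36000932d801b6db0002d260008a6c00 = true := by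
  decide +kernel

private theorem chk19 : chkT 19 0x361b0006c36000d86c001b0d800361b0006c36000d86c001b0d800361b00044140008828001105000220a00044140008828001105000220a00044140000020000108000040b0002832000980000020c00006100000802000502400010d800121b0004816000d064001b0480016180004c360001804001b0c80036000000400000100800030000016000006000000804000180c00000000006c34000080c000b0980006180002c12000c86800130c000301b0004830000400000010900010100000006000806000010480002020006c30000502000090d000121a0006426000100c00110c00002190000436000d86c001b05000020900020360000060000b0000014000006404000000000080800004080006c36000c06c00080d00036010002806000d80c00120180012110002c12000004c000208000140000044240001804000a04800040900000100000860000b09800061b0006c30000884800030c800360b0006c16000902c001b0c00016010002006000002400010080000010002020000000400180880004100006c22000c02c00020c80002110004802000c040000804800301b00008200001844000001000260100000200001008000805000241800048160000028001309800340a0004c22000804c000b0d800360a0004c36000982c00090d80014120004c2000040040009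0080020010002022000184000110180020000006c34000d86c001a0880036130004026000484c00030c000220b0004c36000180000010500026080000814000486800110900012000000020000d82c000308000321a0004c340001828000b0d000261a0002c000009064001b0d80006000004414000406c00120400000120002402000802000000080000020004c10000982c000b0d800361a00064340004864001b0d000001b0000804000802800020400010100000402000404000100480010080004c020009828001b05800260800020340009864000a08800340b00068120009824001b0d80000000004016000002800100180002130006014000900000110080024020006836000906c00010d80024030006426000d86c001b0500032030004836000484000110180004100006c20000002c000004000100100004300008800001909800361b0002822000d86400110d80024190002c02000186400190400006180004412000c04800080880000000000410000800800080500000030004c32000d86400190d80010110000010000586c00190d000300b0004c060004000001008000000000064360005800001b0c00002100000434000400000090580022180006804000c86c001b0c000361b0000430000c868001b01800121b00064220000004000100000201300060200004000001a04000100a0002c36000d84c000108800161b0004436000c0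68001a01000361b00060340000000000805000201200068220001044000009800021a0002020000000800010d800160b0004026000d04c001a0980016130006434000c06000000580002010006410000000000080500012100006804000900400010400030130006c06000c82c00030d800161a0006c32000d02800130d80006090006c260001004000000800100000000040008040000209800301100048200008020001a0c800000100028220008068001008000241300068260009048001905000201100060320004804001a0800024030004800000800000000000012000004032000d06400090980034110004c060009820001109000200b0006c260001848000101000000b00024140000864000108000221900008100004864001b0d80036020004c16000586c000b0c80026100006c36000982000190c800120200008100000008001908000121900020020008020001201000001a0002c14000906c000b01800321900024320004004001a0c800241a0006c340004800000800000000000024040008000000004800140900028060000068001b0480030100006810000c84800120880004090002c36000586c001b0d00012100004020000804400180080022020000c00000000000100000012010002426000d840001a0c800340b0006c16000180c00020480030110006c02000100000010000004100002832000186c00000100012000004c3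0000002000030000006030000c34000d864001b0d800021200064000009864001b0c00020000000030000086000100080006130006406000400000000100000080006014000906800090c000200b0000c36000c86c00180c000000200028160000028001009800261000000200004024001900000000a0000810000002000020d80034130004c26000104c001a05800360a00004140005868001b0480002100002020000080400020c00002010002c22000000000110d80002110006426000586c000b0580016180002c16000d86c001901800261b0002c320001000000108800240900004320009020000108000040000028160001060000a0480026110004c12000986c001305000361b0002806000586c00120c80034120000820000000000080180010100004830000c04800100c00020000006c240001848001004800161b00068360009060001a09800221b0004c36000482000000900010120000016000080800100080026100000036000804800090d80022120006c26000902c00130980030110006c34000506c00110d80030000004c000008044000005000101000004200001008000200000000800068100009828001909800141a0002c22000c844001301000260a0006c100005004000804000240000000200000000001009000040100000020005800001b0180030190004c020005040000a0900036120006c16000982c000b008002218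00000020001020000108800100800008000000000001a0080000010006432000182400130c800321b0002834000500c001900000361b0000802000102800110980022010006802000480c000201800041800004160005860000205000321b0006c26000d024000901800340b0002830000582c001b0c00002080000400000400400090080002120000030000804000100000024000002c34000486c000b0980016190006c260005060001b0900024130006c060000044000209000220b00044020004048000000800200b0000816000800000120980026130004c16000880c00080d000141b0006c16000d82c00180500026180000814000180400000000034130000822000902000100480004180006c360009868000b08800221b0006c26000586c001b0d800221900068300004048000100800161200068020001000000904800040800008000005820001b0d80022130006c36000d864001209000121b00008320009060001b0d000220200004200001820001004000201100024100005000001109000301000044140005868001b04000360b0004832000d868000b05800261b0006026000c004000309000260200028040008008000a0400004000002420000d044001b08800361a0006c14000d82c00130d000361b0000c300004860001b0d80016110000004000000000000000006000000802000d04800080400004180006c26000104c0008018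00000b0004c10000180c001a09800101b0000830000484400010000002010004806000584000120d000260200000020005008001b0c80016080004c26000980c001b08000361a0006c340001064000b05000021800004120001004001008000200100048000000060000201000000800044340001864000b0d80030120004032000902800020d800361200000340001808000800000160a0006410000482000000800036130000004000002000030980012010006c34000c86c00090480022100006c26000c00c00100c80020080000002000900000020000010020000004000080400100400012000006830000d86c001a05800160b0002816000186c001b08800341b0006420000180000180d00002080006010000000400080d00020110000010000000c000b0c000321a0002416000c860001100800321b0004422000982000030580022010002002000884c00000000022090000810000106000020400024130004416000c04c00110980014030006432000906800130d800360900048260009008001808800001200028020001804000009800001000000020000024001b0180032110000826000d00c00130080036130000c34000182400090580032110004034000500000030c000321300028040008048001a0000006010006422000886c001a01000361a0006c36000d84c00130d80034130004c16000 = true := by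
  decide +kernel

private theorem chk20 : chkT 20 0x36db6db6db6db60000001b6db6db6db6db0000000db6db6db6db6d80000004924924492492400000024924922492492000000124924912492490000000130014406500000000000520002010800c00000002182010024880000000036d26884db40300000008b4532596904980000004434c32534db4400000020902414424190000000100002494000530000000482916100c20c000000061b25a2896932000000034d20496c204b6000000192d36cb65a49b00000001901800a4004980000000424000884c80c000000200008809825000000000b60b6034c06db0000000c86d125969b6d800000065b61949b4da4c000000100044301224a60000000320000b09001300000008a05a0c02100c800000020b4c86926db6c00000016d345b6d365260000001b6db69905b01b0000000030004800804000000000086d800b4802000000030c12900030420000000136c96d92d80c10000000412db61b69045800000065b6da09a6d96000000020d220020320a2000000080c021208020100000009824a20941b0c000000069a6436d965164000000129a65a49065220000001b6cb44b6d361800000009304a2c10c80800000000c06410c245a08000000101b2182da09840000001a61b6582db61200000001b6ca2d968b65800000065b6db05b6532c0000000051091218488200000009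6080002506110000000412420d204221000000060b6922d30930400000012cb0d045b0d320000001924969b4094da0000000010d20182024800000000800180102836800000006100084810da2000000092da41b65149100000009309305b4da6d00000000ca44b6d929b44000000025301900224a4000000004900812030900000000c968044a48140800000045a65b6886d96c00000030d34d92416db40000001b6d82d969328100000008a0880416022000000006c84084182410000000012c320220868840000001369b0c96d04590000000db2c32d34c92d80000002596c84596d90800000004080812090020000000094896124c901a00000008a2104400922c800000029909b2532426000000016d96c369961360000001344b0d80926db00000009104820829040800000020321300a28b20000000329001a4d00122000000122890536d20d90000000526526c96db6d80000006524134da40b4400000000400c904908820000001240120820264900000000009100240025800000065b0d960929b0400000036da6d14cb6db60000000109a2ca4c12db0000000cb0500994880880000006080d32030c244000000004301341205000000001b6ca4936db61b0000000db2da6436d969800000048865b6d369a4400000002c020900241a60000000a04028228305100000001021000220b08800000045b4c92524db4c00000036896da65065b200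00000204328244b6d10000000c24d80c04102c00000002020886400596c000000308201004020820000001b6db25969a4d900000005065b4ca28b2d800000069a44320a4494c00000022580014020802000000010804112c100200000008001225100000000000065b69868a4504400000036130c225b2004000000190ca4cb21368b0000000014406430114100000000480884124106800000020104002514d20000000182cb2d86422d300000009b2994d26ca4d00000006122c164b69a6400000000430026590080000000132002122194120000000014104902410000000006db6d36cb6d34800000026402c36cb68a40000000868b29224b2830000000930022c02804800000004412420014d100000000049241869041340000001369965a0d92910000000db6d941329a29800000049b4d32d32d26c00000000d00924510122000000030d068220848000000004220228148020800000009a05349a60b4c000000265a4d94c349100000000b45045b2924530000000d900069044308000000000000220121804000000348841040a09140000001b6cb4d20c96500000000196594426d34180000006d30cb6c169b68000000205124265a20b40000000068229020140000000008020a2c040920000000069a6da6db4d36c00000034da45324b2d360000001305b45a09925900000000a4014924504d80000000890904ca0c84c00000000ca440018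4500000000196d129369a4db0000000d36522db61b0d800000025b4da0930cb6c00000022094186c260200000000245068100265800000001800a2c00106d800000045168b4d96d86400000004da0d06516db00000000344165b04a6db00000004045061b29025000000004144801841000000000240004048808300000000b29b0d365b2db0000000582892d309b6000000006922992d34da6000000012902816100830000000190830822914480000000800502402c221800000065b6d22cb69b6000000032136536d36cb40000001b28a44945864b0000000804c10012906400000000c824021340a40000000000060028261140000001169a6816d30db00000001b2580d36db4980000004d86d20526db6800000010116810486106000000100482510016480000000800000186110800000002122da2490db6c000000360b4db24a2d90000000196c24db6d22db0000000d00420090102c000000028308a04b28000000000020800041960a00000001a4cb49b68265800000005161141b6d30580000002d321a6cb6cb6800000016082594d84404000000194500110802900000000c20500506504580000006d124b69b6d96800000036db0d36532d320000001b41b69a2cb69b0000000802880422032880000004136402114986000000024c94c200a0080000000136d165b4c365b0000000ca6cb4da6db4d00000004db29a60360b680000000040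00a48820140000000020124a04a2800000000484100c20434900000002092036d325b2c000000164264b40b65240000000b49b05b6596920000000c260125340204000000008000068161200000000028a2826512112000000184ca6ca6d168b0000000116910d02d369800000025b6d96cb6db6c00000000110832022132000000030000182596130000000000484d301200000000005a6586c865a6400000016c164b25b6ca60000001048b0da68b60a0000000124026000004c000000048a0800c10006800000002004020820c80000000124d06da44169b0000000d961961b2504d000000044b09341069968000000305000040140020000000220348901348b00000008148361024128800000064a05a2912c92400000034d96d92426d96000000116926c20586510000000c10496400c82400000000034020c008b0000000002410034020182000000186996d86d96c90000000836d245b6596c00000002c965a6da68b6400000024c24c141045840000000b4824c048000000000005a20005028a44800000049849a6d229b4c00000016d86d969a45100000000b65b40a2d349900000000201048a2010000000004824400802022400000000084124c060020000000a44b2996d06190000000d868a0d904b6d80000000430c24da6d224000000000141a00120100000000a00a0092834190000000806082ca4880400000004c86d340b64b600000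0036db4116d86d320000001b0d10db49b2db0000000080420500984080000006814810d14406c000000009208841344200000001101b40a29308b0000000d36d125a69b0d80000006da4d10d368860000000200909200209a00000001b4c06830810410000000080000426d840000000069361a41861b4000000036d80d96db2892000000130c844a4db28b00000000944868364b2000000004510122c048228000000300905045120a2000000012d90d06cb6c800000009b2d24da4986d80000006db64b2ca25164000000100140809a0880000000002100804026820000000810d808021b0500000006cb6cb25b6d30800000020c24504884da60000001a2db2186c36da0000000824c22884010980000004400084580024c000000108001821860900000001149945148065b0000000ca6136cb6d169800000021a0cb6db4c12c000000221240000804960000000b45a0430900400000000c109104a0d16100000006ca4da4c12892c000000169b6d869a6094000000182532cb65b6c20000000016904d10114400000000532124884426000000010014886092106000000026d309b2da28a00000004a64b4934c94d80000002c16d96cb24a2c000000200001a00828800000000345048a65201000000001200100964020800000064868b44b65b4800000036db69b6da45a60000001a6402416c825b0000000 = true := by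
  decide +kernel

private theorem chk21 : chkT 21 0x361b0d86c361b00000001b0d86c361b0d80000000d86c361b0d86c000000044221105028140000000221108828140a00000001108844140a0500000000980432190404000000006422020406c300000000101009800241000000001b09864361b0c00000000c86c04180d868000000064301308048320000000301908000200a0000000190802026080900000000184034000902800000006c32100104c160000000321a0504c32120000000030986c16120d800000005820261905044000000004020209040160000000020100800160300000001b0d04c360b0c80000000984c06130d86c00000004c060b0186c06000000002090404004000000000030182404100480000000080c040108020000000064121b0984c32000000006130d82824190000000010186816180580000000902806100002000000004000180480012000000036100886024020000000130506c34020c00000000c824341b0d86c00000006c32130c868160000000040a08804061a00000000a0804030020c00000000800434000004400000004c14130d84c360000000161909060141b00000001b0c868360a0c80000000c80020000c00000000000800000480820000000004100406812190000000190186c001a0180000000986030190104c00000000c321b0d8643600000000210080080010000000008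0082420000000000000402800130900000000002c221309004200000000101b0c844040200000001905040361b04000000000024220304000000000064000a01828300000000041104068140a00000001a0d844261a0080000000d844340b0d060000000028220a0d82816000000020100582420100000000000900002000000000000080806120406c000000060360b0584034000000004120c80416180000000110186c36090d800000001004000000000000000028041b0182422000000006010080012130000000020c82c30080000000000500c36030c84c00000002c22190802426000000004180080014020000000020806c12020180000000406024000d82400000006c321b0d82826000000026120d86c041b0000000190d068101b0580000000800802090986000000000000180100400000000024180800010000000000110d02c32130d80000000484c36030c82800000004c30100186c320000000061305060121b0000000010082010130800000000186420100d00000000000c360b0d82c36000000012190c068261b0000000030d864221a0400000000c80800000002000000004000000004006000000002080100400000000000190586006130d00000000d04c321a0982c00000000434130d86806000000022030800410180000000010882824180080000000180820000806800000004c361a04864360000000361b0586c361b000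00000b0d86426100d000000009068001000800000000008001800848140000000220200064040300000001b0d84c24090400000000d82434090d82800000006c36180c80816000000000120802010020000000100100406090980000000400000000102400000004834180c068240000000260a0c86c36130000000090c068261b0c800000005800000005028000000000241a00820340000000060204008200100000000b00844321a0d80000000d86834190486800000002c361b0d844260000000041100860160a0000000090500832080c00000000180412030904400000000c321b0c06c360000000321b0186c101800000001300864161a08800000001024241001044000000004220a08868000000000320801044200800000001b0d86c26120980000000884c16130d020000000064300b0c84034000000030090002010090000000010000c141a04800000009804201008840000000064361205864360000000061b0586c341b00000001b0584834110880000000c020040a0000400000002800030000414000000004080c82404010000000180d80816120980000000d86016180082c00000002836190482c26000000020010802c20030000000100102000080880000000902c140300808000000064061005868060000000200a0c008341b00000001205828360b0d80000000182c1012000080000000600401000080200000000010058401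20800000000b0d86836000d00000000c808360b0582c000000004360b09024140000000220a0084c04000000000000002006010900000000002814080d04c00000004434130d80c20000000034180c06c121a0000000120d06c161a0d800000005048200000020000000000160801028040000000100200000141000000001b0906c120a0580000000c02c36130d80c000000060260b0082c24000000000180080020110000000090580c02010d00000000800802120500400000002836030086c260000000121b0186c161a0000000130504c360a01800000000020001000000000000064201b08824340000000060000000000000000001b0c80836110800000000d86c36110586800000002c220b04844260000000140a0c84810130000000030100c02180000000000006022110404c000000028141b0d06436000000036130180432180000000000c044260b0d800000001828200800824000000020000809064000000000060101840020100000000b0586836030d80000000c808141b0c82400000004c16030d86c26000000034010900024130000000000d80c10100180000000004020000084400000006c021a0c068260000000241b0986424030000000090886432090d80000000102810000c868000000008120a0d06020000000010000c80012090000000120582812190d00000000502c341a0d84800000006034190c0241600000000013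08020020000000000a08028160201000000004004300b09804000000020361a0500c20000000016130586c160b00000001b0586c36130980000000884824110800000000004802000806812000000004030d00c321800000001b0d84c36100d80000000d06c24190d06c00000000c261b0d86436000000002100c00c22110000000020400812080800000000806000130400000000002c361b0986c32000000006090982c16100000000130c820261a0000000000d86c201209044000000000120808040140000000120101068000200000001b0d848341a0980000000402412190882800000006c22120d04836000000002000884000000000000180582424020580000000d00800000004c000000064141109864320000000301b05868060b00000001b0980430100d80000000880c261800008000000000300809004240000000160808004041800000001b0d84c34130500000000806816130984c00000006c30190982c36000000012000480c06130000000190002820100d00000000004010010806000000002c00090186c26000000032120d86c301b0000000100d02812100c80000000402826090c84000000002406000180002000000024090006016190000000190586c36190900000000d86c300b0402c00000004816180d06c320000000100008820000900000000001820301000000000008808100a01000000000020361b0c06c1200000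00161b0d86c22110000000130582816120d80000000900434000482000000006c101100028000000000100000808001a0000000120886c241b0400000000d860320205028000000020201105000360000000121100808020200000001900048021a0400000000000000180c06400000002c32110980c34000000032090d80c341b0000000020c80c361a0c80000000100810020100400000006002020180c100000000120205004040300000001a0186024020580000000c04c361b0d86400000002c361b0d82836000000010000d020321900000000a0800024020800000000c02004110400400000002c341a0c86c32000000036120c068341a0000000190500c361b01800000000008100b0002c00000000404080102826000000026100084c02100000000130d82436100580000000c86814030d86c00000006c220b0980c220000000020b01000021900000001a0002410100500000000404026110102000000004c361b0480c360000000341805824241b00000001b0c86c32120580000000880c100b0000000000002812020084820000000010010806000180000000110d868160b0080000000d064060b0d06c00000006c32130d86432000000002090400402020000000000904030100100000000100802100000000000006412080582c34000000016130d86c240b0000000030900424190d80000000 = true := by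
  decide +kernel

private theorem chk22 : chkT 22 0x36db6006db6c000000001b6db0036db6000000000db6d801b6db00000000049124004949000000000248920024a4800000000124490012524000000000d80c000949100000000024064004220800000000360200049800000000001b69800369220000000004b2d800a6430000000006c14400d30c80000000000990000c940000000001000b0010180000000000486d000228100000000041360001b6c000000000341b6002d32c00000000096da00345160000000005000001200000000000060828000300800000000008060049120000000000b2500026824000000000c105801a65b0000000004902c009a65800000000344240004b0800000000006000006504000000000122d000004a0000000006db6c00196180000000022c16000cb4c00000000024da0036094000000000c14900010010000000002032800582800000000000c20004484c000000001829b0012906000000000d265000b25800000000069b4c00c92980000000000484000080400000000182980034990000000000904000010000000000002c96c00c34080000000036db2006d36c00000000134d00022000000000000d204001005000000000008100000024000000000021a20001024000000001a49b00320a20000000005860000805b0000000002db64004a65800000000001260064a080000000011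0400034c90000000000020180100400000000000c34c00d969000000000320b6006db2c000000001a6430026986000000000834800024020000000000106800100000000000002482000026c000000001969a0026c340000000009b6d800b4410000000006590400836d80000000022882000080000000000086ca0000d00000000000410180022d00000000006532400d16880000000014db6006db0c000000000b60b0034db40000000001101000924200000000000924004200800000000100b4004c000000000001a6da0036584000000000c965800b6190000000006136800d90d800000000004860000160000000000028900000a4000000000002d800924800000000021b2c008a2c800000000265960060b68000000001805b0032cb60000000005a6000000980000000002580c00914100000000022094006100c000000001b6ca00325b6000000000db0d801a69300000000065b2800db6580000000004882004d00800000000182120002496000000000084000020120000000002992c00da2500000000032db6004cb6c000000001b4900026c340000000001004001800b0000000004c02400500500000000010c34000d008000000001368b00328960000000009964800b69a00000000065b6c001b6100000000034104004d960000000000a00200245100000000004b0800194820000000006820c00db6d00000000016594004cb280000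0000196130036d160000000009040001320800000000020b0000010000000000000180000d844000000001b2900036592000000000d360001a6830000000000436400db4880000000004910002102800000000010430000402000000000c94800080910000000002d268005a05000000000320860060b4400000000196d000129a6000000000080580120c30000000000100800c12d800000000200840021004000000001901b00241860000000009b29801825b0000000006532c00c348800000000040040044b60000000000841300028820000000005208001148a00000000048168009b6d800000000308360045b4c000000001b4980032d16000000000c10d80020080000000000010800000180000000000c040000000000000001a29b0004430000000000d865000b40300000000045a2c00482100000000002810004082800000000186110002022000000000180400000810000000000532800d32500000000034db60044864000000001348900121b20000000000901800201000000000029820001020000000000100060008260000000001920b00365a2000000000536d00126480000000002c34c00114c800000000165100044a0000000000020990014d00000000000912100132000000000006ca2800db4d000000000369360029b04000000001b2cb0036d04000000000404d000920000000000008b4000800c000000000021b600008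2400000000086da0012c90000000000d369801029800000000024b6c008b2c80000000002816004104800000000106c000200040000000004168000261800000000005b2c00da6d80000000036d90004d12c000000001b2d90036db0000000000c008000920000000000020240001028000000000044b60028a24000000001929a0032494000000000586c001a45800000000048b6c00db6580000000004830000006000000000002180002084000000000804900002810000000002d16c004a6c00000000034d32006db2c00000000134db0026536000000000c86c00006000000000000430400010500000000000c820040100000000001b6db0030d16000000000cb6580112ca00000000021b4c008228800000000100200028800000000000161800220040000000004241001909a0000000002d94800536100000000036c34006d208000000000969a0036536000000000400000000c000000000025b4c001900800000000021000028a20000000001a64a0014586000000000db69801b6d90000000000ca4000d96580000000002010006c26800000000024930000812000000000414400032100000000000da2c00db4d80000000004d260029224000000000a2cb0026ca40000000000809001004200000000020044009128800000000249000020160000000000b0d30022db6000000000c36d80136d10000000006da4000d06d0000000001400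2000086000000000006410022c82000000000102c80004020000000006c30400514d80000000004c92004d90400000000124db0034d240000000000060800240100000000021144009a00000000000001260020244000000000b6c300068a20000000004a2d801b41a0000000004ca6c00da68800000000321b00001a00000000000a0080022c100000000001100800800000000000064b68009b6c000000000341360065860000000001a6830034802000000000082100006800000000000004000500080000000022004002826c00000000130d30026d240000000004048800b0cb0000000004d94c00524d800000000221a0002030000000000102020006094000000000890100000880000000004cb6c00da6d000000000204b4002d32c000000001924a00065160000000001a40800a0000000000000990000014080000000000114006984000000000136cb00165b40000000001b2900096db00000000020b6800d32d80000000026014000416000000000036030002484000000000010800000900000000006c36800482c80000000026da60024b0c000000001b6590002930000000000c10480090030000000004486800c100000000000208140020228000000001b6990032d360000000008b0d001824b00000000061b6c00486580000000004d800005828000000001868200308a20000000004140800a2000000000002db0c004b058000000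0036d36006196c00000000192990014c240000000008b24001b09000000000024828001001000000000160300020204000000001165900365b40000000005905800b0120000000002c168004340800000000224b0000432400000000022800012430000000000034480012000000000006db64001b6d800000000345b4006486400000000036db00124900000000000a2180194d00000000004484400c36100000000000110000c80000000000196430036db0000000000d92c801a6d300000000021a60009b4480000000030820000814000000000110180000010000000000c14880020800000000006984800586880000000022036002da6400000000182d100241260000000008000800004100000000008804000049000000000309820000204000000001a04300341b2000000000d16c80186da00000000061b2c00536980000000010012000180000000000000000004484000000000024080130910000000006936400534180000000004d12004894c00000000026910036db60000000005240800328000000000001044009a04000000000025160020828000000000b4990036524000000000022c80134d800000000064a2c00590d000000000308340000204000000000165000148140000000000801800021100000000065b6c00d36080000000036ca6002da6c00000000096430034436000000000 = true := by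
  decide +kernel

private theorem chk23 : chkT 23 0x361b0006c360000000001b0d800361b0000000000d86c001b0d800000000044140005044000000000220a00028220000000001105000141100000000005028001008000000000004100008040000000000001000008100000000000b0d800361300000000008864001808000000000040220009020000000000140000028220000000000a0800022190000000000100400100880000000002824000584c00000000016100006432000000000130480032110000000000882800000d80000000004034000580000000000004030006c360000000001b0d000301b0000000000806c000b0900000000006836000d86c00000000000190000820000000000080080004020000000000080000080800000000000836000584800000000016010002c34000000000190880036190000000000806000130480000000000030000002c00000000006000002024000000000100c00026090000000000c86000100580000000000c22000d068000000000200100028000000000000004000001300000000004804000304000000000064320005808000000000200a00040260000000001905800160b00000000008844000908000000000048140005060000000000001800048120000000001b0d800161b0000000000d068001a0d00000000000430000906c0000000000001000001200000000002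0800006030000000000400800110900000000004c32000982400000000014120004c36000000000090d80026120000000000900000020000000000004000000c00800000000012080000006000000000120d00004020000000000d008001b0d80000000006c30000502c000000000061800000100000000001304000261a0000000000500400090000000000000c34000c864000000000361b0004c340000000001b0580032030000000000004800080080000000002804000004000000000012020000c06000000000030d00010090000000000580800120900000000002424000d84c000000000001a0002000000000000110480006010000000000d044001a09800000000020360005048000000000320b0002c120000000001a0c800361b0000000000004000000400000000000410000104400000000004100000420000000000090c00026180000000000c82000120880000000000830000984000000000004120000c24000000000080180024020000000000004800010800000000006c26000986800000000010130006c340000000000b0d000021800000000009000001000000000000048000001000000000000141300004100000000001b0c000201300000000009844001a0500000000006826000586000000000012120006402000000000020880006020000000000480000100800000000002c36000d84c00000000024130002c3400000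00000905000261b0000000000800000000500000000006406000882c00000000000010000420000000000180c000300a0000000000c80c001905800000000060060000844000000000000100008000000000000004000021000000000001800001004800000000060060005800000000000121800004340000000001308800220900000000009808000104000000000060340005040000000000200100028200000000001b0100032090000000000d86c001a0c80000000006426000d06400000000010000004006000000000020000000080000000000c82000000800000000002426000800c00000000014000002832000000000190d00032100000000000480000000500000000000010000184800000000002080000c220000000001909800160a0000000000006c001b0d80000000000c12000984c000000000020100048000000000000b0880020030000000000000000080100000000006426000986c000000000361900040160000000001208000140a0000000000000800000800000000000004000080800000000030000000024000000000080500036130000000000980c001b05000000000064360008868000000000060a0006002000000000130480000000000000000c86400090980000000006c14000c86c000000000360b0006810000000000190c8001213000000000080200018000000000000202400000080000000001012000080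40000000001a0d000301a0000000000486c00180900000000002c24000d868000000000000a0006402000000000080480020180000000000004400120800000000000814000c80400000000030190006c32000000000100880024110000000000100000010c000000000040000001064000000000220000044000000000001b0d000261b0000000000d048001a0d80000000004c100008860000000000020800048200000000001b0880016020000000000904c00020980000000006434000906c00000000036130002c160000000001a09800241b0000000000884800100000000000004022000880800000000010020002c06000000000110900034120000000000886c00130980000000006816000d86c00000000034090000030000000000100c000240000000000008020000000000000000068320009860000000000261b0006836000000000110480034180000000000080000080480000000002812000c04c000000000040900000120000000000104800100b00000000005864001b09800000000008320001064000000000220800000140000000001a0c000000a00000000000000000808000000000044140009028000000000341b00040360000000001805000361000000000004008000a0400000000000410000080c000000000000900044220000000000a05800160b0000000000c8240011018000000000401200088640000000000218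00044260000000001105000000100000000008044000b0800000000004c34000c84c000000000260b0006016000000000130c800161300000000000000001000800000000048000004800000000000340000040100000000000b0d800200b0000000000d06c001b0900000000006c14000986000000000010110002024000000000110c80020080000000000006400080900000000006c36000c848000000000361b0004c32000000000190d800361b0000000000c80c001a0880000000000400000c044000000000320800060300000000001b0d800361b00000000008824001a0d80000000006412000d868000000000001b0002402000000000030400006130000000000484000000980000000000836000586400000000026080004c26000000000190880016130000000000080800130c00000000002400000404000000000010180006c04000000000010d00026190000000000580400180880000000002830000d84800000000024020006000000000000120080024010000000000084400020500000000004c04000c02400000000026110006806000000000010c800341b00000000000040000104000000000000120005008000000000040a00040000000000001909800221b0000000000c024000a0500000000006814000902c00000000010080000404000000000010000000010000000000804000180800000000006014000c8680000000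00121800008020000000001809800341800000000001044001000000000000008160005040000000000020100044000000000001b0980034010000000000902c001b0c80000000002c16000c86c00000000002000006800000000000180500012020000000000884000090580000000002c10000d868000000000361a00064240000000001908800121b0000000000100c00100800000000000400000d044000000000021000060040000000001205800341300000000004844001b0980000000000422000d00c00000000002000004812000000000000000000090000000000c048001204000000000044100009024000000000140a00004320000000001b0d80026080000000000000c00080c00000000006020000d84c000000000020800044020000000001109800161a0000000000d86c001b0980000000004c30000d84c00000000000080000410000000000000800010000000000000904000190500000000000c30000486800000000004120002816000000000130c000360b00000000001820000101800000000008300000808000000000201100000140000000000b0d800220b0000000000d06000130580000000004422000806800000000012080000812000000000000800000090000000000482c000309000000000064360009864000000000041800044120000000001905800161b0000000000 = true := by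
  decide +kernel

private theorem chk24 : chkT 24 0x36db6db6db6db6db6db6db6db6db6db6db6db6db60000000000000000000049249249249249249249124924924924924924924000000000000000000008200120224900009240a2020506d00990c02000800000000000000000000104586434c96cb2534d16d140b6da0932590da4920000000000000000000022800400cb0094802d200020000005000a0832806000000000000000000006d904b2d961969305a4826d045329b61b65b6594c00000000000000000000030106012186984834922d000104045804024a48000000000000000000001169a0c325b6d30d169b4db44125b2db21a65b6900000000000000000000010500030020432122d92804116800810d200109840000000000000000000021b2c164361b65a45b2db28a2db65829a4c26db2c000000000000000000005305204100200824004000308220000240100a4c000000000000000000000a61b4d86cb6cb0db4cb4086116d30d04c964349b0000000000000000000010010922002022010082480024836112120412c860000000000000000000064261a4c344a4ca6992db0036d86d32c34cb6d96c00000000000000000000084892c80022112034582810084032c90002486400000000000000000000014912592804526ca6cb65969b0c86592130cb4d800000000000000000000360028a2404d02c9612690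0424d109a0830182800000000000000000000006d045b64b29b4592cb4d261a4db69361265325b4000000000000000000000400004824d941b09208120809a0400510996084c000000000000000000000b05349269b2836db4d365b41368869b65b6c36990000000000000000000006004030000c16c041041200220100944108b48a6000000000000000000004d96db6930d82db08328264a4d165328829b6d34c000000000000000000000040360360a2590100030010804020100802104080000000000000000000184d96c36d145b69300b6c12db4c964b2984da0d10000000000000000000010010804136426036000820000ca4030016420036000000000000000000006906532c36da6c36d309164869b6d96936d86da6c000000000000000000004305800008844001304144a0c32d020820240209000000000000000000000a68b4d12194d868a6c869941b6da4d90d168049300000000000000000000201961260201821a2882416d10d24100000812132000000000000000000006d32c34d24032cb6592c86db2db68a0d161a2da6400000000000000000000400816110820c06926c200025040040021841045000000000000000000001b2592db69a49b4d34db6420da4da0c06d34c229b00000000000000000000000049120b60300b0100082402d00490414520520000000000000000000006c06d22536d261964b4190c965a08965868b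4da6000000000000000000000420000806500ca28044104008000800044a29b25000000000000000000000b4d825b4db29b65329b6180da6d90496896d365b00000000000000000000140109b00225805a0082c04c14c80d064861964a00000000000000000000029a65b6c844b28b6d12596d92d929b6d94d32c964000000000000000000000029225b05920004820140840200341801801000000000000000000000000b2db4cb65b65269b6ca68b09168b6d32c369304900000000000000000000209025100124100008041a4106084480400d964160000000000000000000049325a6536496182194936da0c10d90d925b2db2c00000000000000000000930d040008108245809305040801821104800245000000000000000000001261b6980582d34db01a69a6810834db2190116cb00000000000000000000228860a44028000100221901048800244049040800000000000000000000065b2d148805a69368b4cb28b69120948b2da4cb4800000000000000000000486494cb0084132104514124022800080082912000000000000000000000192cb6db69b0cb6426cb6cb6db6d36c14c32d26da00000000000000000000309064945908800141804368b4d00800086110020000000000000000000006d32db28b25b0596cb60b6db69b29b0414db28a6c00000000000000000000004532430010180420882d0091089410280212400000000000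00000000001249b6c868a6032086594da61b6536c32d92d249100000000000000000000044a4c108120345820325a0812506c80484420804000000000000000000006db4996132526db4db65b6da6ca2d90c92c965a6c00000000000000000000922c109144144900b6132116484806980480d141800000000000000000001265a69a2ca28b6836d36d36db0934d341925a29b00000000000000000000301028049809b40001a21840301849028200208840000000000000000000061a0d82db49b69964b4534926130d245b61149b0c00000000000000000000890d000a01a0910c000a20a0000000190d04080c800000000000000000001325b29b45b69a2d80836c141108921361b49929b00000000000000000000008228044b2020014190524510c24c101301304260000000000000000000065865108b6c16012d36da68a2d96d824b64b61a6c000000000000000000001141001000860241100245105060a61201b21068800000000000000000001328b4ca2516d069b6ca49b6db6d36c36db6430d100000000000000000000041868a60b0c204b01040865b04a00020808228a0000000000000000000006936d94c961848969a6cb4db69b61244909265944000000000000000000000344021268900364b4122004416000020804814d000000000000000000001069a2534d32916db68b4502986d828245329a6da000000000000000000000450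0182d329004045929000001241304900945a20000000000000000000068b6836da65b4da29b6d224b2d36cb64b6812cb6c00000000000000000000922100914d84104000012810422436482890d00800000000000000000000124c24da6db2db09261b65069865a6d94d169b4d900000000000000000000104000840008308109040009208049000140944800000000000000000000065a48b0c841965b2930c16db4d14d228368b2c960000000000000000000008828905900a21009320904a2930814106000130900000000000000000000132d365b68b65209b64b2cb6db6982d26c804a65b00000000000000000000020001061a2002194104804810402000580190800000000000000000000002da6432d34c144328a09329825924348b64b6db6800000000000000000000424520010c82410400c22000810c00184000480800000000000000000000094cb41b6994db2c92d86532d069904b0910192580000000000000000000002000482592120004cb04a0c34802000590104130000000000000000000004424cb64b2d26c84d964b4db6920c125b69a0d26c00000000000000000000c80520806124010410400000800c00430030080c800000000000000000001b01b65b6db6da65829a2514da0da49a6196cb69b0000000000000000000020084814880834000020100112416100914520810000000000000000000006596d26916106c9088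6da6db2496db2126cb6db20000000000000000000001a0c96022c809228240004000208928060800248800000000000000000000341b6c04db25a4d16c121a2534592d32cb29369300000000000000000000061820805000000a4d028a0010d10504404004414000000000000000000002d34516ca61840349a4d36536da61b2890da08a2c000000000000000000001248a0082d10930012c128044a00324a49a05200800000000000000000000b49145b25a29b6d32da2d16d96506db4934cb4db00000000000000000000000100b01a4820d860040220020004045220120000000000000000000000020b2896136d161b6d86884c924a0ca0da4496c908000000000000000000004844168a6084030104c22024024192100820114000000000000000000000192c82d96d14c26da6d96584c26cb25309361a6c90000000000000000000036992020084c20080020904820804932020030c12000000000000000000006d36cb65329869964b6d20d06d22db6d248369b6c000000000000000000001204045a2006880930000416814c80816412c140000000000000000000001360a69b6400d14936504da2d12db65a2db6db6d90000000000000000000014804030006980c109a0082522802d944a0512030000000000000000000006d06d26c36d321b65b4d34ca65a2db68b68a6486800000000000000000000 = true := by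
  decide +kernel

private theorem chk25 : chkT 25 0x361b0d86c361b0d86c361b0d86c361b0d86c361b00000000000000000000044221108844221108844140a05028140a0502814000000000000000000000002400000806000120002430000984002000c86c00000000000000000000130482830180d064340a0586c361b08864101b0d800000000000000000000000001020120000800041a0802004000102014000000000000000000000002830130c82412010d80834120c04836030d82c140000000000000000000000008300008000261000860000a0884c20130080000000000000000000000020586420130c04c34190d86c34190d868360101000000000000000000000221b05028361001824220100008021900828241100000000000000000000064360a0586c341b0c84406190984432030d86c36000000000000000000000c00010100802414080c008041109064001800004000000000000000000001b0902420180c828341b0506822120c844360209800000000000000000000040b0082422080c068040b00008240008040061a0000000000000000000002c360b0586c301a0d828160a0904c14190880c34000000000000000000000502404020082000120106006010180802090d820000000000000000000001a0586826110c060260b0c80c361b05044361b0580000000000000000000010010080806020882c3010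00008000a00000220200000000000000000000068221b0506c261b0586022190d868141104044340000000000000000000004000301809028020b01000201b01840201b0404400000000000000000000080006032120d86416020806436030884c360b0d80000000000000000000010080486000020400022000080410110502c00100000000000000000000006c361b0d020041b0186c340b05860260b0586c34000000000000000000000104004100884820080884402100406802020d00000000000000000000000130984c30110d04c141b0982c26180d00c361a09800000000000000000000020a0180020080906020030406402080800014030000000000000000000004c140b0d04c101a0d844161b0c84c121305868360000000000000000000008008240a0102400020106030010482000180482c000000000000000000001805848160a0c860240b0d06822090480834190580000000000000000000030020082402080084814080102004100d02802090000000000000000000006814190c804160b0902c140204068241a0d86416000000000000000000000402000080482c10000180030080004400090100800000000000000000000190d06c140b05860301b0d860140a0c860360b09000000000000000000000240204068140a0c000300009020041208004040000000000000000000000048040a0d02834180806404130d06c3413008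0c36000000000000000000000100c04000800012000000c10000086800120400000000000000000000000130186832190902430010186806110d06834080d800000000000000000000020104808161000040200a0d02422000086020030000000000000000000004c360b0106c26120d048341b0c86412090c06c16000000000000000000000104c020200008000a09820220801060000308808000000000000000000001b0d804160005800141b0584c360a0c82426190980000000000000000000014080c82c12090400014120180006100402c22090000000000000000000006c10190d86c160b00868260b0800c300a0d84c12000000000000000000000980000030800000020404024100800c14100d00800000000000000000000130882436180486414080c868261a0182c221b0d80000000000000000000032130086404180000004000000802000400830120000000000000000000006c26010c80832090c068161b0182c161a0d06424000000000000000000000086004000000400010102410020102c14100c06400000000000000000000010d86806030d82c220b0582c340a0d82c26190c80000000000000000000020090c00406020980000090504006020002804110000000000000000000004c161b0484c261b04020120b0c84c240a0d80c26000000000000000000000400400080006002010584410180004004130c0080000000000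00000000001b0982c300b0c004261b0c82c30080d06c36190100000000000000000000024010000822010080422020c00000000882c261300000000000000000000048260a0584432110986406190886810110d84c360000000000000000000005044020b00808061800000001300004200000000000000000000000000000b0d864360b0582c321a0106c361b0d864101a0500000000000000000000032180502814190400800110800410120180020080000000000000000000006c301b0d068360909064361205868361b01844360000000000000000000009044200809024020805844041200020340300840000000000000000000001b0884434130c84c361b0884834080586c06090c80000000000000000000002090080824020000c14080800012030504404020000000000000000000006c36030106c36110d86c12130986c160a0986c060000000000000000000000020021909844340a0000804000004004100000400000000000000000000130406c32130c86814100d84c240809848321b0d80000000000000000000006030400030030402800010504010000804412020000000000000000000004c36090906006080d00c021b0d02014130c86c160000000000000000000000820040b0104c00080004410020c80c16080086400000000000000000000190500c361209824101b0c860261b0586c32030c8000000000000000000002202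0084020090180020000584820000c80426000000000000000000000006c06030c064361b0d86c340b0986822190586c120000000000000000000000844000004048220a01004340300028061b0c044000000000000000000000b08808241b0906c16130d86836120584c36190c80000000000000000000024000000010100004000090980806100986810000000000000000000000006c36120002c24180980c16130502c30130d86c34000000000000000000000006810090086c34080802c20120080432120080400000000000000000000020d86832010d86c101a0d84434010886c24030880000000000000000000002000082c04080480030000d04030020500014090000000000000000000000c32090584c161b00860101a09864060a04828160000000000000000000000004001200024201a00020200100004140100000000000000000000000000001848340104868341a0d84c32020982c161908000000000000000000000301801040221a0402830000880c201004808320000000000000000000000060320b0d86c34190d06c12190d864301b0d86c32000000000000000000000400402020082c241208008000108824120008000000000000000000000001a0880416110584c34120906436130486c221004000000000000000000000220209024100908000040008048260a04024360800000000000000000000044241a0c82c1212010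4812130984c161b0586c34000000000000000000000800c12090080014110800000000404024110500400000000000000000000130d82c36110906c321b0c04c341909048221a0880000000000000000000004180d80010000006810100800004000402c221a00000000000000000000028321b01068260b0d064361004828320b0d844340000000000000000000000008000a01808001005848041801804001001000000000000000000000000201064361305064200b0d82c320b05820320a0d80000000000000000000030010082402120902000000080020120802c16100000000000000000000006026010584c34130d06806190806836120586c34000000000000000000000004c36020980c20000c000100b0006032000484800000000000000000000100986c041b0986030190486836110d06c06090980000000000000000000002020400810120800804120c86810100084410100000000000000000000000c06090102434190904c24190d06c321b0c868300000000000000000000008060101a0900020190c06004030986010110000c00000000000000000000190c868361200848361b0c028261b0d82c36090580000000000000000000016080004010020006006010900002100d84c10120000000000000000000002c301108020241b0d06c32130d004221b0986826000000000000000000000 = true := by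
  decide +kernel

private theorem chk26 : chkT 26 0x36db6006db6c00db6d801b6db0036db6006db6c000000000000000000000049124009224801244900125240024a4800494900000000000000000000000800980022c100200820028a68000229800324800000000000000000000001b2130006d82004d92400db4d001b4d300265b00000000000000000000000101060029204009044001a20a00020920041100000000000000000000000068a6c00da60801a6c90034c14002412400836400000000000000000000000422880184400000004004500c00836000104900000000000000000000000094d100368b0006426c00ca6d80126d900209b60000000000000000000000061b0000012c00c02080090c00010024004820400000000000000000000000c360004165801a0c900329b2002db48009a6580000000000000000000000082080104100024094002c860005001801320900000000000000000000000965b0022c32006936c00db6c001a44300365960000000000000000000000209140025b68004204001008200048900045000000000000000000000000065a2800cb6d001948a0032594006d968009a0100000000000000000000000116000106010030530000920400c36c80100d100000000000000000000001a2d80020d220069a6c001b45801b6db00361b6000000000000000000000012c2000249480042090008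41200264800000920000000000000000000000025b6800492d001a4d20036da4006cb2400816c00000000000000000000000832c001120100105020008004005b40800b64a00000000000000000000001365a0032d82002da04001905800b6cb0016d94000000000000000000000004884000002c001001800001b00040840004b2c00000000000000000000006d34c005b05801344300141b6006c108004b65800000000000000000000008021800240200120940041800009b0580002120000000000000000000000136cb0026994002c36c009369001b6cb0004cb4000000000000000000000030d10002002000c80800002810000920006c028000000000000000000000065a6800510500192190036db6000936800d86d000000000000000000000004201800000a0020484000010c00004000000ca00000000000000000000001941300105b6004d92c005321800108300361940000000000000000000000208360008064000001801169100164200000968000000000000000000000041a6c00580d800b4c30022da2006db6c00936d800000000000000000000004149001840b00000b40048a0400134000100100000000000000000000000186930030d160069b6c00db4480026c00034422000000000000000000000000030002484800830c00182900010126004000400000000000000000000000db6000d90d001265b0030532002136c00c9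4180000000000000000000000880080030c80002802002c004005041000100200000000000000000000001b0d900065b6002536c005b61800a69300221b40000000000000000000000008940041b00009960800128b0000c30004080000000000000000000000006d16c00d360001b2c10026d16002186400996000000000000000000000000004100016090000800002882000182480026c200000000000000000000001829b0032db60069a0c005b0580030cb0014d940000000000000000000000005240000a4400890800080c00030020004506000000000000000000000004ca6800596c80116180032990006d96000cb4d000000000000000000000005b08000304100008060040008004001801005200000000000000000000001b65b00369a20041b0c008049000a45300228b60000000000000000000000268000021108005b2400010c10024400004800000000000000000000000006d94c00d325000b6d800321a6004c96c009904800000000000000000000009a0080182910004012000810400036000096800000000000000000000000136d90032db60068b2400db2180106c20036db2000000000000000000000004084006030c00c14c80090180000880002090c000000000000000000000028b2c00d26d801b69900365b20001b6800d96980000000000000000000000014000002490024094004820000120c8011280000000000000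0000000000196d90014d92004d16c00d26c800361b0022d860000000000000000000000305020024a00008024001b44300225820024a00000000000000000000000065a6c005b6000110590036896004db6c00594d00000000000000000000000c10d000160800221040041204008829800008200000000000000000000001961b0036c96006da4800834480134530014d94000000000000000000000000c92000096c00912080190010002882000110000000000000000000000000992c000b6d80136430032882000594400da2d000000000000000000000008044001344000265000021a00000101000a05100000000000000000000001868a0036996006ca6800534c801125a0014cb6000000000000000000000030402000014400002400090020000ca00040000000000000000000000000061a0400c02880026480016c960069b6400c92c000000000000000000000001300800b40800068040000b28008a40000209a00000000000000000000000b61b0016934004d36800d36d001968300365360000000000000000000000204020061040008860001821100061a00045908000000000000000000000065a6c00d34d80130cb00304b2004d36800cb25000000000000000000000009a4180022430004d34006010000500c000224000000000000000000000001b6d30016596000db6c00db29000b01800164b200000000000000000000000091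00001b40005b29801120000169800004048000000000000000000000065b2c000b68001b6db0036410002db48009a49000000000000000000000004808000b0400014500000022c000909800864000000000000000000000001b01300365a40028a2800db45801b6930036cb40000000000000000000000101060044160005b0d80184980020804004c04800000000000000000000002034c00d86d001b61b00329b0006196c009a69800000000000000000000009224000a0cb0030ca00065844004a05801824000000000000000000000001a4da00361960061b6400db48801968b00325b60000000000000000000000020000029060009a0000094810006004000810800000000000000000000000592000db2d001b6130012926000c86c00da2d000000000000000000000009b08000a4000024802004492000082080124d90000000000000000000000136db0034822004d96c008924000b45100269b2000000000000000000000024012000d000000164000040000160a2000d22c00000000000000000000004d024005b0c00116c900369a6002cb4c00db6d80000000000000000000000184100000800000422000006400120080012030000000000000000000000134c20030912004db44009b6d80124490006536000000000000000000000024d960001b00004109001945100044200008120000000000000000000000049b2c009b69000825a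0036da6006db6000d22c800000000000000000000004061000368100240800020024008108800200200000000000000000000000a4ca0016db6006c92800526480196db00168240000000000000000000000120100041060008a00800a08a00168120004b2000000000000000000000002c06000c32d80194cb00341b4006d22400196580000000000000000000000036800002c300048a40005924008a0100100020000000000000000000000036d000165860029968009b25801165a0030516000000000000000000000026c34000580400414100020000004802002022800000000000000000000004db6c008b0d801b2da0024c360049b4400506d800000000000000000000009244001964100121920000000001841001820b00000000000000000000001a6db0036db2002cb6c000228801328b0030d960000000000000000000000124200045900009000000a2430026880006000800000000000000000000006cb6c00db60801a2990016db6006d90c00db65800000000000000000000001b2000012100010004000504000920180000090000000000000000000000136d100225320025a68000a0d001269b0022d920000000000000000000000240820029000000b0400034d800248a4002c20400000000000000000000006892c00d30480196590036db4006d36c00584c80000000000000000000000 = true := by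
  decide +kernel

private theorem chk27 : chkT 27 0x361b0006c36000d86c001b0d800361b0006c360000000000000000000000044140008828001105000141100028220005044000000000000000000000000024000209000101900064100000060000008800000000000000000000001105800141b0002036000c86c001a0d00022190000000000000000000000010010000016000502000010400000000002000000000000000000000000002422000902c000b0c800360b00064060005800000000000000000000000004820000808000140a0000002000484800000080000000000000000000000190d00036120002816000502c00190d00010030000000000000000000000020080004000000184400110c00004080004c040000000000000000000000044160008020000b0880022190002c120009848000000000000000000000005020000109800160000040060008020000200800000000000000000000000b05800161b0006c02000c80c001a0c80034090000000000000000000000006020002820000004000120000002090000400000000000000000000000006c34000506400190d00026020006432000580800000000000000000000000c06000110500010090002c360000000000200000000000000000000000001b0c800261b0002036000d86c001309000240000000000000000000000000000000048040000800001a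0080014100002002000000000000000000000004416000900c00090800036110006826000406c00000000000000000000000004c00080180010130000000000c020001804000000000000000000000000b0d80014130002836000d840001a0c800340b0000000000000000000000020190000430000406800010800002000000030000000000000000000000006036000d868001b0d000321a0000424000106000000000000000000000000000000020980000000000000000104400000580000000000000000000000130d000341b0002004000d860000a0c800060b00000000000000000000000300800028000004800001b0c000140800020100000000000000000000000060340005064000b0900036190002812000d06800000000000000000000000000000080100006180004c10000d004000004000000000000000000000000008800121a0004c320009824001a0c800121b0000000000000000000000004120000c240008004000008800141100068200000000000000000000000048260001868001900800361b0006c26000d06c00000000000000000000000400c000104000020000048000008820001804000000000000000000000000b01800160a0002c32000d824001b05000320a0000000000000000000000030000004432000500000120880002030000c10000000000000000000000006406000886c001a0d80024130000c36000d8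64000000000000000000000001008000b00000200a0002c120005000000200000000000000000000000001b0d800361100060360005864000a0800016190000000000000000000000022080000010000504800000000010080004404000000000000000000000006c100005868001a0d00030000002816000c84c00000000000000000000000184000120000026100000014000802800080000000000000000000000000030d80026010004c24000906c00180d800301b0000000000000000000000026100004022000104000000100020110000014000000000000000000000004c20000984400030900014130004c32000c86800000000000000000000000102400080400032020000430000d020000a0c000000000000000000000000a0480010180006c16000486c001b0d800161b0000000000000000000000012120004800000902000020480002010000404000000000000000000000002434000d80c001304800140b0002c06000584c00000000000000000000000800c000001000220a00004000008800001201000000000000000000000001901800221300044340004848001308800340200000000000000000000000060200004000008860001a0100010010000020000000000000000000000000c14000084c001b0d800341a0006816000586400000000000000000000000080000110c00016100002020000580800000c8000000000000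0000000000090d80026180002c22000506c000b0d000061b0000000000000000000000000000002426000980c000308800120a0004830000000000000000000000004c20000586c001b0d800061b0006416000d06c00000000000000000000000000800020880000000002c22000c86000130000000000000000000000000100580006190006414000d84400190c800361a0000000000000000000000000110000414000084000000000004000000000000000000000000000000006836000d82c000b0c80020190006c06000c02800000000000000000000000c00c00010500000000004c12000002800100900000000000000000000000180d800061b0000006000982c00190d800201b0000000000000000000000004020000004000504000090580024110002012000000000000000000000002c34000506c000a0c000361b0004c26000c06c000000000000000000000000040000b0400024130002800000102000010880000000000000000000000190c80036090004c26000d800001a0c000161100000000000000000000000200800000000005048001205000000a00004220000000000000000000000040320000848001b0d800360a0000016000084400000000000000000000000006000100980012010002012000806000000400000000000000000000000120d800341b0002c32000d06c00100c000021b00000000000000000000000020b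0004816000100800030880002120002836000000000000000000000006c16000d06c001a0d00036190000424000506c000000000000000000000000800000000000240100008320001808001904000000000000000000000000b0980024190004c32000106c001b0d800360b0000000000000000000000014000002800000806c00080d00002110004c20000000000000000000000006c24000506c00190d800301a0000426000984400000000000000000000000982c00020c00010000002006000804000120800000000000000000000000130d800241b0006424000d02c00130d80036120000000000000000000000016100000c10000400800020580000180000400000000000000000000000006c200005860001b09800041b00024360000844000000000000000000000000824000004800260900000020005024000301000000000000000000000001905800001b0006c16000d80c000a04800260a0000000000000000000000020090000022000500000080080024120004416000000000000000000000006432000884c000b0000034030006c26000c86c00000000000000000000000002000010080010000000010000582000100d800000000000000000000000a05000261300068220001824001b0c000201b00000000000000000000000100100008040009064000000000220000000200000000000000000000000060160005028001b0d8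0004190004c240004844000000000000000000000004004000809000300900024320000844000800000000000000000000000001b05800321b0006412000486c000109800160300000000000000000000000220a0002000000d000000a00000221a0002006000000000000000000000004436000d064001b0180014080006c34000d84c00000000000000000000000880800120000014020000022000400c00100c000000000000000000000001b0980034180006c34000d844000901800221b0000000000000000000000010180004806000400400120500026100000010000000000000000000000002c32000d06c001a00800360b0004c30000586c000000000000000000000000044000200000001000064100001824001b0400000000000000000000000100d800260a0000c32000c820001b0580036090000000000000000000000002010000c16000404000030400004000000032000000000000000000000002426000986c000909800361b0002c00000906400000000000000000000000002400000c000041000008000009808000004000000000000000000000001804800301a00028360005840001b05800101a0000000000000000000000000080004810000504800000080014120000000000000000000000000000002436000d860000b0d80024030002c34000082000000000000000000000000 = true := by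
  decide +kernel

private theorem chk28 : chkT 28 0x36db6db6db6db60000001b6db6db6db6db00000000000000000000000000049249244924924000000124924949249240000000000000000000000000000168a09a4020400000000124020c92136c00000000000000000000000000102d36db4c364a00000000a4d841b24b6d80000000000000000000000000000500da4d245b60000001849808960260800000000000000000000000000064b49b4da6db6c00000030db21b2c06d36000000000000000000000000000020886922492c00000000c240945124900000000000000000000000000001869b2db4c965b0000000db6c36da2db2c00000000000000000000000000036002012404080000000004002930112000000000000000000000000000006c30c064b4cb6400000012914d36cb2c140000000000000000000000000009328040028101000000024000804a60a48000000000000000000000000001a6526da0d36820000000d808b0db6c94d000000000000000000000000000144b2902000810000000122d00022820910000000000000000000000000002c96530db65028000000365b2826d845220000000000000000000000000008820900044340800000029148900204820000000000000000000000000001b2436d14da6910000000db69b6986994c8000000000000000000000000003012082209410000000002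01100128801000000000000000000000000000065a41b6d969a40000000260b2d82db0034000000000000000000000000000130d020a20a0400000004000502402092c00000000000000000000000000036db24164349900000009865a4ca4496580000000000000000000000000000db6824100c00000000014106412804d900000000000000000000000000045b6d049a61b0400000036da4cb65109b20000000000000000000000000004068821340240000000068200005825008000000000000000000000000000a0d12d36986990000000da4436cb25b0980000000000000000000000000022d20094924002000000094000000800000000000000000000000000000006da4d12926d36400000016c06c24984d24000000000000000000000000000004d009000100000000020829160a00820000000000000000000000000001209a09300b24200000005b4d26d34cb6d800000000000000000000000000000140140340900000000a08a0932894080000000000000000000000000004026982916896800000034914926512d320000000000000000000000000008a04801b0110100000002d20914824980400000000000000000000000000134094c360228a00000005a6db2d36db2580000000000000000000000000024016d848040120000001a0030002000000000000000000000000000000006982db4d94822c000000369368245148a600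0000000000000000000000000402104520d325800000005925001209200000000000000000000000000000b45a69a6da6cb0000000db2ca41a41364800000000000000000000000000300301308a2000000000010c220a40004a00000000000000000000000000061b6d369364a0000000016da6c96986d94000000000000000000000000000484126d90880500000000090006896424000000000000000000000000000094d36db2d169a0000000812816d96c86800000000000000000000000000006904c124a0012000000080c029120344a0000000000000000000000000006d30d82db6026c000000369865a6c26c94000000000000000000000000000584880da0000000000000c065005940a0c000000000000000000000000000b2db29b4cb0d300000001b6cb6cb6d94580000000000000000000000000010400120120136000000090820400880080000000000000000000000000002cb4cb40b6536c000000329844b6534d96000000000000000000000000000904080da0822900000000904400902090000000000000000000000000000134d349b6536da00000001b48b4d20c92080000000000000000000000000014530090520400000000010092c125a20000000000000000000000000000028a60b24a69b4400000022cb2db24b4db00000000000000000000000000008a001280008050000000203000240481040000000000000000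0000000000134596d028145b0000000c36186ca6d120800000000000000000000000000304308025124200000000000148a00200000000000000000000000000000065a65364b6ca40000000128b6d14836402000000000000000000000000000000984c028125800000000929809940020000000000000000000000000000b61b49b6506db00000001965369b29904000000000000000000000000000260109101b25100000000025008141260a0000000000000000000000000006d12532d36cb2000000014da2126db6d140000000000000000000000000000000b4182096400000004422110080424c000000000000000000000000001a4036db0d32d800000008b4c26cb69a6980000000000000000000000000006c049b6496120000000010102484404500000000000000000000000000000da4db6d96d344000000325a45b29a29b4000000000000000000000000000c248b01240001000000044b2c300148244000000000000000000000000001b4db6db6db28a0000000db6d960b6d36c800000000000000000000000000201a08840108200000000104368845120000000000000000000000000000060369b6c82524c000000328b6d36cb2db00000000000000000000000000009244a00104101000000000a00969949148000000000000000000000000001369944129a69b0000000c96132db6da6d0000000000000000000000000002203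2c820a00040000000308228940008300000000000000000000000000064265b64b60148000000261a4db69265b60000000000000000000000000001241020105208800000060340244b2004000000000000000000000000000024920c961b49b0000000da68b6db64a0c000000000000000000000000000005041200208a00000000864828809104000000000000000000000000000061a2936d049b4000000016c90d341265940000000000000000000000000001001a4890002880000006010436120432800000000000000000000000000136db49b6404510000000ca6886db44a6500000000000000000000000000000000832830416000000126420c108804800000000000000000000000000000a4da6d26882c00000026ca69b69148960000000000000000000000000005140940040164800000061100008b64100000000000000000000000000001a2812cb6932cb0000000d32c30936da24800000000000000000000000000140008004808040000001004341b0000110000000000000000000000000006d96db28b61308000000309868b68064b60000000000000000000000000000a40a0034020d000000040b04068008148000000000000000000000000001b4934c169265a0000000d365b0d86592d800000000000000000000000000125125321a2100000000080014120402130000000000000000000000000002cb2cb6db65a640000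00165869b4096d36000000000000000000000000000482d10910090c80000000002c801800a4400000000000000000000000000192db6da6592db0000000d12db24b2d16d80000000000000000000000000000180510004090000000100482d04482d100000000000000000000000000048b49b2db2db2c000000305945a4c905a20000000000000000000000000004a04048000020800000000220160104a00000000000000000000000000000b6090d320b25900000001b6592ca20964800000000000000000000000000205840001365a20000000001064049b4520000000000000000000000000004db6d84426db4c000000005a2c90db6ca40000000000000000000000000004828049a2582480000006412420800480c000000000000000000000000000925109b4db4c90000000da2da4db44b0d80000000000000000000000000022000da48960820000000121128801108b00000000000000000000000000064301b49b2d94400000026da6d96536516000000000000000000000000000802930000800000000002000510c90930400000000000000000000000000132526d221a65900000004820a65b29b6480000000000000000000000000006c80ca4516036000000014c80500400030000000000000000000000000004d905b48b2c96c00000026992db4580c86000000000000000000000000000 = true := by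
  decide +kernel

private theorem chk29 : chkT 29 0x361b0d86c361b00000001b0d86c361b0d800000000000000000000000000044221105028140000000140a05044221100000000000000000000000000000004240a0404800000000004000084824000000000000000000000000000110584c361809000000001868241b0d068000000000000000000000000000040a0d000221200000000300040060800800000000000000000000000000028341a0586424000000036000c84c121b0000000000000000000000000000182c24010c02800000004000030182420000000000000000000000000000130586c161a0d80000000802c160b0d868000000000000000000000000000300a00008340100000000200000121808800000000000000000000000000068361209068360000000041b0982c301300000000000000000000000000004008020008048000000008040b04000000000000000000000000000000000a0506c22190d000000001008160801804000000000000000000000000000001009800141300000000300008140a00000000000000000000000000000024261b0186826000000026090582c14120000000000000000000000000000800020110d04400000006800110000000000000000000000000000000000180d860361a0880000000d02c2600098280000000000000000000000000001400000400401000000001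0880820030100000000000000000000000000006810130c00c260000000221909040261b0000000000000000000000000000180c14110800c00000004800130002c000000000000000000000000000000b0186836120980000000904036110586400000000000000000000000000004020100422020000000010004800080500000000000000000000000000004c161a0586c140000000121b0d80c101a00000000000000000000000000001808340004040000000024001300808300000000000000000000000000000b0186c100a0d00000000586036030506c000000000000000000000000000001008044041b0000000030902000000000000000000000000000000000000024120986c36000000026120c800160900000000000000000000000000000008340304020000000004121005800360000000000000000000000000001909868361905800000000824300b0986c00000000000000000000000000012000080402000000000010004c00100900000000000000000000000000006432010084c14000000036190984830120000000000000000000000000000084000180004800000004402110802002000000000000000000000000000010886032010900000000d84426180d84400000000000000000000000000002130906400010000000110904404030800000000000000000000000000000c26130d864020000000361a0c86c0612000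0000000000000000000000000d844161108004000000040300000028200000000000000000000000000001b0d86c22120580000000906c300905068000000000000000000000000000060104008161a0000000110402024080400000000000000000000000000006c32080186c340000000260804068140b0000000000000000000000000000002422130582000000004002190d064200000000000000000000000000001804864260b0400000000c06c321b0d844000000000000000000000000000040005000000900000000a0404010010080000000000000000000000000004c221b05840360000000360b0d86036010000000000000000000000000000002406000884000000006400020106032000000000000000000000000000190d82c26110880000000c82814020d86c000000000000000000000000000001808820060100000001104068021a0c00000000000000000000000000004830130586c320000000360b0d82c36180000000000000000000000000000100400080100c00000002432080104016000000000000000000000000000020c80810130580000000586c160b0d82c00000000000000000000000000000010000c34020000000100002006030500000000000000000000000000006c12090586c34000000026000406c060b00000000000000000000000000000028140b090600000000400411000041000000000000000000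0000000000110d068161a0c00000000806c260b01828000000000000000000000000000000b08808240b00000000a04044020001800000000000000000000000000044161905848360000000161a0c80c161300000000000000000000000000000000000009020000000060300005004260000000000000000000000000001805844161b0480000000c06c341a0c84c00000000000000000000000000020000c80030010000000080500c24080480000000000000000000000000004c061b00064320000000160a0984c14190000000000000000000000000000800016020802800000004814000980804000000000000000000000000000180c82c161a0d00000000d828041301828000000000000000000000000000001000060141a00000001001804200201000000000000000000000000000024221b0c86c34000000026130d84834120000000000000000000000000000102800020004400000004800130d00c30000000000000000000000000000130502834080880000000d064261a0186800000000000000000000000000002000c028041a0000000100402020110000000000000000000000000000000c241a0d808360000000201805844221000000000000000000000000000004000320005008000000004160900824320000000000000000000000000001a0186c301a0100000000882c16130d86c0000000000000000000000000000203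0d00806000000000010004c00190000000000000000000000000000006c261a0104c34000000006100d86432010000000000000000000000000000986402110584000000004c220100824020000000000000000000000000001b0c80c361b0c80000000986432110480400000000000000000000000000004090c048001200000001000020040105000000000000000000000000000008361b09800360000000261104028260b0000000000000000000000000000c800120005860000000028001208848120000000000000000000000000001b09824120b0c80000000502026130d02c00000000000000000000000000010080484006120000000010006814010000000000000000000000000000006c361b0c82c260000000261a0d828220900000000000000000000000000004008040008800000000064240804044100000000000000000000000000001a0580c36110d00000000c868340b0d860000000000000000000000000000120901844260a0000000080902804190800000000000000000000000000002436030d86c16000000034120d02c361b0000000000000000000000000000100004020400400000000c36000402402000000000000000000000000000020c86c061b0d80000000186c160904864000000000000000000000000000000009008301800000001a00004200a00000000000000000000000000000060021b0986c3200000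00361200860141200000000000000000000000000005868140000000000000024240100028260000000000000000000000000001b0d82c160a0180000000d86826020d86c000000000000000000000000000240800048120a0000000020084010100100000000000000000000000000006836010d02434000000014130c02c301a0000000000000000000000000000080002100480800000006400090002002000000000000000000000000000030c024260b0580000000c80412180500c000000000000000000000000000101201020000200000000808004041100000000000000000000000000000064240a0d024240000000141808828260000000000000000000000000000005000341808068000000020100004008220000000000000000000000000000b0d068361a0d00000000d86812080d86400000000000000000000000000004090884000010000000100880022090c00000000000000000000000000002c361309808060000000241b0406c361a0000000000000000000000000000906022100d80400000000c020000800000000000000000000000000000001a0c064321b00800000009864360b0582400000000000000000000000000026010000002010000000000800416020100000000000000000000000000004c061b0c04406000000004190086c360a0000000000000000000000000000 = true := by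
  decide +kernel

private theorem chk30 : chkT 30 0x36db6006db6c000000001b6db0036db6000000000000000000000000000004912400494900000000012524004912400000000000000000000000000000102500020010000000000990400012900000000000000000000000000000034db00341320000000001b24800925b0000000000000000000000000000020c20006084000000000184010014100000000000000000000000000000006d86400d34c000000000309060029a2800000000000000000000000000000530100004c300000000068000005004800000000000000000000000000001a69b0016d96000000000d249000a4c900000000000000000000000000000105a00064160000000000200a0012c14000000000000000000000000000002db4000cb6d000000000261b60065a6c000000000000000000000000000000100800008a00000000069b48000205000000000000000000000000000000364900369b4000000000db6d00186cb00000000000000000000000000000140b4002102000000000102520030114000000000000000000000000000002d16800c24580000000036db60060a2c00000000000000000000000000000520080002920000000002990000c948000000000000000000000000000001a61b00065a40000000005361801b291000000000000000000000000000000058400488440000000013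0d20004800000000000000000000000000000006cb6800d148800000000265a4006920c000000000000000000000000000004861000a0880000000000020000180c00000000000000000000000000000094da0036930000000000494800134db00000000000000000000000000000000240029a0800000000120c200208820000000000000000000000000000069a6c00d36d80000000026d84004596c00000000000000000000000000000404880002180000000006020400080100000000000000000000000000000096db0030432000000000db6d80012830000000000000000000000000000004884002d80c00000000034990000c00000000000000000000000000000002932800db0d80000000036932000db60000000000000000000000000000008a00000b0c00000000000904000d100000000000000000000000000000001969200369b0000000000db4c801b20b00000000000000000000000000000200200068100000000000b0010000102000000000000000000000000000006114400d86d800000000169b2000026400000000000000000000000000000032080026030000000000010800c021800000000000000000000000000001a6410036c360000000005b21001b4d30000000000000000000000000000000034006002400000000104480004d160000000000000000000000000000024a6c00da0c80000000020cb0006da6c0000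00000000000000000000000001040001040a0000000006c800008129000000000000000000000000000001a29a0036c94000000000db28001b6d300000000000000000000000000000048a20001104000000000b0d10000c80000000000000000000000000000004d96400d260800000000369b60065960000000000000000000000000000000308001a0900000000000804000410000000000000000000000000000000106da00369360000000005b48001a20a00000000000000000000000000000004b40029a2000000000134990004400000000000000000000000000000000cb6c00536d00000000026d32004890800000000000000000000000000000006100184820000000000000000014180000000000000000000000000000124c30030db6000000000912580132cb0000000000000000000000000000000000000c80000000000120030032880000000000000000000000000000006d228001b4800000000024d16006512c00000000000000000000000000000824800010090000000002590000890480000000000000000000000000000114d800164120000000005b2000112db00000000000000000000000000000105000009248000000000b0180036914000000000000000000000000000002cb28005a6980000000016d36006da6c00000000000000000000000000000930400130800000000006114c0058090000000000000000000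00000000001261a0036d00000000000d22d801b2d20000000000000000000000000000022d000020220000000000200100204000000000000000000000000000000045a4800424c000000000164a60064a0c00000000000000000000000000000d00000112c200000000029a04008308000000000000000000000000000001a04200365b4000000000d34c80126900000000000000000000000000000026104000932000000000104400016c10000000000000000000000000000006c24800d36d00000000022c86006db2400000000000000000000000000000d304000228100000000044008000024000000000000000000000000000001b6180026d92000000000894180006da0000000000000000000000000000010c000001900000000000901100168a00000000000000000000000000000065b6c00532d80000000016926006d360000000000000000000000000000009260000004000000000021b0400092800000000000000000000000000000126c300029b00000000004b6d800b6d30000000000000000000000000000006500000820c00000000080900022420000000000000000000000000000006da0000d365800000000345a60045a4800000000000000000000000000000c120000040100000000024240001228000000000000000000000000000001965a0024d92000000000cb68800a4d1000000000000000000000000000002002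00020848000000000048000125360000000000000000000000000000041a6400430d80000000004902002cb6c000000000000000000000000000000a0c001000a0000000004cb64008825000000000000000000000000000000b6190022414000000000996d80132da0000000000000000000000000000002812002400400000000000800000834000000000000000000000000000002516400c80580000000012502006106c000000000000000000000000000000044801000a0000000000514400480400000000000000000000000000000106db00225940000000008a6c800940900000000000000000000000000000201040008848000000001240800065200000000000000000000000000000048a2800d90d00000000024d32004cb60000000000000000000000000000009100000024b0000000002012800000800000000000000000000000000000132c00000db6000000000c22d001b2d100000000000000000000000000000101000000808000000000801800208200000000000000000000000000000024b6c00934d800000000341b0006da4c000000000000000000000000000000020800140900000000040024000804000000000000000000000000000000a64900228b2000000000ca65800149b00000000000000000000000000000224a20025260000000001048000000000000000000000000000000000000064944005b6c8000000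0034d120029b6000000000000000000000000000000024000180920000000000ca0c005049800000000000000000000000000000068000325240000000005965801b69b00000000000000000000000000000044120020120000000000820b0022006000000000000000000000000000006ca6c00c22580000000032d16006486c000000000000000000000000000004061801048900000000001200000008000000000000000000000000000000a0d30036d320000000004a4d001029300000000000000000000000000000024820005824000000001201800244a40000000000000000000000000000045964009b04800000000261360069b6c000000000000000000000000000004a0c80032c000000000004800001021000000000000000000000000000001b6db00265b4000000000596d800a65b00000000000000000000000000000244020029108000000000021a0026c04000000000000000000000000000006c80c00d26d00000000010db4004d82800000000000000000000000000000026880080800000000004084000010880000000000000000000000000000036d300145a2000000000936c00122db0000000000000000000000000000000504000c200000000001009a0022d84000000000000000000000000000002ca4c001841000000000365b4006db6800000000000000000000000000000 = true := by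
  decide +kernel

private theorem chk31 : chkT 31 0x161b0006c360000000001b0d800361a0000000000000000000000000000000414000504400000000014110004414000000000000000000000000000000000000000800000000002c240000048000000000000000000000000000000a0400002130000000000d86c001b0900000000000000000000000000000000020002000000000000080400000000000000000000000000000000000002c260004864000000000301800028000000000000000000000000000000004040000000000000000028140000000000000000000000000000000000000b08800021200000000005068000001000000000000000000000000000000120200000040000000001a0000002080000000000000000000000000000002c36000886800000000036180004c10000000000000000000000000000000006000000000000000000c16000000800000000000000000000000000000090c80024110000000000186c00130d00000000000000000000000000000004000000c12000000000010180004020000000000000000000000000000000820000d82c00000000016130006c14000000000000000000000000000000580c000b08800000000040340004000000000000000000000000000000000b09800361b0000000000886c0019040000000000000000000000000000000412000040000000000013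0880020000000000000000000000000000000000c36000d840000000000361900048140000000000000000000000000000004048000008000000000000040004008000000000000000000000000000000b0980002120000000000402c000a0100000000000000000000000000000002100000c20000000000000900002100000000000000000000000000000000c200005860000000000041a0000c30000000000000000000000000000000102800080400000000006000000c848000000000000000000000000000000a0d80010090000000000d064001b09000000000000000000000000000000101a0004002000000000010000020020000000000000000000000000000002834000900400000000012190006c24000000000000000000000000000000082800100000000000000012000906800000000000000000000000000000030d00022020000000000582c001b0d00000000000000000000000000000002010000c04000000000100500020080000000000000000000000000000002c26000d808000000000341b0004c100000000000000000000000000000000000000000000000000008100004000000000000000000000000000000000108800161300000000005828000801000000000000000000000000000000101100060040000000000008000001a0000000000000000000000000000002032000c00c000000000361b0000c3400000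0000000000000000000000000102800110c000000000020140000840000000000000000000000000000000b0d000361b0000000000d06800130900000000000000000000000000000000030006002000000000000000022020000000000000000000000000000002416000c80400000000030100006c34000000000000000000000000000000404400000d000000000000000008000000000000000000000000000000000b08800101a0000000000800c00190d000000000000000000000000000000000200048000000000000000800060800000000000000000000000000000020260009860000000000260b0006c140000000000000000000000000000000004000105000000000020340000020000000000000000000000000000000901800221a0000000000406c001204000000000000000000000000000000020a0006826000000000000800034000000000000000000000000000000002c16000d86c00000000004110006830000000000000000000000000000000406800000000000000000c14000880000000000000000000000000000000080d000060b0000000000986800190500000000000000000000000000000004000002400000000000000000020100000000000000000000000000000002c32000c84400000000022130004434000000000000000000000000000000004c0001000000000000442000008200000000000000000000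00000000000b0980006020000000000886400090d00000000000000000000000000000012010000020000000000000000000120000000000000000000000000000002c02000984400000000024020000434000000000000000000000000000000082400020080000000004022000186800000000000000000000000000000090c80016110000000000986c000b0d00000000000000000000000000000016000006002000000000000800022080000000000000000000000000000002c30000c86c00000000026190004c100000000000000000000000000000000028000001000000000004040001020000000000000000000000000000000105800321200000000009848000b0400000000000000000000000000000000000000004000000000020100010020000000000000000000000000000002404000180800000000034120006414000000000000000000000000000000004800020c000000000024220000000000000000000000000000000000000a0900016190000000000c86400190800000000000000000000000000000002020000004000000000080100036120000000000000000000000000000002c040008068000000000341b0006c24000000000000000000000000000000080400000c8000000000001200008000000000000000000000000000000001058002019000000000008240013090000000000000000000000000000000002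00008140000000001301800360000000000000000000000000000000000140001828000000000261b0006c300000000000000000000000000000005004001008000000000048000001028000000000000000000000000000000a09800221000000000009864001a0d00000000000000000000000000000006020004000000000000190c80020120000000000000000000000000000002c26000802800000000032190004c24000000000000000000000000000000082000090d000000000024000001020000000000000000000000000000000b0d800121b0000000000580c000b0400000000000000000000000000000010000004004000000000010d000000a0000000000000000000000000000002822000c848000000000021a00024140000000000000000000000000000000040001101000000000008040000808000000000000000000000000000000a08800361b0000000000d84800190d00000000000000000000000000000004000006000000000000000880000000000000000000000000000000000002820000d828000000000361b0004c340000000000000000000000000000005804001008000000000000100009040000000000000000000000000000000b0880036190000000000d86c001b08000000000000000000000000000000040200040060000000001801000301a0000000000000000000000000000000c34000806c0000000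00301a0006434000000000000000000000000000000084000010480000000004004000904800000000000000000000000000000010d000060b0000000000802800120d00000000000000000000000000000002030004c32000000000080080004120000000000000000000000000000000c160009864000000000360b0006c340000000000000000000000000000000000000809800000000008000004808000000000000000000000000000000a05800121300000000009028001905000000000000000000000000000000001000000020000000000805000220a0000000000000000000000000000002032000582c000000000140b0006c14000000000000000000000000000000084c00090080000000004426000080800000000000000000000000000000090980032010000000000886c00130d00000000000000000000000000000000020000000000000000190100000080000000000000000000000000000000416000084000000000036030002c140000000000000000000000000000005840000801000000000044200008020000000000000000000000000000000b08000320a00000000008848001005000000000000000000000000000000041a0002404000000000080400014080000000000000000000000000000002836000480800000000010080002c14000000000000000000000000000000 = true := by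
  decide +kernel

theorem all {b c : ℕ} (hb : 16 ≤ b) (hb' : b < 32) (hc : c < 243) (h1 : stOK b c = true) (h2 : ex b c = false) :
    ∃ w, okC b c w = true := by
  interval_cases b
  exacts [chkT_spec chk16 hc h1 h2, chkT_spec chk17 hc h1 h2, chkT_spec chk18 hc h1 h2, chkT_spec chk19 hc h1 h2, chkT_spec chk20 hc h1 h2, chkT_spec chk21 hc h1 h2, chkT_spec chk22 hc h1 h2, chkT_spec chk23 hc h1 h2, chkT_spec chk24 hc h1 h2, chkT_spec chk25 hc h1 h2, chkT_spec chk26 hc h1 h2, chkT_spec chk27 hc h1 h2, chkT_spec chk28 hc h1 h2, chkT_spec chk29 hc h1 h2, chkT_spec chk30 hc h1 h2, chkT_spec chk31 hc h1 h2]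

variable {F : Type*} [Field F]

/-- the polynomial -/
noncomputable def pF (F : Type*) [Field F] : F[X] := X ^ 5 + 2 * X ^ 3 + X ^ 2 + 2 * X + 2

theorem mono_eq : mono (lF.map fun b : ℕ => (b : F)) = pF F := by
  rw [lF, pF]
  simp only [List.map_cons, List.map_nil, mono, List.cons_append, List.nil_append, toP]
  simp only [Nat.cast_ofNat, Nat.cast_one, Nat.cast_zero, map_ofNat, map_one, map_zero]
  ring

theorem pF_dvd [CharP F 3] : pF F ∣ X ^ 11 - 1 := by
  have h3 : (3 : F[X]) = 0 := by
    have : ((3 : ℕ) : F[X]) = 0 := CharP.cast_eq_zero F[X] 3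
    exact_mod_cast this
  refine ⟨(X - 1) * (X ^ 5 + X ^ 4 + 2 * X ^ 3 + X ^ 2 + 2), ?_⟩
  rw [pF]
  linear_combination (-((-1) * X ^ 0 + (-2) * X ^ 3 + (1) * X ^ 4 + (-1) * X ^ 5 + (1) * X ^ 6 + (1) * X ^ 7 + (1) * X ^ 9)) * h3

theorem pF_monic : (pF F).Monic := by
  rw [← mono_eq]; exact mono_monic _

theorem pF_deg : (pF F).natDegree = 5 := by
  rw [← mono_eq, mono_natDegree]; rfl

theorem pF_eval [CharP F 3] : (pF F).eval 1 ≠ 0 := by
  have h3 : (3 : F) = 0 := by
    have : ((3 : ℕ) : F) = 0 := CharP.cast_eq_zero F 3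
    exact_mod_cast this
  have h1 : (pF F).eval 1 = -1 := by
    rw [pF]
    simp only [eval_add, eval_mul, eval_pow, eval_X, eval_ofNat, one_pow]
    linear_combination 3 * h3
  rw [h1]
  exact neg_ne_zero.2 one_ne_zero

theorem pF_irr [Finite F] (hF : Nat.card F = 3) [CharP F 3] : Irreducible (pF F) := by
  have : Fintype F := Fintype.ofFinite F
  have hF' : Fintype.card F = 3 := by rw [← Nat.card_eq_fintype_card, hF]
  refine irr_of_pow pF_monic pF_deg (by norm_num) (N := 11) (e := 1) (by norm_num) pF_dvd ?_ ?_
  · rw [pow_one, ← C_1]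
    apply IsCoprime.symm
    rw [(irreducible_X_sub_C (1 : F)).coprime_iff_not_dvd, dvd_iff_isRoot]
    exact pF_eval
  · intro m h1 h2
    rw [hF']
    have : m = 1 ∨ m = 2 := by omega
    rcases this with rfl | rfl <;> norm_num

/-- **`SL_5(3)`.** -/
theorem p5_3 [Finite F] (hF : Nat.card F = 3) (A : Matrix (Fin 5) (Fin 5) F) (hA : A.det = 1)
    (hs : ∀ c : F, A ≠ c • (1 : Matrix (Fin 5) (Fin 5) F)) :
    ∃ X Y : Matrix (Fin 5) (Fin 5) F, A = X * Y ∧ X.charpoly = pF F ∧ Y.charpoly = pF F := by
  have : Fact (Nat.Prime 3) := ⟨Nat.prime_three⟩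
  obtain ⟨hch, hall⟩ := H374.Ore.Sl3.exists_cast (K := F) hF
  have h3 : (3 : F) = 0 := by
    have : ((3 : ℕ) : F) = 0 := CharP.cast_eq_zero F 3
    exact_mod_cast this
  have h2 : (-1 : F) ≠ 1 := by
    intro h
    have h4 : (1 : F) = 0 := by linear_combination h3 + h
    exact one_ne_zero h4
  obtain ⟨b, c, P, hb, hP, hAP⟩ := exists_blk (by norm_num : 0 < 5) A
  have hu : IsUnit P.det := hP.isUnit
  have hA' : A = P * blk b c * P⁻¹ := by
    rw [← hAP, Matrix.mul_assoc, Matrix.mul_nonsing_inv _ hu, Matrix.mul_one]
  have hdet : (blk b c).det = 1 := by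
    have h1 := congrArg Matrix.det hAP
    rw [Matrix.det_mul, Matrix.det_mul, hA, one_mul] at h1
    exact mul_left_cancel₀ hP (by rw [mul_one]; exact h1.symm)
  have hdig : ∀ i : Fin 5, ∃ n < 3, ((n : ℕ) : F) = c i := fun i => hall (c i)
  choose dgt hdl hdc using hdig
  obtain ⟨bN, hbN⟩ : ∃ bN, bN = Nat.ofBits b := ⟨_, rfl⟩
  obtain ⟨cN, hcN⟩ : ∃ cN, cN = dgt 0 + 3 * dgt 1 + 9 * dgt 2 + 27 * dgt 3 + 81 * dgt 4 := ⟨_, rfl⟩
  have hl0 := hdl 0
  have hl1 := hdl 1
  have hl2 := hdl 2
  have hl3 := hdl 3
  have hl4 := hdl 4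
  have hb' : ∀ i : Fin 5, b i = bN.testBit i := fun i => by
    rw [hbN, Nat.testBit_ofBits_lt _ _ i.2]
  have hdg : ∀ i : Fin 5, dg 3 cN i = dgt i := by
    have k0 : cN / 3 ^ 0 % 3 = dgt 0 := by rw [hcN]; norm_num; omega
    have k1 : cN / 3 ^ 1 % 3 = dgt 1 := by rw [hcN]; norm_num; omega
    have k2 : cN / 3 ^ 2 % 3 = dgt 2 := by rw [hcN]; norm_num; omega
    have k3 : cN / 3 ^ 3 % 3 = dgt 3 := by rw [hcN]; norm_num; omega
    have k4 : cN / 3 ^ 4 % 3 = dgt 4 := by rw [hcN]; norm_num; omega
    intro i
    fin_cases i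
    exacts [k0, k1, k2, k3, k4]
  have hc' : ∀ i : Fin 5, c i = ((dg 3 cN i : ℕ) : F) := fun i => by rw [hdg, hdc]
  have hbl : bN < 32 := by rw [hbN]; exact Nat.ofBits_lt_two_pow _
  have hcl : cN < 243 := by rw [hcN]; omega
  have hbt : bN.testBit 4 = true := by
    rw [← hb]; exact (hb' ⟨4, by norm_num⟩).symm
  have hbg : 16 ≤ bN := Nat.ge_two_pow_of_testBit hbt
  have hblk : blk b c = mat F 5 (rowsB 3 5 bN cN) := by
    rw [mat_rowsB]
    congr 1
    · funext i; exact hb' i
    · funext i; exact hc' i
  have hst : stOK bN cN = true := by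
    rw [stOK, List.all_eq_true]
    intro i hi
    rw [List.mem_range] at hi
    rw [decide_eq_true_iff]
    intro hs' h0
    have hci : c ⟨i, hi⟩ = 0 := by
      rw [hc' ⟨i, hi⟩]
      simp only
      rw [h0, Nat.cast_zero]
    have h5 : (blk b c).det = 0 := by
      refine Matrix.det_eq_zero_of_row_eq_zero ⟨i, hi⟩ fun j => ?_
      rw [blk, Matrix.of_apply]
      by_cases hj : b j = true
      · rw [if_pos hj, hci, ite_self]
      · rw [if_neg hj, if_neg]
        intro h4
        simp only at h4
        rcases hs' with hs' | hs'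
        · omega
        · have h6 : i - 1 = j := by omega
          rw [h6, ← hb' j] at hs'
          exact hj hs'
    rw [h5] at hdet
    exact zero_ne_one hdet
  have hex : ex bN cN = false := by
    by_contra hcon
    rw [Bool.not_eq_false, ex, Bool.and_eq_true, Bool.or_eq_true, beq_iff_eq, beq_iff_eq, beq_iff_eq] at hcon
    obtain ⟨h31, h121⟩ := hcon
    have hones : ∀ i : Fin 5, b i = true := fun i => by
      rw [hb' i, h31]
      fin_cases i <;> rfl
    have heq : ∀ i : Fin 5, c i = c 0 := by
      intro i
      rw [hc' i, hc' 0]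
      rcases h121 with h | h <;> rw [h] <;> fin_cases i <;> rfl
    have h1 : blk b c = c 0 • (1 : Matrix (Fin 5) (Fin 5) F) := by
      ext i j
      rw [blk, Matrix.of_apply, if_pos (hones j), heq i, Matrix.smul_apply, smul_eq_mul]
      by_cases hij : i = j
      · subst hij
        rw [if_pos, Matrix.one_apply_eq, mul_one]
        exact ⟨le_rfl, fun k h2 h3 => absurd h3 (not_lt.2 h2)⟩
      · rw [if_neg, Matrix.one_apply_ne hij, mul_zero]
        rintro ⟨h2, h3⟩
        have h4 := h3 i le_rfl (lt_of_le_of_ne h2 hij)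
        rw [hones i] at h4
        exact Bool.noConfusion h4
    apply hs (c 0)
    rw [hA', h1, Matrix.mul_smul, Matrix.smul_mul, Matrix.mul_one, Matrix.mul_nonsing_inv _ hu]
  obtain ⟨w, hw⟩ := all hbg hbl hcl hst hex
  rw [okC, Bool.and_eq_true, Bool.and_eq_true, Bool.or_eq_true, beq_iff_eq, beq_iff_eq] at hw
  obtain ⟨hw1, hw2, hw3⟩ := hw
  obtain ⟨x, hx⟩ : ∃ x, x = unM 3 5 (w % 1099511627776) := ⟨_, rfl⟩
  obtain ⟨y, hy⟩ : ∃ y, y = unM 3 5 (w / 1099511627776) := ⟨_, rfl⟩
  rw [← hx, ← hy] at hw1
  rw [← hx] at hw2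
  rw [← hy] at hw3
  have hxw : WF 5 x := by rw [hx]; exact wf_unM _ _
  have hyw : WF 5 y := by rw [hy]; exact wf_unM _ _
  have hirr : Irreducible (mono (lF.map fun b : ℕ => (b : F))) := by rw [mono_eq]; exact pF_irr hF
  have hlp : ∀ b ∈ lF, b ≤ 3 := by decide
  have cx : (mat F 5 x).charpoly = pF F := by
    rw [← mono_eq]; exact charpoly_of_kr (by norm_num) hxw rfl hlp hirr hw2
  have cy : (mat F 5 y).charpoly = pF F := by
    rw [← mono_eq]; exact charpoly_of_kr (by norm_num) hyw rfl hlp hirr hw3
  have hd : ∀ M : Matrix (Fin 5) (Fin 5) F, M.charpoly = pF F → M.det = 1 := by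
    intro M hM
    rw [det_eq_sign_charpoly_coeff, hM, Fintype.card_fin, pF]
    simp only [coeff_add, coeff_X_pow, coeff_ofNat_mul, coeff_X, coeff_ofNat_zero]
    norm_num
    linear_combination (-1 : F) * h3
  have hprod : mat F 5 (mulR 3 5 x y) = mat F 5 x * mat F 5 y := mat_mulR hxw hyw
  have key : blk b c = mat F 5 x * mat F 5 y := by
    rcases hw1 with hw1 | hw1
    · rw [hblk, ← hprod, hw1]
    · exfalso
      have h5 : mat F 5 (ng (rowsB 3 5 bN cN)) = - mat F 5 (rowsB 3 5 bN cN) := by
        ext i j
        rw [mat, Matrix.of_apply, Matrix.neg_apply, mat, Matrix.of_apply, g, g, ng]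
        have hi : (i : ℕ) < (rowsB 3 5 bN cN).length := by
          rw [rowsB, List.length_map, List.length_range]; exact i.2
        rw [getD_map _ _ _ [] _ hi]
        have hj : (j : ℕ) < ((rowsB 3 5 bN cN).getD (i : ℕ) []).length := by
          rw [List.getD_eq_getElem _ _ hi]
          simp only [rowsB, List.getElem_map, List.length_map, List.length_range]
          exact j.2
        rw [getD_map _ _ _ 0 _ hj, ← CharP.cast_eq_mod F 3, Nat.cast_mul]
        push_cast
        linear_combination (((((rowsB 3 5 bN cN).getD (i : ℕ) []).getD (j : ℕ) 0 : ℕ) : F)) * h3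
      rw [hw1, h5, ← hblk] at hprod
      have h6 := congrArg Matrix.det hprod
      rw [Matrix.det_neg, hdet, Matrix.det_mul, hd _ cx, hd _ cy, Fintype.card_fin] at h6
      norm_num at h6
      exact h2 h6
  have hconj : ∀ Z : Matrix (Fin 5) (Fin 5) F, (P * Z * P⁻¹).charpoly = Z.charpoly := fun Z =>
    Matrix.charpoly_units_conj (M := Matrix.nonsingInvUnit P hu) Z
  refine ⟨P * mat F 5 x * P⁻¹, P * mat F 5 y * P⁻¹, ?_, by rw [hconj, cx], by rw [hconj, cy]⟩
  rw [hA', key]
  calc P * (mat F 5 x * mat F 5 y) * P⁻¹ = P * mat F 5 x * (1 * mat F 5 y) * P⁻¹ := by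
        rw [Matrix.one_mul]; simp only [Matrix.mul_assoc]
    _ = P * mat F 5 x * P⁻¹ * (P * mat F 5 y * P⁻¹) := by
      rw [← Matrix.nonsing_inv_mul _ hu]; simp only [Matrix.mul_assoc]

end Cfsg.Agent.H126.PwO.Five
end

private theorem dce_d40782c1d869 : _root_.True := by
  try have : _root_.True := by simp only [_root_.Cfsg.Agent.H126.PwO.Five.chkC.eq_def]
  try have : _root_.True := by simp only [_root_.Cfsg.Agent.H126.PwO.Cert.unR.eq_1]
  try have : _root_.True := by simp only [_root_.Cfsg.Agent.H126.PwO.Five.ng.eq_1]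
  try have : _root_.True := by simp only [_root_.Cfsg.Agent.H126.PwO.Cert.vm.eq_2]
  try have : _root_.True := by simp only [_root_.Cfsg.Agent.H126.PwO.Five.chkC.eq_3]
  try have : _root_.True := by simp only [_root_.Cfsg.Agent.H126.PwO.Cert.rowsB.eq_1]
  try have : _root_.True := by simp only [_root_.Cfsg.Agent.H126.PwO.Cert.mat.eq_1]
  try have : _root_.True := by simp only [_root_.Cfsg.Agent.H126.PwO.Cert.ent.eq_1]
  try have : _root_.True := by simp only [_root_.Cfsg.Agent.H126.PwO.Cert.kr.eq_def]
  try have : _root_.True := by simp only [_root_.Cfsg.Agent.H126.PwO.Cert.mulR.eq_1]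
  try have : _root_.True := by simp only [_root_.Cfsg.Agent.H126.PwO.Cert.z0.eq_1]
  try have : _root_.True := by simp only [_root_.Cfsg.Agent.H126.PwO.Cert.vm.eq_def]
  try have : _root_.True := by simp only [_root_.Cfsg.Agent.H126.PwO.Cert.unM.eq_1]
  try have : _root_.True := by simp only [_root_.Cfsg.Agent.H126.PwO.Cert.e1.eq_1]
  try have : _root_.True := by simp only [_root_.Cfsg.Agent.H126.PwO.Five.chkC.eq_2]
  try have : _root_.True := by simp only [_root_.Cfsg.Agent.H126.PwO.Five.ex.eq_1]
  try have : _root_.True := by simp only [_root_.Cfsg.Agent.H126.PwO.Five.chkC.eq_1]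
  try have : _root_.True := by simp only [_root_.Cfsg.Agent.H126.PwO.Cert.g.eq_1]
  try have : _root_.True := by simp only [_root_.Cfsg.Agent.H126.PwO.Five.okC.eq_1]
  try have : _root_.True := by simp only [_root_.Cfsg.Agent.H126.PwO.Cert.vm._sparseCasesOn_1.else_eq]
  try have : _root_.True := by simp only [_root_.Cfsg.Agent.H126.PwO.Five.lF.eq_1]
  try have : _root_.True := by simp only [_root_.Cfsg.Agent.H126.PwO.Cert.vm.eq_1]
  try have : _root_.True := by simp only [_root_.Cfsg.Agent.H126.PwO.Cert.kr.eq_1]
  try have : _root_.True := by simp only [_root_.Cfsg.Agent.H126.PwO.Five.stOK.eq_1]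
  try have : _root_.True := by simp only [_root_.Cfsg.Agent.H126.PwO.Cert.zw.eq_1]
  try have : _root_.True := by simp only [_root_.Cfsg.Agent.H126.PwO.Cert.kr.eq_2]
  try have : _root_.True := by simp only [_root_.Cfsg.Agent.H126.PwO.Cert.row.eq_1]
  try have : _root_.True := by simp only [_root_.Cfsg.Agent.H126.PwO.Five.pF.eq_1]
  exact _root_.True.intro
end

-- part: H122/Pw/Corner
section
set_option linter.all false
open scoped Cfsg.Agent.FastGrp

/-!
# Corners of matrices in `SL_8(3)` (helper122, S2465, `E_8(3)`)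

* `Gd E` : `E ≠ -1` and `E` is not a transvection;
* `exists_corner` : if the inverse of `M ∈ SL(4 ⊕ 4)` has a second corner `E ≠ -1` of determinant one, then a conjugate of `M` is
  `L diag(c, d) U` with `L`, `U` block unipotent and `Gd d`.
-/

set_option autoImplicit false

namespace Cfsg.Agent.H122.Pw.Cor

open Matrix

variable {K : Type*} [Field K]

/-- neither `-1` nor a transvection -/
def Gd (E : Matrix (Fin 4) (Fin 4) K) : Prop := E ≠ -1 ∧ ∀ u v : Fin 4 → K, E = 1 + vecMulVec u v → E = 1

theorem Gd.tr {E : Matrix (Fin 4) (Fin 4) K} (h : Gd E) : Gd Eᵀ := by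
  refine ⟨fun h1 => h.1 ?_, fun u v h1 => ?_⟩
  · rw [← Matrix.transpose_transpose E, h1, Matrix.transpose_neg, Matrix.transpose_one]
  · have h2 : E = 1 + vecMulVec v u := by
      rw [← Matrix.transpose_transpose E, h1, Matrix.transpose_add, Matrix.transpose_one, Matrix.transpose_vecMulVec]
    rw [h.2 v u h2, Matrix.transpose_one]

theorem gd_one (h2 : (2 : K) ≠ 0) : Gd (1 : Matrix (Fin 4) (Fin 4) K) := by
  refine ⟨fun h => ?_, fun _ _ _ => rfl⟩
  have h1 := congrFun (congrFun h 0) 0
  rw [Matrix.neg_apply, Matrix.one_apply_eq] at h1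
  exact h2 (by linear_combination h1)

/-- not parallel -/
def NP (x z : Fin 4 → K) : Prop := ∃ i j, x i * z j - x j * z i ≠ 0

theorem exists_dual {y b : Fin 4 → K} (h : NP y b) : ∃ w w' : Fin 4 → K, y ⬝ᵥ w = 1 ∧ b ⬝ᵥ w = 0 ∧ y ⬝ᵥ w' = 0 ∧ b ⬝ᵥ w' = 1 := by
  obtain ⟨i, j, h⟩ := h
  refine ⟨(y i * b j - y j * b i)⁻¹ • (b j • Pi.single i 1 - b i • Pi.single j 1),
    (y i * b j - y j * b i)⁻¹ • (y i • Pi.single j 1 - y j • Pi.single i 1), ?_, ?_, ?_, ?_⟩ <;>
  · simp only [dotProduct_smul, dotProduct_sub, dotProduct_single, mul_one, smul_eq_mul]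
    field_simp
    try ring

theorem gd_rank {x y z b : Fin 4 → K} (h2 : (2 : K) ≠ 0) (hx : NP x z) (hy : NP y b) :
    Gd (1 + vecMulVec x y + vecMulVec z b) := by
  constructor
  · intro h
    have h1 : ∀ k l, x k * y l + z k * b l = if k = l then -2 else 0 := by
      intro k l
      have h3 := congrFun (congrFun h k) l
      rw [Matrix.add_apply, Matrix.add_apply, vecMulVec_apply, vecMulVec_apply, Matrix.neg_apply, Matrix.one_apply] at h3
      by_cases hkl : k = l
      · rw [if_pos hkl] at h3 ⊢
        linear_combination h3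
      · rw [if_neg hkl] at h3 ⊢
        linear_combination h3
    have key : (x 0 * y 0 + z 0 * b 0) * ((x 1 * y 1 + z 1 * b 1) * (x 2 * y 2 + z 2 * b 2) -
        (x 1 * y 2 + z 1 * b 2) * (x 2 * y 1 + z 2 * b 1)) -
        (x 0 * y 1 + z 0 * b 1) * ((x 1 * y 0 + z 1 * b 0) * (x 2 * y 2 + z 2 * b 2) -
        (x 1 * y 2 + z 1 * b 2) * (x 2 * y 0 + z 2 * b 0)) +
        (x 0 * y 2 + z 0 * b 2) * ((x 1 * y 0 + z 1 * b 0) * (x 2 * y 1 + z 2 * b 1) -
        (x 1 * y 1 + z 1 * b 1) * (x 2 * y 0 + z 2 * b 0)) = 0 := by ring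
    simp only [h1] at key
    simp at key
    exact h2 key
  · intro u v h
    exfalso
    obtain ⟨w, w', h3, h4, h5, h6⟩ := exists_dual hy
    have h7 : vecMulVec x y + vecMulVec z b = vecMulVec u v := by
      rw [add_assoc] at h
      exact add_left_cancel h
    have e1 := congrArg (fun R => R *ᵥ w) h7
    have e2 := congrArg (fun R => R *ᵥ w') h7
    simp only [Matrix.add_mulVec, vecMulVec_mulVec, h3, h4, h5, h6] at e1 e2
    obtain ⟨i, j, hx⟩ := hx
    apply hx
    have a1 := congrFun e1 i
    have a2 := congrFun e1 j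
    have a3 := congrFun e2 i
    have a4 := congrFun e2 j
    simp at a1 a2 a3 a4
    rw [a1, a2, a3, a4]
    ring

theorem det_two (x y z b : Fin 4 → K) : (1 + vecMulVec x y + vecMulVec z b).det =
    (1 + y ⬝ᵥ x) * (1 + b ⬝ᵥ z) - (y ⬝ᵥ z) * (b ⬝ᵥ x) := by
  have h1 : vecMulVec x y + vecMulVec z b = (Matrix.of ![x, z])ᵀ * Matrix.of ![y, b] := by
    ext i j
    rw [Matrix.add_apply, vecMulVec_apply, vecMulVec_apply, Matrix.mul_apply, Fin.sum_univ_two]
    rfl
  rw [add_assoc, h1, Matrix.det_one_add_mul_comm, Matrix.det_fin_two]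
  have h2 : ∀ i j, (Matrix.of ![y, b] * (Matrix.of ![x, z])ᵀ) i j = ![y, b] i ⬝ᵥ ![x, z] j := fun i j => by
    rw [Matrix.mul_apply]
    rfl
  simp only [Matrix.add_apply, h2]
  simp

theorem dot_of_det {x y : Fin 4 → K} (h : (1 + vecMulVec x y).det = 1) : y ⬝ᵥ x = 0 := by
  have h1 := det_two x y 0 0
  rw [Matrix.vecMulVec_zero, add_zero, h] at h1
  simp at h1
  exact h1

theorem exists_jk : ∀ i : Fin 4, ∃ j k : Fin 4, j ≠ i ∧ k ≠ i ∧ j ≠ k := by decide

theorem exists_perp (c : Fin 4 → K) {x : Fin 4 → K} (hx : x ≠ 0) : ∃ z, c ⬝ᵥ z = 0 ∧ NP x z := by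
  obtain ⟨i, hi⟩ := Function.ne_iff.1 hx
  rw [Pi.zero_apply] at hi
  obtain ⟨j, k, hji, hki, hjk⟩ := exists_jk i
  by_cases hc : c j = 0
  · refine ⟨Pi.single j 1, by rw [dotProduct_single, hc, zero_mul], i, j, ?_⟩
    rw [Pi.single_eq_same, Pi.single_eq_of_ne hji.symm, mul_one, mul_zero, sub_zero]
    exact hi
  · refine ⟨c k • Pi.single j 1 - c j • Pi.single k 1, ?_, i, k, ?_⟩
    · simp only [dotProduct_smul, dotProduct_sub, dotProduct_single, mul_one, smul_eq_mul]
      ring
    · simp only [Pi.sub_apply, Pi.smul_apply, Pi.single_eq_same, Pi.single_eq_of_ne hji.symm, Pi.single_eq_of_ne hki.symm,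
        Pi.single_eq_of_ne hjk.symm, smul_eq_mul]
      have : x i * (c k * 0 - c j * 1) - x k * (c k * 0 - c j * 0) = -(x i * c j) := by ring
      rw [this]
      exact neg_ne_zero.2 (mul_ne_zero hi hc)

theorem parallel {y b : Fin 4 → K} (hy : y ≠ 0) (h : ¬ NP y b) : ∃ c : K, b = c • y := by
  obtain ⟨i, hi⟩ := Function.ne_iff.1 hy
  rw [Pi.zero_apply] at hi
  refine ⟨b i / y i, ?_⟩
  ext j
  rw [NP] at h
  push Not at h
  have h1 := h i j
  rw [Pi.smul_apply, smul_eq_mul]
  field_simp
  linear_combination h1

/-- **A transvection is moved off the transvections by a row.** -/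
theorem exists_row (h2 : (2 : K) ≠ 0) {x y : Fin 4 → K} (hx : x ≠ 0) (hy : y ≠ 0) (hd : y ⬝ᵥ x = 0) {b : Fin 4 → K}
    (hb : b ≠ 0) : ∃ z, (1 + vecMulVec x y + vecMulVec z b).det = 1 ∧ Gd (1 + vecMulVec x y + vecMulVec z b) := by
  by_cases hnp : NP y b
  · obtain ⟨z, hz, hxz⟩ := exists_perp (b - (b ⬝ᵥ x) • y) hx
    refine ⟨z, ?_, gd_rank h2 hxz hnp⟩
    rw [det_two, hd]
    rw [sub_dotProduct, smul_dotProduct, smul_eq_mul] at hz
    linear_combination hz
  · obtain ⟨c, rfl⟩ := parallel hy hnp
    have hc : c ≠ 0 := by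
      rintro rfl
      exact hb (zero_smul _ _)
    have h1 : (1 : Matrix (Fin 4) (Fin 4) K) + vecMulVec x y + vecMulVec (-c⁻¹ • x) (c • y) = 1 := by
      ext i j
      simp only [Matrix.add_apply, vecMulVec_apply, Pi.smul_apply, smul_eq_mul]
      field_simp
      ring
    exact ⟨-c⁻¹ • x, by rw [h1, Matrix.det_one], by rw [h1]; exact gd_one h2⟩

theorem exists_col (h2 : (2 : K) ≠ 0) {x y : Fin 4 → K} (hx : x ≠ 0) (hy : y ≠ 0) (hd : y ⬝ᵥ x = 0) {b : Fin 4 → K}
    (hb : b ≠ 0) : ∃ z, (1 + vecMulVec x y + vecMulVec b z).det = 1 ∧ Gd (1 + vecMulVec x y + vecMulVec b z) := by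
  obtain ⟨z, h3, h4⟩ := exists_row h2 hy hx (by rw [dotProduct_comm]; exact hd) hb
  have h5 : (1 + vecMulVec y x + vecMulVec z b)ᵀ = 1 + vecMulVec x y + vecMulVec b z := by
    rw [Matrix.transpose_add, Matrix.transpose_add, Matrix.transpose_one, Matrix.transpose_vecMulVec,
      Matrix.transpose_vecMulVec]
  exact ⟨z, by rw [← h5, Matrix.det_transpose]; exact h3, by rw [← h5]; exact h4.tr⟩

/-! ### Block matrices -/

/-- lower block unipotent -/
def low (Z : Matrix (Fin 4) (Fin 4) K) : SpecialLinearGroup (Fin 4 ⊕ Fin 4) K :=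
  ⟨fromBlocks 1 0 Z 1, by rw [Matrix.det_fromBlocks_zero₁₂, Matrix.det_one, mul_one]⟩

/-- upper block unipotent -/
def up (Y : Matrix (Fin 4) (Fin 4) K) : SpecialLinearGroup (Fin 4 ⊕ Fin 4) K :=
  ⟨fromBlocks 1 Y 0 1, by rw [Matrix.det_fromBlocks_zero₂₁, Matrix.det_one, mul_one]⟩

/-- first block -/
def dL : SpecialLinearGroup (Fin 4) K →* SpecialLinearGroup (Fin 4 ⊕ Fin 4) K where
  toFun A := ⟨fromBlocks A.1 0 0 1, by rw [Matrix.det_fromBlocks_zero₂₁, Matrix.det_one, mul_one]; exact A.2⟩
  map_one' := by
    apply Subtype.ext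
    change fromBlocks (1 : Matrix (Fin 4) (Fin 4) K) 0 0 1 = 1
    exact Matrix.fromBlocks_one
  map_mul' A B := by
    apply Subtype.ext
    change fromBlocks (A.1 * B.1) 0 0 1 = fromBlocks A.1 0 0 1 * fromBlocks B.1 0 0 1
    rw [Matrix.fromBlocks_multiply]
    simp

/-- second block -/
def dR : SpecialLinearGroup (Fin 4) K →* SpecialLinearGroup (Fin 4 ⊕ Fin 4) K where
  toFun A := ⟨fromBlocks 1 0 0 A.1, by rw [Matrix.det_fromBlocks_zero₂₁, Matrix.det_one, one_mul]; exact A.2⟩
  map_one' := by
    apply Subtype.ext
    change fromBlocks (1 : Matrix (Fin 4) (Fin 4) K) 0 0 1 = 1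
    exact Matrix.fromBlocks_one
  map_mul' A B := by
    apply Subtype.ext
    change fromBlocks 1 0 0 (A.1 * B.1) = fromBlocks 1 0 0 A.1 * fromBlocks 1 0 0 B.1
    rw [Matrix.fromBlocks_multiply]
    simp

theorem coe_low (Z : Matrix (Fin 4) (Fin 4) K) : (low Z).1 = fromBlocks 1 0 Z 1 := rfl
theorem coe_up (Z : Matrix (Fin 4) (Fin 4) K) : (up Z).1 = fromBlocks 1 Z 0 1 := rfl
theorem coe_dL (A : SpecialLinearGroup (Fin 4) K) : (dL A).1 = fromBlocks A.1 0 0 1 := rfl
theorem coe_dR (A : SpecialLinearGroup (Fin 4) K) : (dR A).1 = fromBlocks 1 0 0 A.1 := rfl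

theorem low_add (Z Z' : Matrix (Fin 4) (Fin 4) K) : low Z * low Z' = low (Z + Z') := by
  apply Subtype.ext
  change (low Z).1 * (low Z').1 = (low (Z + Z')).1
  rw [coe_low, coe_low, coe_low, Matrix.fromBlocks_multiply]
  simp

theorem up_add (Z Z' : Matrix (Fin 4) (Fin 4) K) : up Z * up Z' = up (Z + Z') := by
  apply Subtype.ext
  change (up Z).1 * (up Z').1 = (up (Z + Z')).1
  rw [coe_up, coe_up, coe_up, Matrix.fromBlocks_multiply]
  simp [add_comm]

theorem low_zero : low (0 : Matrix (Fin 4) (Fin 4) K) = 1 := by
  apply Subtype.ext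
  change (low 0).1 = 1
  rw [coe_low, Matrix.fromBlocks_one]

theorem up_zero : up (0 : Matrix (Fin 4) (Fin 4) K) = 1 := by
  apply Subtype.ext
  change (up 0).1 = 1
  rw [coe_up, Matrix.fromBlocks_one]

theorem low_inv (Z : Matrix (Fin 4) (Fin 4) K) : (low Z)⁻¹ = low (-Z) :=
  inv_eq_of_mul_eq_one_right (by rw [low_add, add_neg_cancel, low_zero])

theorem up_inv (Z : Matrix (Fin 4) (Fin 4) K) : (up Z)⁻¹ = up (-Z) :=
  inv_eq_of_mul_eq_one_right (by rw [up_add, add_neg_cancel, up_zero])

theorem commute_dd (A B : SpecialLinearGroup (Fin 4) K) : dL A * dR B = dR B * dL A := by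
  apply Subtype.ext
  change (dL A).1 * (dR B).1 = (dR B).1 * (dL A).1
  rw [coe_dL, coe_dR, Matrix.fromBlocks_multiply, Matrix.fromBlocks_multiply]
  simp

/-- the decomposition -/
theorem dec {N : SpecialLinearGroup (Fin 4 ⊕ Fin 4) K} {A B G : Matrix (Fin 4) (Fin 4) K}
    {e : SpecialLinearGroup (Fin 4) K} (hN : N.1 = fromBlocks A B G e.1) :
    ∃ Z Y c, N = up Y * (dL c * dR e) * low Z := by
  have he : (e⁻¹).1 * e.1 = 1 := by
    change (e⁻¹ * e).1 = 1
    rw [inv_mul_cancel]; rfl
  have he' : e.1 * (e⁻¹).1 = 1 := by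
    change (e * e⁻¹).1 = 1
    rw [mul_inv_cancel]; rfl
  have hmat : N.1 = fromBlocks 1 (B * (e⁻¹).1) 0 1 * (fromBlocks (A - B * (e⁻¹).1 * G) 0 0 1 * fromBlocks 1 0 0 e.1) *
      fromBlocks 1 0 ((e⁻¹).1 * G) 1 := by
    rw [hN, Matrix.fromBlocks_multiply, Matrix.fromBlocks_multiply, Matrix.fromBlocks_multiply]
    simp only [Matrix.one_mul, Matrix.mul_one, Matrix.zero_mul, Matrix.mul_zero, add_zero, zero_add]
    have hBe : B * (e⁻¹).1 * e.1 = B := by rw [Matrix.mul_assoc, he, Matrix.mul_one]
    congr 1
    · rw [hBe, ← Matrix.mul_assoc B]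
      abel
    · rw [hBe]
    · rw [← Matrix.mul_assoc, he', Matrix.one_mul]
  have hdet : (A - B * (e⁻¹).1 * G).det = 1 := by
    have h1 := congrArg Matrix.det hmat
    rw [Matrix.det_mul, Matrix.det_mul, Matrix.det_mul, Matrix.det_fromBlocks_zero₂₁, Matrix.det_fromBlocks_zero₂₁,
      Matrix.det_fromBlocks_zero₂₁, Matrix.det_fromBlocks_zero₁₂, Matrix.det_one, N.2, e.2] at h1
    simp only [mul_one, one_mul] at h1
    exact h1.symm
  refine ⟨(e⁻¹).1 * G, B * (e⁻¹).1, ⟨_, hdet⟩, ?_⟩
  apply Subtype.ext
  exact hmat

theorem gd_inv {e : SpecialLinearGroup (Fin 4) K} (h : Gd e.1) : Gd (e⁻¹).1 := by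
  have he' : e.1 * (e⁻¹).1 = 1 := by
    change (e * e⁻¹).1 = 1
    rw [mul_inv_cancel]; rfl
  refine ⟨fun h1 => h.1 ?_, fun u v h1 => ?_⟩
  · rw [h1, Matrix.mul_neg, Matrix.mul_one] at he'
    rw [← he', neg_neg]
  · have h2 : e.1 = 1 + vecMulVec (-(e.1 *ᵥ u)) v := by
      rw [h1, Matrix.mul_add, Matrix.mul_one, Matrix.mul_vecMulVec] at he'
      rw [Matrix.neg_vecMulVec, ← sub_eq_add_neg, ← he', add_sub_cancel_right]
    have h3 := h.2 _ _ h2
    rw [h3, Matrix.one_mul] at he'
    exact he'

theorem corner_of {N : SpecialLinearGroup (Fin 4 ⊕ Fin 4) K} {A B G E : Matrix (Fin 4) (Fin 4) K}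
    (hN : N.1 = fromBlocks A B G E) (hE : E.det = 1) (hg : Gd E) :
    ∃ (Z Y : Matrix (Fin 4) (Fin 4) K) (c d : SpecialLinearGroup (Fin 4) K),
      N⁻¹ = (low Z)⁻¹ * (dL c * dR d) * (up Y)⁻¹ ∧ Gd d.1 := by
  obtain ⟨e, rfl⟩ : ∃ e : SpecialLinearGroup (Fin 4) K, e.1 = E := ⟨⟨E, hE⟩, rfl⟩
  obtain ⟨Z, Y, c, h⟩ := dec hN
  refine ⟨Z, Y, c⁻¹, e⁻¹, ?_, gd_inv hg⟩
  rw [h, _root_.mul_inv_rev, _root_.mul_inv_rev, _root_.mul_inv_rev, map_inv, map_inv, ← _root_.mul_inv_rev (dR e),
    ← commute_dd, _root_.mul_inv_rev]
  simp only [mul_assoc]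

theorem conj_low {N : SpecialLinearGroup (Fin 4 ⊕ Fin 4) K} {A B G E : Matrix (Fin 4) (Fin 4) K}
    (hN : N.1 = fromBlocks A B G E) (Z : Matrix (Fin 4) (Fin 4) K) :
    ∃ A' B' G', (low Z * N * (low Z)⁻¹).1 = fromBlocks A' B' G' (E + Z * B) := by
  refine ⟨A - B * Z, B, (Z * A + G) - (Z * B + E) * Z, ?_⟩
  rw [low_inv]
  change (low Z).1 * N.1 * (low (-Z)).1 = _
  rw [coe_low, coe_low, hN, Matrix.fromBlocks_multiply, Matrix.fromBlocks_multiply]
  simp only [Matrix.one_mul, Matrix.mul_one, Matrix.zero_mul, Matrix.mul_zero, add_zero, zero_add, Matrix.mul_neg]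
  congr 1
  · abel
  · abel
  · abel

theorem conj_up {N : SpecialLinearGroup (Fin 4 ⊕ Fin 4) K} {A B G E : Matrix (Fin 4) (Fin 4) K}
    (hN : N.1 = fromBlocks A B G E) (Y : Matrix (Fin 4) (Fin 4) K) :
    (up Y * N * (up Y)⁻¹).1 = fromBlocks (A + Y * G) (B + Y * E - (A + Y * G) * Y) G (E - G * Y) := by
  rw [up_inv]
  change (up Y).1 * N.1 * (up (-Y)).1 = _
  rw [coe_up, coe_up, hN, Matrix.fromBlocks_multiply, Matrix.fromBlocks_multiply]
  simp only [Matrix.one_mul, Matrix.mul_one, Matrix.zero_mul, Matrix.mul_zero, add_zero, zero_add, Matrix.mul_neg]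
  congr 1
  · abel
  · abel

theorem case_B (h2 : (2 : K) ≠ 0) {N : SpecialLinearGroup (Fin 4 ⊕ Fin 4) K} {A B G : Matrix (Fin 4) (Fin 4) K}
    {x y : Fin 4 → K} (hx : x ≠ 0) (hy : y ≠ 0) (hd : y ⬝ᵥ x = 0) (hN : N.1 = fromBlocks A B G (1 + vecMulVec x y))
    (hB : B ≠ 0) : ∃ (S : SpecialLinearGroup (Fin 4 ⊕ Fin 4) K) (A' B' G' E' : Matrix (Fin 4) (Fin 4) K),
      (S * N * S⁻¹).1 = fromBlocks A' B' G' E' ∧ E'.det = 1 ∧ Gd E' := by
  obtain ⟨i, hi⟩ : ∃ i, B i ≠ 0 := Function.ne_iff.1 hB
  obtain ⟨z, h3, h4⟩ := exists_row h2 hx hy hd hi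
  have h5 : vecMulVec z (Pi.single i 1) * B = vecMulVec z (B i) := by
    rw [Matrix.vecMulVec_mul, Matrix.single_one_vecMul]
    rfl
  obtain ⟨A', B', G', h6⟩ := conj_low hN (vecMulVec z (Pi.single i 1))
  rw [h5] at h6
  exact ⟨_, A', B', G', _, h6, h3, h4⟩

theorem exists_conj (h2 : (2 : K) ≠ 0) {N : SpecialLinearGroup (Fin 4 ⊕ Fin 4) K} {A B G E : Matrix (Fin 4) (Fin 4) K}
    (hN : N.1 = fromBlocks A B G E) (hE : E.det = 1) (hE' : E ≠ -1) :
    ∃ (S : SpecialLinearGroup (Fin 4 ⊕ Fin 4) K) (A' B' G' E' : Matrix (Fin 4) (Fin 4) K),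
      (S * N * S⁻¹).1 = fromBlocks A' B' G' E' ∧ E'.det = 1 ∧ Gd E' := by
  by_cases hg : Gd E
  · exact ⟨1, A, B, G, E, by rw [one_mul, inv_one, mul_one]; exact hN, hE, hg⟩
  rw [Gd] at hg
  push Not at hg
  obtain ⟨x, y, rfl, h1⟩ := hg hE'
  have hx : x ≠ 0 := by
    rintro rfl
    exact h1 (by rw [Matrix.zero_vecMulVec, add_zero])
  have hy : y ≠ 0 := by
    rintro rfl
    exact h1 (by rw [Matrix.vecMulVec_zero, add_zero])
  have hd := dot_of_det hE
  by_cases hB : B = 0
  · by_cases hG : G = 0
    · subst hB hG
      obtain ⟨Y, hY⟩ : ∃ Y : Matrix (Fin 4) (Fin 4) K, Y * (1 + vecMulVec x y) - A * Y ≠ 0 := by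
        by_contra hcon
        push Not at hcon
        have h3 := hcon 1
        rw [Matrix.one_mul, Matrix.mul_one, sub_eq_zero] at h3
        -- `E` commutes with everything
        obtain ⟨i, hi⟩ := Function.ne_iff.1 hx
        obtain ⟨j, hj⟩ := Function.ne_iff.1 hy
        rw [Pi.zero_apply] at hi hj
        have h4 := fun Y => hcon Y
        rw [← h3] at h4
        have h5 : ∀ Y : Matrix (Fin 4) (Fin 4) K, Y * vecMulVec x y = vecMulVec x y * Y := by
          intro Y
          have := h4 Y
          rw [Matrix.mul_add, Matrix.add_mul, Matrix.mul_one, Matrix.one_mul, add_sub_add_left_eq_sub, sub_eq_zero] at this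
          exact this
        -- `(Y x) y = x (y Y)` for all `Y`
        have h6 : ∀ Y : Matrix (Fin 4) (Fin 4) K, ∀ k l, (Y *ᵥ x) k * y l = x k * (y ᵥ* Y) l := by
          intro Y k l
          have := congrFun (congrFun (h5 Y) k) l
          rw [Matrix.mul_vecMulVec, Matrix.vecMulVec_mul, vecMulVec_apply, vecMulVec_apply] at this
          exact this
        -- `Y = single k i`, `k` with `x k` ...
        obtain ⟨k, hk⟩ : ∃ k : Fin 4, k ≠ j := exists_ne j
        -- `Y = vecMulVec a b`: `(b ⬝ x) a_k y_l = x_k (y ⬝ a) b_l`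
        have h7 : ∀ a b : Fin 4 → K, ∀ k l, (b ⬝ᵥ x) * a k * y l = x k * ((y ⬝ᵥ a) * b l) := by
          intro a b k l
          have := h6 (vecMulVec a b) k l
          rw [vecMulVec_mulVec, vecMul_vecMulVec] at this
          simpa [mul_comm, mul_left_comm, mul_assoc] using this
        -- `a = x`, `y ⬝ x = 0`
        have h8 := h7 x (Pi.single i 1) i j
        rw [hd, zero_mul, mul_zero, single_dotProduct, one_mul] at h8
        exact (mul_ne_zero (mul_ne_zero hi hi) hj) h8
      have h3 := conj_up hN Y
      rw [Matrix.mul_zero, add_zero, Matrix.zero_mul, sub_zero, zero_add] at h3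
      obtain ⟨S, A', B', G', E', h4, h5, h6⟩ := case_B h2 hx hy hd h3 hY
      refine ⟨S * up Y, A', B', G', E', ?_, h5, h6⟩
      have h7 : S * up Y * N * (S * up Y)⁻¹ = S * (up Y * N * (up Y)⁻¹) * S⁻¹ := by group
      rw [h7]
      exact h4
    · obtain ⟨i, hi⟩ : ∃ i, Gᵀ i ≠ 0 := by
        refine Function.ne_iff.1 fun h => hG ?_
        have h' : Gᵀ = 0 := h
        rw [← Matrix.transpose_transpose G, h', Matrix.transpose_zero]
      obtain ⟨z, h3, h4⟩ := exists_col h2 hx hy hd hi
      have h5 : G * vecMulVec (Pi.single i 1) z = vecMulVec (Gᵀ i) z := by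
        rw [Matrix.mul_vecMulVec, Matrix.mulVec_single_one]
        rfl
      have h6 := conj_up hN (-vecMulVec (Pi.single i 1) z)
      rw [Matrix.mul_neg G, h5, sub_neg_eq_add] at h6
      exact ⟨_, _, _, _, _, h6, h3, h4⟩
  · exact case_B h2 hx hy hd hN hB

/-- **The corner.** -/
theorem exists_corner (h2 : (2 : K) ≠ 0) (M : SpecialLinearGroup (Fin 4 ⊕ Fin 4) K)
    (hE : ((M⁻¹).1.toBlocks₂₂).det = 1) (hE' : (M⁻¹).1.toBlocks₂₂ ≠ -1) :
    ∃ (S : SpecialLinearGroup (Fin 4 ⊕ Fin 4) K) (Z Y : Matrix (Fin 4) (Fin 4) K) (c d : SpecialLinearGroup (Fin 4) K),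
      S * M * S⁻¹ = (low Z)⁻¹ * (dL c * dR d) * (up Y)⁻¹ ∧ Gd d.1 := by
  obtain ⟨S, A', B', G', E', h1, h3, h4⟩ := exists_conj h2 (Matrix.fromBlocks_toBlocks (M⁻¹).1).symm hE hE'
  obtain ⟨Z, Y, c, d, h5, h6⟩ := corner_of h1 h3 h4
  refine ⟨S, Z, Y, c, d, ?_, h6⟩
  rw [← h5]
  group

end Cfsg.Agent.H122.Pw.Cor

private theorem dce_1c7113759fbe : _root_.True := by
  try have : _root_.True := by simp only [_root_.Cfsg.Agent.H122.Pw.Cor.NP.eq_1]
  try have : _root_.True := by simp only [_root_.Cfsg.Agent.H122.Pw.Cor.Gd.eq_1]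
  exact _root_.True.intro
end

-- part: H538/Pw/Arith
section
set_option linter.all false
open scoped Cfsg.Agent.FastGrp

/-!
# Primes dividing `q ± 1`, `q` a power of 2 or 3 (helper538)
-/

set_option autoImplicit false

namespace Cfsg.Agent.H538.Pw

theorem no_three {a b : ℕ} (h : 3 ^ a = 2 ^ b + 1) (hb : 4 ≤ b) : False := by
  obtain ⟨k, rfl⟩ : ∃ k, b = k + 4 := ⟨b - 4, by omega⟩
  have h1 : 3 ^ a % 16 = 1 := by
    rw [h, pow_add]
    omega
  have h2 : a % 4 = 0 := by
    rw [← Nat.div_add_mod a 4, pow_add, pow_mul, Nat.mul_mod, Nat.pow_mod, show (3 ^ 4 % 16) = 1 by norm_num, one_pow] at h1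
    have h3 : a % 4 < 4 := Nat.mod_lt _ (by norm_num)
    interval_cases h4 : a % 4
    · rfl
    · norm_num at h1
    · norm_num at h1
    · norm_num at h1
  obtain ⟨c, rfl⟩ : ∃ c, a = 4 * c := ⟨a / 4, by omega⟩
  have h3 : 3 ^ (4 * c) % 5 = 1 := by
    rw [pow_mul, Nat.pow_mod, show (3 ^ 4 % 5) = 1 by norm_num, one_pow]
    rfl
  have h4 : 2 ^ (k + 4) % 5 = 0 := by omega
  have h5 : 5 ∣ 2 ^ (k + 4) := Nat.dvd_of_mod_eq_zero h4
  have h6 := Nat.prime_five.dvd_of_dvd_pow h5
  omega

theorem no_two {a b : ℕ} (h : 2 ^ b = 3 ^ a + 1) (hb : 3 ≤ b) : False := by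
  obtain ⟨k, rfl⟩ : ∃ k, b = k + 3 := ⟨b - 3, by omega⟩
  have h1 : 3 ^ a % 8 = 7 := by
    have : 2 ^ (k + 3) % 8 = 0 := by
      rw [pow_add]
      omega
    omega
  rw [← Nat.div_add_mod a 2, pow_add, pow_mul, Nat.mul_mod, Nat.pow_mod, show (3 ^ 2 % 8) = 1 by norm_num, one_pow] at h1
  have h3 : a % 2 < 2 := Nat.mod_lt _ (by norm_num)
  interval_cases h4 : a % 2 <;> norm_num at h1

/-- the numbers without prime divisors at least five -/
theorem eq_pow_of {r s m : ℕ} (hrs : (r = 2 ∧ s = 3) ∨ (r = 3 ∧ s = 2)) (hm : m ≠ 0) (hr : ¬ r ∣ m)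
    (h : ∀ l : ℕ, l.Prime → 5 ≤ l → ¬ l ∣ m) : ∃ k, m = s ^ k := by
  refine ⟨_, Nat.eq_prime_pow_of_unique_prime_dvd hm ?_⟩
  intro l hl hlm
  have h2 : ¬ 5 ≤ l := fun h5 => h l hl h5 hlm
  have h3 : l ≠ r := by
    rintro rfl
    exact hr hlm
  have h8 := hl.two_le
  have h9 : l ≠ 4 := by
    rintro rfl
    exact absurd hl (by decide)
  omega

theorem ell_plus {r n : ℕ} (h : (r = 2 ∧ (n = 2 ∨ 4 ≤ n)) ∨ (r = 3 ∧ 2 ≤ n)) :
    ∃ l : ℕ, l.Prime ∧ 5 ≤ l ∧ l ∣ r ^ n + 1 := by
  by_contra hcon
  push Not at hcon
  have hn : 0 < n := by omega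
  rcases h with ⟨rfl, h⟩ | ⟨rfl, h⟩
  · have h2 : ¬ 2 ∣ 2 ^ n + 1 := by
      have : 2 ∣ 2 ^ n := dvd_pow_self 2 hn.ne'
      omega
    obtain ⟨k, hk⟩ := eq_pow_of (r := 2) (s := 3) (Or.inl ⟨rfl, rfl⟩) (by omega) h2 hcon
    rcases h with rfl | h
    · have h5 := hcon 5 Nat.prime_five le_rfl
      norm_num at h5
    · exact no_three hk.symm h
  · have h2 : ¬ 3 ∣ 3 ^ n + 1 := by
      have : 3 ∣ 3 ^ n := dvd_pow_self 3 hn.ne'
      omega
    obtain ⟨k, hk⟩ := eq_pow_of (r := 3) (s := 2) (Or.inr ⟨rfl, rfl⟩) (by omega) h2 hcon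
    refine no_two hk.symm ?_
    by_contra hlt
    have h3 : 2 ^ k ≤ 2 ^ 2 := Nat.pow_le_pow_right (by norm_num) (by omega)
    have h4 : 3 ^ 2 ≤ 3 ^ n := Nat.pow_le_pow_right (by norm_num) h
    omega

theorem ell_minus {r n : ℕ} (hr : r = 2 ∨ r = 3) (hn : 3 ≤ n) : ∃ l : ℕ, l.Prime ∧ 5 ≤ l ∧ l ∣ r ^ n - 1 := by
  by_contra hcon
  push Not at hcon
  rcases hr with rfl | rfl
  · have h3 : 2 ^ 3 ≤ 2 ^ n := Nat.pow_le_pow_right (by norm_num) hn
    have h2 : ¬ 2 ∣ 2 ^ n - 1 := by
      have : 2 ∣ 2 ^ n := dvd_pow_self 2 (by omega)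
      omega
    obtain ⟨k, hk⟩ := eq_pow_of (r := 2) (s := 3) (Or.inl ⟨rfl, rfl⟩) (by omega) h2 hcon
    exact no_two (a := k) (b := n) (by omega) hn
  · have h3 : 3 ^ 3 ≤ 3 ^ n := Nat.pow_le_pow_right (by norm_num) hn
    have h2 : ¬ 3 ∣ 3 ^ n - 1 := by
      have : 3 ∣ 3 ^ n := dvd_pow_self 3 (by omega)
      omega
    obtain ⟨k, hk⟩ := eq_pow_of (r := 3) (s := 2) (Or.inr ⟨rfl, rfl⟩) (by omega) h2 hcon
    refine no_three (a := n) (b := k) (by omega) ?_
    by_contra hlt
    have h4 : 2 ^ k ≤ 2 ^ 3 := Nat.pow_le_pow_right (by norm_num) (by omega)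
    omega

/-- a prime `≥ 5` dividing `q² + q + 1` -/
theorem ell_cyc {q : ℕ} (hq : 2 ≤ q) : ∃ l : ℕ, l.Prime ∧ 5 ≤ l ∧ l ∣ q ^ 2 + q + 1 := by
  by_contra hcon
  push Not at hcon
  have h2 : ¬ 2 ∣ q ^ 2 + q + 1 := by
    intro h
    have h1 : (q ^ 2 + q + 1) % 2 = 0 := Nat.mod_eq_zero_of_dvd h
    have h3 : q % 2 < 2 := Nat.mod_lt _ (by norm_num)
    rw [pow_two, Nat.add_mod, Nat.add_mod (q * q), Nat.mul_mod] at h1
    interval_cases h4 : q % 2 <;> norm_num at h1
  obtain ⟨k, hk⟩ := eq_pow_of (r := 2) (s := 3) (Or.inl ⟨rfl, rfl⟩) (by positivity) h2 hcon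
  have h9 : (q ^ 2 + q + 1) % 9 ≠ 0 := by
    intro h1
    have h3 : q % 9 < 9 := Nat.mod_lt _ (by norm_num)
    rw [pow_two, Nat.add_mod, Nat.add_mod (q * q), Nat.mul_mod] at h1
    interval_cases h4 : q % 9 <;> norm_num at h1
  have hk1 : k < 2 := by
    by_contra hlt
    apply h9
    rw [hk, show k = 2 + (k - 2) by omega, pow_add]
    omega
  have h7 : 7 ≤ q ^ 2 + q + 1 := by nlinarith
  rw [hk] at h7
  interval_cases k <;> norm_num at h7

end Cfsg.Agent.H538.Pw
end

-- part: H335/FT/Par
section
set_option linter.all false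
open scoped Cfsg.Agent.FastGrp

-- part: H335/FT/Data
section
/-!
# S2465, `F₄(2)`: the 48 matrices `x_r(1)` over `ZMod 2` in packed form (helper335)
-/

set_option autoImplicit false

namespace Cfsg.Agent.H335.FT

open Cfsg.Agent.ChevalleyStructure.Tits.Pack Cfsg.Agent.ChevalleyStructure.Tits.Table Cfsg.Lie

/-- the packed matrices -/
def XL : List ℕ := [
  oneP,
  oneP,
  oneP,
  oneP,
  oneP,
  oneP,
  oneP,
  oneP,
  oneP,
  oneP,
  oneP,
  oneP,
  oneP,
  oneP,
  0x8000000000000400000000000020000000000001100000000000088100000000004408000000000220400000000010000000000000800000000000040000000000002000000000000102000000000008100000000000408000000000020000400010001000000000000080000000000004000000000000200000000000010000000000000800000000000040000000000002000000000000100000000000008000000000000400000000000020000000000001020000000000081000000000004080000000000204400000000010220000000000811000000000040000000000002000000000000100000000000008000000000000400000000000020000000000001000000000000088000000000004000000000000200000000000010000000000000800000000000040000000000002000000000000100000000000008000000000000400000000400020000000000001,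
  oneP,
  oneP,
  oneP,
  oneP,
  oneP,
  0x80000000000004000000000000380000000000010000000000000800000000000040000000000002000000000000180000000000008000000000000500000000000028000000000001000000000000080000000000006000000000000200000000000010000000000000a40000000000052000000000002000000000000100000000000008100000200000400000000000020000000000001000000000000080000000000004a000000000002500000000000100000000000008000000000000400000000000020000000000001000000000000080000000000006000000000000200000000000014000000000000a00000000000040000000000002000000000000180000000000008000000000000400000000000020000000000001c000000000000800000000000040000000000002000000000000100000000000008000000100000400000000000020000001000001,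
  oneP,
  0x80000000000006000000000000200000000000010000000000000c0000000000004000000000000200000000000010000000000000c0000000000004000000000000200000000000010000000000000c00000000000040000000000002000000000000180000000000008000000000000400000000000020000000000001800000000000080000000000005000000000000240000040000010000000000000a000000000000400000000000020000000000001800000000000080000000000004000000000000200000000000018000000000000800000000000040000000000003000000000000100000000000008000000000000400000000000030000000000001000000000000080000000000004000000000000300000000000010000000000000800000000000060000000000002000000000000100000004000008000000000000400000000000020000000000001,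
  0xc0000000000004000000000000200000000000010000000000000800000000000060000000000002000000000000100000000000008000000000000600000000000020000000000001800000000000080000000000004000000000000200000000000010000000000000c00000000000040000000000003000000000000100000000000008000000000000600000000000020000000000001800000800000080000000000006000000000000200000000000010000000000000c0000000000004000000000000300000000000010000000000000800000000000040000000000002000000000000180000000000008000000000000600000000000020000000000001000000000000080000000000006000000000000200000000000010000000000000800000000000040000000000003000000000000100000000000008000000800000400000000000020000000000001,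
  0x8000000000000c0000000000002000000000000100000000000008000000000000400000000000060000000000001000000000000080000000000004000000000000600000000000010000000000001800000000000040000000000002000000000000100000000000008000000000000c00000000000020000000000003000000000000080000000000004000000000000600000000000010000000000001800000800000040000000000006000000000000100000000000008000000000000c000000000000200000000000030000000000000800000000000040000000000002000000000000100000000000018000000000000400000000000060000000000001000000000000080000000000004000000000000600000000000010000000000000800000000000040000000000002000000000000300000000000008000001000000400000000000020000000000001,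
  0x800000000000040000000000006000000000000100000000000008000000000000c0000000000002000000000000100000000000008000000000000c0000000000002000000000000100000000000008000000000000c000000000000200000000000010000000000001800000000000040000000000002000000000000100000000000018000000000000400000000000020000000000005000000000000080000000000024000004000000a0000000000001000000000000180000000000004000000000000200000000000010000000000001800000000000040000000000002000000000000300000000000008000000000000400000000000020000000000003000000000000080000000000004000000000000200000000000030000000000000800000000000040000000000006000000000000100000020000008000000000000400000000000020000000000001,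
  0x80000000000004000000000000a0000000000001000000000000080000000000004000000000000a0000000000001000000000000080000000000004000000000000a0000000000001000000000000080000000000014000000000000200000000000010000000000000800000000000140000000000002000000000000100000000000028000000000000400000000000020000000000001000000000000280000000000014000000000004200000c0000001000000000000080000000000014000000000000200000000000010000000000002800000000000040000000000002000000000000100000000000028000000000000400000000000020000000000005000000000000080000000000004000000000000200000000000050000000000000800000000000040000000000002000000000000500000040000008000004000000400000000000020000000000001,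
  0x8000000000000400000000000020000000000001000000000000380000000000004000000000000200000000000010000000000001800000000000040000000000002000000000000500000000000028000000000000400000000000060000000000001000000000000080000000000004000000000000200000000000010000000000000800000000000a40000000000052000000000000100000000000008000000000000400000000000020000000000081000002000000080000000000004000000000004a000000000002500000000000008000000000000400000000000060000000000001000000000000080000000000014000000000000a00000000000010000000000001800000000000040000000000002000000000000100000000000008000000000001c0000000000002000000000000100000000000008000008000000400000000000020000080000001,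
  0x80000000000004000000000000200000000000010000000000000800000000000540000000000002000000000000100000000000008000000000001400000000000020000000000009000000000000080000000000024000000000000a000000000000100000000000008000000000000400000000000020000000000001000000000000080000000000004000000000000200000000001210000000000000800000000004840000000000002000000000000100000000001008000020000000400000000002120000000000001000000000008480000000000004000000000000200000000000050000000000000800000000000240000000000002000000000000900000000000028000000000000400000000000020000000000001000000000000080000000000004000000000002a000000000000100000100000008000010000000400000000000020000100000001,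
  0x8000000000000400000000000020000000000001000000000000080000000000004000000000009200000000000010000000000000800000000000040000000000012000000000000100000000000088000000000004400000000000120000000000001000000000000080000000000004000000000000200000000000010000000000000800000000000040000000000002000000000000100000000001108000000000000400000000008820000000000001000000000000080000000002004000020000000200000000004110000000000108800000000000040000000000002000000000000100000000000048000000000000400000000000220000000000011000000000000480000000000004000000000000200000000000010000000000000800000000000040000000000002000000000004900000200000008000000000000400000000000020000200000001,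
  0x8000000000000400000000000020000000000001000000000000480000000000024000000000000200000000000010000000000000800000000000040000000000002000000000001100000000000008000000000000400000000000220000000000001000000000000080000000000004000000000000200000000000010000000000000800000000001040000000000002000000000008100000000000008000000000000400000000000020000000000101000000000008080000000000004000000000400200006000000810000000000020800000000000040000000000002000000000000100000000000008000000000004400000000000020000000000001000000000000880000000000004000000000000200000000000010000000000000800000000000240000000000012000000000000100000400000008000000000000400000000000020000000000001,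
  0x8000000000000400000000000020000000000001000000000000880000000000004000000000002200000000000010000000000000800000000000040000000000002000000000000100000000000108000000000000400000000000420000000000001000000000000080000000000004000000000000200000000000010000000000000800000000000040000000000102000000000000100000000000408000000000000400000000000020000000000201000000000000080000000000804000000000010200000000080010000e00000040800000000000040000000000002000000000000100000000000008000000000000400000000000420000000000001000000000001080000000000004000000000000200000000000010000000000000800000000000440000000000002000000000001100000800000008000080000000400000000000020000000000001,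
  0x80000000000004000000000000200000000000010000000000000800000000000840000000000042000000000000100000000000008000000000000400000000000020000000000001000000000000080000000000104000000000008200000000000010000000000000800000000000040000000000002000000000000100000000000008000000000000400000000000020000000000001000000000000080000000000804000000000040200000000000010000000000200800000000010040000000000402000000000020100000000100008000a0000000040000000000002000000000000100000000000008000000000000400000000000020000000000041000000000002080000000000004000000000000200000000000010000000000000800000000000040000000000042000000000002100000000000008000100000000400000000000020000000000001,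
  0x8000000000000400000000000020000000000001000000000000080000000000004000000000000200000000000110000000000000800000000000040000000000002000000000000100000000000008000000000000400000000000020000000000881000000000044080000000002204000000000010200000000000810000000000040800000000000040000000000002000000000000100000000000008000000000000400000000000020000000000001000000000000080000000000004000000000000200000000000010000000000000800000002000040001000000102000000000008100000000000408000000000000400000000000020000000000001000000000000080000000002044000000000102200000000008110000000000008800000000000040000000000002000000000000100000000000008000000000000400020000000020000000000001,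
  0x8000000000000400000000000020000000000001000000000000080000000000004000000000000200000000000010000000000010800000000000040000000000002000000000000100000000000008000000000000400000000000020000000002101000000000000080000000000004000000000040200000000002010000000000000800000000410040000000020802000000000000100000000000008000000000000400000000000020000000002001000000000000080000000000004000000000000200000000000010000000000000800000000080040000000400002000300000000100000000000008000000000080400000000004020000000000001000000000000080000000040104000000002008200000000000010000000000010800000000080840000000000002000000000000100000000000008000400000000400040000000020004000000001,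
  0x8000000000000400000000000020000000000001000000000000080000000000004000000000000200000000000010000000000000800000000001040000000000002000000000000100000000000008000000000000400000000000020000000000001000000000410080000000000004000000000080200000000000010000000000200800000000000040000000000002000000008100100000000000008000000020400400000000000020000000000001000000000200080000000000004000000000000200000000000010000000000000800000000100040000000000002000000080000100030000000008000000000100400000000000020000000000401000000000000080000000200204000000000000200000000800810000000000020800000000000040000000010082000000000000100008000000008000800000000400080000000020008000000001,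
  0x8000000000000400000000000020000000000001000000000000080000000000004000000000000200000000000010000000000000800000000000040000000000102000000000000100000000000008000000000000400000000000020000000000001000000000000080000000081004000000000000200000000008010000000000400800000000000040000000000002000000000000100000000808008000000000000400000004040020000000000001000000000000080000000020004000000000000200000000000010000000000000800000000200040000000000002000000000000100000010000008003000000000400000000010020000000000801000000000000080000000000004000000040020200000001001010000000000040800000000000040000000000002000000002008100010000000008000000000000400100000000020010000000001,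
  0x8000000000000400000000000020000000000001000000000000080000000000004000000000000200000000000010000000000000800000000000040000000000002000000000010100000000000008000000000000400000000000020000000000001000000000000080000000000004000000000100200000000000010000000000000800000004080040000000000002000000020400100000000000008000000000000400000000000020000000008001000000000400080000000000004000000202000200000000000010000000000000800000000000040000000010002000000000800100000000000008000002000000400100000000020000000000001000000000040080000004000404000000000000200000000000010000000000080800000008002040000000200102000000000000100020000000008000000000000400200000000020000000000001,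
  0x8000000000000400000000000020000000000001000000000000080000000000004000000000000200000000000010000000000000800000000000040000000000002000000000000100000000001008000000000000400000000000020000000000001000000000000080000000000004000000000000200000000010010000000000000800000000000040000000808002000000000000100000002020008000000000000400000000000020000000010001000000000000080000000040004000000000000200000040200010000000000000800000000000040000000020002000000000000100000000080008000000000000400000400000020010000000001000000000080080000000000004000000800040200000000000010000000000100800000010004040000000000002000000040010100040000000008004000000000400400000000020000000000001,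
  0x8000000000000400000000000020000000000001000000000000080000000000004000000000000200000000000010000000000000800000000000040000000000002000000000000100000000000008000000000100400000000000020000000000001000000000000080000000000004000000000000200000000000010000000001000800000000000040000000000002000000000000100000000000008000000804000400000040200020000000000001000000001000080000000080004000000000000200000000000010000008020000800000000000040000000000002000000002000100000000100008000000000000400000000000020000080000001001000000100080000000000004000000000000200000100004010000000000200800000000000040000004000402000000200020100000000000008008000000000400800000000020000000000001,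
  0x8000000000000400000000000020000000000001000000000000080000000000004000000000000200000000000010000000000000800000000000040000000000002000000000000100000000000008000000000000400000000010020000000000001000000000000080000000000004000000000000200000000000010000000000000800000000000040000000000002000000000000100000000000008000000000000400000000000020000000080001000000004000080000000200004000008010000200000400800010000020040000800000000000040000000000002000000000000100000000000008000000020000400000001000020000000080001000010000000080300000000004000000000000200000000000010000000000400800001000020040000080001002000004000080100000000000008000000000000401000000000020100000000001,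
  0x8000000000000400000000000020000000000001000000000000080000000000004000000000000200000000000010000000000000800000000000040000000000002000000000000100000000000008000000000000400000000000020000000004001000000000200080000000000004000000001000200000000000010000000000000800000000800040000000000002000000004000100000000000008000000000000400000000000020000000000001000000000000080000000000004000000000000200000000000010000000000000800000020000040000000800002000000040000100000000000008000000200000400000000000020000000000001000000000000080002000000004070000008000200000000200010000000004000800000000100040000000008002000000000000100200000000008000000000000400000000000020000000000001,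
  0x800000000000040000000000002000000000000100000000000008000000000000400000000000020000000000001000000000000080000000000004000000000000200000000000010000000000000800000000000040000000000002000000000800100000000000008000000002000400000000000020000000010001000000000000080000000000004000000008000200000000000010000000020000800000000000040000000000002000000000000100000000000008000000000000400000000000020000000000001000000000000080000004000004000000100000200000000000010000000400000800000000000040000002000002000000000000100000000000008000000010000400040000000020f000000400010000000008000800000000200040000000000002000000000800100400000000008040000000000400000000000020000000000001,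
  0x8000000000000400000000000020000000000001000000000000080000000000004000000000000200000000000010000000000000800000000000040000000000002000000000000100000000000008000000000000400000000000020000000000001000000000800080000000040004000000000000200000000000010000000010000800000000000040000000000002000000000000100000000000008000000040000400000002000020000000000001000000000000080000000000004000000000000200000000000010000000000000800000080000040000000000002000000100000100000008000008000000000000400000000000020000002000001000000000000080000000400004000000020000200080000000010b00000010000800000000000040000000020002000000001000100000000000008080000000000400000000000020000000000001,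
  0x8000000000000400000000000020000000000001000000000000080000000000004000000000000200000000000010000000000000800000000000040000000000002000000000000100000000000008000000000000400000000000020000000000001000000000000080000000000004000000000000200000000000010000000000000800000000000040000000000002000000000000100000000000008000000000000400000000000020000000000001000000000000080000000000004000000000000200000000000010000000000000800000100000040000008000002000000400000100000020000008000001000000400000080000020000004000001000000200000080080002000004004000100000200200008000010010000000000820800001000040040000080002002000004000100000000000008000000000000400000000000021000000000001,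
  0x8000000000000400000000000020000000000001000000000000080000000000004000000000000200000000000010000000000000800000000000040000000000002000000000000100000000000008000000000000400000000000020000000000001000000000000080000000000004000000000000200000000000010000000000000800000008000040000000400002000000000000100000000000008000000000000400000000000020000001000001000000000000080000000000004000000400000200000020000010000000000000800000000000040000010000002000000000000100000000000008000004000000400000200000020000000000001000000400000080000008000004000000400000200000000000010000000800000802000000000049000000400002000000020000100000000000008200000000000400000000000020000000000001,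
  0x8000000000000400000000000020000000000001000000000000080000000000004000000000000200000000000010000000000000800000000000040000000000002000000000000100000000000008000000000000400000000000020000000000001000000000000080000000000004000000000000200000000000010000000000000800000000000040000000000002000000080000100000000000008000000200000400000000000020000000000001000000100000080000000000004000000800000200000000000010000002000000800000000000040000000000002000001000000100000000000008000008000000400000000000020000020000001000000800000080000010000004000000000000200000040000010000001000000800000020000040400000000002d00000080000104000000000008400000000000400000000000020000000000001,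
  0x8000000000000400000000000020000000000001000000000000080000000000004000000000000200000000000010000000000000800000000000040000000000002000000000000100000000000008000000000000400000000000020000000000001000000000000080000000000004000000000000200000000000010000000000000800000000000040000000000002000000000000100000004000008000000000000400000020000020000000000001000000000000080000010000004000000000000200000080000010000004000000800000000000040000000000002000000000000100000100000008000000000000400000800000020000040000001000001000000080000000000004000001000000200000080000010000002000000800000040000040000001000002080000000000158000000000008000000000000400000000000020000000000001]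

/-- the packed matrix of `x_r(1)` -/
def XP (r : ℕ) : ℕ := XL.getD r oneP

/-- check of a packed matrix against the table -/
def chkX (r : ℕ) : Bool :=
  (List.range 52).all fun j => (List.range 52).all fun i =>
    (Nat.beq ((entN r i j).natAbs % 2) 1) == (XP r).testBit (52 * j + i)

/-- the letters in use -/
def used : List ℕ := [14, 20, 22, 23, 24, 25, 26, 27, 28, 29, 30, 31, 32, 33, 34, 35, 36, 37, 38, 39, 40, 41, 42, 43, 44,
  45, 46, 47]

private noncomputable def filF {β : Type} (s : ℕ) (l : List (ℕ × β)) : List (ℕ × β) :=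
  List.rec [] (fun e _ ih => Bool.rec ih (e :: ih) (Nat.beq e.1 s)) l

private theorem filF_eq {β : Type} (s : ℕ) : ∀ l : List (ℕ × β), l.filter (fun e => decide (e.1 = s)) = filF s l
  | [] => rfl
  | e :: l => by
    show _ = @Bool.rec (fun _ => List (ℕ × β)) (filF s l) (e :: filF s l) (Nat.beq e.1 s)
    rw [← filF_eq s l]
    cases h : Nat.beq e.1 s
    · exact List.filter_cons_of_neg (by simpa using Nat.ne_of_beq_eq_false h)
    · exact List.filter_cons_of_pos (by simpa using Nat.eq_of_beq_eq_true h)

private noncomputable def pm (l : List (ℕ × ℤ)) : ℕ :=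
  List.rec 0 (fun e _ ih => Nat.xor (Nat.shiftLeft (Nat.mod e.2.natAbs 2) e.1) ih) l

private theorem beq_dec (a b : ℕ) : Nat.beq a b = decide (a = b) :=
  Bool.eq_iff_iff.2 ⟨fun h => decide_eq_true (Nat.eq_of_beq_eq_true h), fun h => of_decide_eq_true h ▸ Nat.beq_refl a⟩

private theorem pm_spec (u : ℕ) : ∀ (l : List (ℕ × ℤ)) (k : ℕ), (pm l).testBit u =
    decide ((List.map (fun km : ℕ × ℤ => km.2) (List.map (fun q : (ℕ × ℤ) × ℕ => (q.2 + 1, q.1.2))
      ((l.zipIdx k).filter (fun q => q.1.1 = u)))).sum.natAbs % 2 = 1)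
  | [], _ => by simp [pm]
  | e :: l, k => by
    show ((e.2.natAbs % 2) <<< e.1 ^^^ pm l).testBit u = _
    rw [Nat.testBit_xor, pm_spec u l (k + 1), List.zipIdx_cons, Nat.testBit_shiftLeft]
    by_cases h : e.1 = u
    · rw [List.filter_cons_of_pos (by simpa using h), List.map_cons, List.map_cons, List.sum_cons, h, Nat.sub_self,
        Nat.testBit_zero, Bool.eq_iff_iff]
      simp only [ge_iff_le, le_refl, decide_true, Bool.true_and, bne_iff_ne, ne_eq, decide_eq_decide, decide_eq_true_eq]
      omega
    · rw [List.filter_cons_of_neg (by simpa using h)]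
      have h1 : (decide (u ≥ e.1) && (e.2.natAbs % 2).testBit (u - e.1)) = false := by
        by_cases h2 : u ≥ e.1
        · rw [Nat.testBit_lt_two_pow, Bool.and_false]
          exact lt_of_lt_of_le (Nat.mod_lt _ Nat.two_pos) (Nat.le_self_pow (by omega) 2)
        · rw [decide_eq_false h2, Bool.false_and]
      rw [h1, Bool.false_xor]

private noncomputable def colM (r s : ℕ) (f : ℕ → Bool) : Bool :=
  List.rec (f 0) (fun e t _ => List.rec (f (pm e.2.toList)) (fun _ _ _ => false) t)
    (filF s (chevF4.chain.getD r #[]).toList)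

private theorem colM_spec {r s : ℕ} {f : ℕ → Bool} (h : colM r s f = true) :
    ∃ M, f M = true ∧ ∀ u, M.testBit u = decide ((cs r s u).natAbs % 2 = 1) := by
  delta colM at h
  delta cs ChevalleyDatum.chainCoeff
  rw [filF_eq]
  generalize filF s (chevF4.chain.getD r #[]).toList = L at h ⊢
  match L, h with
  | [], h => exact ⟨0, h, fun u => by simp⟩
  | [e], h => exact ⟨_, h, fun u => by rw [List.flatMap_singleton, pm_spec u _ 0]⟩
  | _ :: _ :: _, h => exact absurd h Bool.false_ne_true

private noncomputable def chkY (r : ℕ) : Bool :=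
  (List.range 52).all fun j => Bool.rec
    ((List.range 52).all fun i => (Nat.beq ((entN r i j).natAbs % 2) 1) == (XP r).testBit (52 * j + i))
    (colM r (Nat.sub j 4) fun M => Nat.beq (Nat.mod (Nat.shiftRight (XP r) (Nat.mul 52 j)) (Nat.pow 2 52))
      (Nat.xor (Nat.shiftLeft 1 j) (Nat.shiftLeft M 4)))
    (Nat.ble 4 j && !(Nat.beq j (4 + r)) && !(Nat.beq j (4 + chevF4.negIdx.getD r 0)))

private theorem chkX_of {l : List ℕ} (h : l.all chkY = true) : l.all chkX = true := by
  refine List.all_eq_true.2 fun r hr => List.all_eq_true.2 fun j hj => ?_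
  have h1 := List.all_eq_true.1 (List.all_eq_true.1 h r hr) j hj
  cases hb : (Nat.ble 4 j && !(Nat.beq j (4 + r)) && !(Nat.beq j (4 + chevF4.negIdx.getD r 0)))
  · rw [hb] at h1
    exact h1
  · rw [hb] at h1
    obtain ⟨M, h2, h3⟩ := colM_spec h1
    have h4 : (XP r >>> (52 * j)) % 2 ^ 52 = 1 <<< j ^^^ M <<< 4 := Nat.eq_of_beq_eq_true h2
    simp only [Bool.and_eq_true, Nat.ble_eq, Bool.not_eq_true', beq_dec, decide_eq_false_iff_not] at hb
    refine List.all_eq_true.2 fun i hi => ?_
    have h5 : (XP r).testBit (52 * j + i) = (1 <<< j ^^^ M <<< 4).testBit i := by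
      rw [← h4, Nat.testBit_mod_two_pow, decide_eq_true (List.mem_range.1 hi), Bool.true_and, Nat.testBit_shiftRight]
    delta entN
    rw [h5, if_neg (not_lt.2 hb.1.1), if_neg hb.1.2, if_neg hb.2, beq_iff_eq, Nat.testBit_xor, Nat.one_shiftLeft,
      Nat.testBit_two_pow, Nat.testBit_shiftLeft, h3, beq_dec, Bool.eq_iff_iff]
    show _ ↔ (decide (j = i) ^^ (decide (i ≥ 4) && decide ((cs r (j - 4) (i - 4)).natAbs % 2 = 1))) = true
    have h6 := hb.1.1
    simp only [bne_iff_ne, ne_eq, decide_eq_true_eq, ← Bool.decide_and, decide_eq_decide]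
    split_ifs <;> omega

theorem chkX_used : used.all chkX = true := chkX_of (by decide +kernel)

theorem XP_unused : (List.range 48).all (fun r => used.contains r || Nat.beq (XP r) oneP) = true := by decide +kernel

end Cfsg.Agent.H335.FT
end

-- part: H335/FT/Lib
section
/-!
# S2465, `F₄(2)`: products of two elements of order prime to `n` in a coset of a group of class two (helper335)

`QZ Q Z` : `Z ≤ Q` central, `[Q, Q] ≤ Z`.  `Nz Q Z a` : `a` normalises both.
* `cov` : the elements of `Q` of the form `⁅p, a⁆ * ⁅q, b⁆` modulo `Z`;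
* `pr_of_mem` : `a * b * x`, `x ∈ cov`, is a product of two conjugates of `a` and `b`;
* `triple` : three hyperplanes with dependent equations cover `Q`.
-/

set_option autoImplicit false

namespace Cfsg.Agent.H335.FT

open scoped commutatorElement
open Cfsg.Agent.H78.Pw

universe u

variable {G : Type u} [Group G]

/-- `Z ≤ Q` central, `[Q, Q] ≤ Z` -/
structure QZ (Q Z : Subgroup G) : Prop where
  le : Z ≤ Q
  cent : ∀ z ∈ Z, ∀ x ∈ Q, x * z * x⁻¹ = z
  comm : ∀ x ∈ Q, ∀ y ∈ Q, ⁅x, y⁆ ∈ Z

/-- `a` normalises `Q` and `Z` -/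
structure Nz (Q Z : Subgroup G) (a : G) : Prop where
  q : ∀ x ∈ Q, a * x * a⁻¹ ∈ Q
  q' : ∀ x ∈ Q, a⁻¹ * x * a ∈ Q
  z : ∀ x ∈ Z, a * x * a⁻¹ ∈ Z
  z' : ∀ x ∈ Z, a⁻¹ * x * a ∈ Z

variable {Q Z : Subgroup G}

theorem Nz.one : Nz Q Z (1 : G) :=
  ⟨fun x hx => by simpa using hx, fun x hx => by simpa using hx, fun x hx => by simpa using hx,
    fun x hx => by simpa using hx⟩

theorem Nz.inv {a : G} (h : Nz Q Z a) : Nz Q Z a⁻¹ :=
  ⟨fun x hx => by simpa using h.q' x hx, fun x hx => by simpa using h.q x hx,
    fun x hx => by simpa using h.z' x hx, fun x hx => by simpa using h.z x hx⟩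

theorem Nz.mul {a b : G} (ha : Nz Q Z a) (hb : Nz Q Z b) : Nz Q Z (a * b) := by
  refine ⟨fun x hx => ?_, fun x hx => ?_, fun x hx => ?_, fun x hx => ?_⟩
  · have := ha.q _ (hb.q x hx)
    rwa [show a * (b * x * b⁻¹) * a⁻¹ = a * b * x * (a * b)⁻¹ by group] at this
  · have := hb.q' _ (ha.q' x hx)
    rwa [show b⁻¹ * (a⁻¹ * x * a) * b = (a * b)⁻¹ * x * (a * b) by group] at this
  · have := ha.z _ (hb.z x hx)
    rwa [show a * (b * x * b⁻¹) * a⁻¹ = a * b * x * (a * b)⁻¹ by group] at this
  · have := hb.z' _ (ha.z' x hx)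
    rwa [show b⁻¹ * (a⁻¹ * x * a) * b = (a * b)⁻¹ * x * (a * b) by group] at this

theorem Nz.prod {l : List G} (h : ∀ a ∈ l, Nz Q Z a) : Nz Q Z l.prod := by
  induction l with
  | nil => rw [List.prod_nil]; exact Nz.one
  | cons a l ih =>
    rw [List.prod_cons]
    exact (h a List.mem_cons_self).mul (ih fun b hb => h b (List.mem_cons_of_mem _ hb))

/-- an involution, checked on generators -/
theorem Nz.of_gen {a : G} (ha : a * a = 1) {X Y : Set G} (hX : Subgroup.closure X = Q) (hY : Subgroup.closure Y = Z)
    (h1 : ∀ x ∈ X, a * x * a⁻¹ ∈ Q) (h2 : ∀ x ∈ Y, a * x * a⁻¹ ∈ Z) : Nz Q Z a := by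
  have hi : a⁻¹ = a := inv_eq_of_mul_eq_one_right ha
  have k1 : ∀ x ∈ Q, a * x * a⁻¹ ∈ Q := by
    intro x hx
    have : Q ≤ Q.comap (MulAut.conj a).toMonoidHom := by
      conv_lhs => rw [← hX]
      rw [Subgroup.closure_le]
      intro y hy
      exact h1 y hy
    exact this hx
  have k2 : ∀ x ∈ Z, a * x * a⁻¹ ∈ Z := by
    intro x hx
    have : Z ≤ Z.comap (MulAut.conj a).toMonoidHom := by
      conv_lhs => rw [← hY]
      rw [Subgroup.closure_le]
      intro y hy
      exact h2 y hy
    exact this hx
  refine ⟨k1, fun x hx => ?_, k2, fun x hx => ?_⟩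
  · have := k1 x hx
    rw [hi] at this ⊢
    exact this
  · have := k2 x hx
    rw [hi] at this ⊢
    exact this

theorem QZ.of_gen {X Y : Set G} (hX : Subgroup.closure X = Q) (hY : Subgroup.closure Y = Z) (hle : Z ≤ Q)
    (h1 : ∀ z ∈ Y, ∀ x ∈ X, z * x = x * z) (h2 : ∀ x ∈ X, ∀ y ∈ X, ∃ z ∈ Z, x * y = z * (y * x)) : QZ Q Z := by
  have hc : ∀ z ∈ Z, ∀ x ∈ Q, x * z * x⁻¹ = z := by
    have k1 : ∀ z ∈ Y, ∀ x ∈ Q, x * z * x⁻¹ = z := by
      intro z hz x hx
      have : Q ≤ Subgroup.centralizer {z} := by
        rw [← hX, Subgroup.closure_le]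
        intro y hy
        rw [SetLike.mem_coe, Subgroup.mem_centralizer_singleton_iff]
        exact (h1 z hz y hy).symm
      have h3 := Subgroup.mem_centralizer_singleton_iff.1 (this hx)
      rw [h3]; group
    intro z hz x hx
    have : Z ≤ Subgroup.centralizer {x} := by
      rw [← hY, Subgroup.closure_le]
      intro y hy
      rw [SetLike.mem_coe, Subgroup.mem_centralizer_singleton_iff]
      have := k1 y hy x hx
      calc y * x = (x * y * x⁻¹) * x := by rw [this]
        _ = x * y := by group
    have h3 := Subgroup.mem_centralizer_singleton_iff.1 (this hz)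
    rw [← h3]; group
  refine ⟨hle, hc, ?_⟩
  -- the commutators
  have key : ∀ y : G, y ∈ Q → ∀ x ∈ Q, ∀ x' ∈ Q, ⁅x, y⁆ ∈ Z → ⁅x', y⁆ ∈ Z → ⁅x * x', y⁆ ∈ Z := by
    intro y _ x hx x' _ h3 h4
    have e : ⁅x * x', y⁆ = x * ⁅x', y⁆ * x⁻¹ * ⁅x, y⁆ := by simp only [commutatorElement_def]; group
    rw [e, hc _ h4 x hx]
    exact mul_mem h4 h3
  have kinv : ∀ y : G, y ∈ Q → ∀ x ∈ Q, ⁅x, y⁆ ∈ Z → ⁅x⁻¹, y⁆ ∈ Z := by
    intro y _ x hx h3
    have h4 := hc _ (inv_mem h3) x⁻¹ (inv_mem hx)
    have e : ⁅x⁻¹, y⁆ = x⁻¹ * ⁅x, y⁆⁻¹ * x⁻¹⁻¹ := by simp only [commutatorElement_def]; group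
    rw [e, h4]
    exact inv_mem h3
  have k2 : ∀ y ∈ X, ∀ x ∈ Q, ⁅x, y⁆ ∈ Z := by
    intro y hy x hx
    have hyQ : y ∈ Q := by rw [← hX]; exact Subgroup.subset_closure hy
    rw [← hX] at hx
    induction hx using Subgroup.closure_induction with
    | mem x hx =>
      obtain ⟨z, hz, e⟩ := h2 x hx y hy
      rw [commutatorElement_def, e]
      have : z * (y * x) * x⁻¹ * y⁻¹ = z := by group
      rw [this]; exact hz
    | one => rw [commutatorElement_one_left]; exact one_mem _
    | mul a b ha hb iha ihb =>
      rw [hX] at ha hb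
      exact key y hyQ a ha b hb iha ihb
    | inv a ha iha =>
      rw [hX] at ha
      exact kinv y hyQ a ha iha
  intro x hx y hy
  rw [← hX] at hy
  have hs : ∀ a b : G, ⁅a, b⁆ ∈ Z → ⁅b, a⁆ ∈ Z := by
    intro a b h
    rw [← commutatorElement_inv]
    exact inv_mem h
  refine hs _ _ ?_
  induction hy using Subgroup.closure_induction with
  | mem y hy => exact hs _ _ (k2 y hy x hx)
  | one => rw [commutatorElement_one_left]; exact one_mem _
  | mul a b ha hb iha ihb =>
    rw [hX] at ha hb
    exact key x hx a ha b hb iha ihb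
  | inv a ha iha =>
    rw [hX] at ha
    exact kinv x hx a ha iha

/-- the quotient `Q / Z` -/
theorem QZ.exists_model (h : QZ Q Z) : ∃ (A : Type u) (_ : CommGroup A) (f : ↥Q →* A),
    ∀ x y : ↥Q, (x : G)⁻¹ * y ∈ Z ↔ f x = f y := by
  have hn : (Z.subgroupOf Q).Normal := ⟨fun z hz x => by
    rw [Subgroup.mem_subgroupOf] at hz ⊢
    have := h.cent _ hz x x.2
    rw [Subgroup.coe_mul, Subgroup.coe_mul, Subgroup.coe_inv, this]
    exact hz⟩
  have hc : ∀ x y : ↥Q ⧸ Z.subgroupOf Q, x * y = y * x := by
    intro x y
    obtain ⟨x, rfl⟩ := QuotientGroup.mk_surjective x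
    obtain ⟨y, rfl⟩ := QuotientGroup.mk_surjective y
    rw [← QuotientGroup.mk_mul, ← QuotientGroup.mk_mul]
    apply Eq.symm
    rw [QuotientGroup.eq, Subgroup.mem_subgroupOf]
    have h1 := h.comm _ (inv_mem x.2) _ (inv_mem y.2)
    have e : ((((y * x : ↥Q))⁻¹ * (x * y) : ↥Q) : G) = ⁅(x : G)⁻¹, (y : G)⁻¹⁆ := by
      simp only [commutatorElement_def, Subgroup.coe_mul, Subgroup.coe_inv]; group
    rw [e]; exact h1
  refine ⟨↥Q ⧸ Z.subgroupOf Q, { (inferInstance : Group (↥Q ⧸ Z.subgroupOf Q)) with mul_comm := hc },
    QuotientGroup.mk' (Z.subgroupOf Q), fun x y => ?_⟩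
  change _ ↔ (QuotientGroup.mk x : ↥Q ⧸ Z.subgroupOf Q) = QuotientGroup.mk y
  rw [QuotientGroup.eq, Subgroup.mem_subgroupOf]
  rfl

theorem Nz.comm_mem {a : G} (ha : Nz Q Z a) {p : G} (hp : p ∈ Q) : ⁅p, a⁆ ∈ Q := by
  have : ⁅p, a⁆ = p * (a * p⁻¹ * a⁻¹) := by rw [commutatorElement_def]; group
  rw [this]
  exact mul_mem hp (ha.q _ (inv_mem hp))

theorem f_mul {A : Type*} [CommGroup A] (f : ↥Q →* A) {a : G} (ha : Nz Q Z a) {p p' : G} (hp : p ∈ Q) (hp' : p' ∈ Q) :
    f ⟨⁅p * p', a⁆, ha.comm_mem (mul_mem hp hp')⟩ = f ⟨⁅p, a⁆, ha.comm_mem hp⟩ * f ⟨⁅p', a⁆, ha.comm_mem hp'⟩ := by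
  have e : (⟨⁅p * p', a⁆, ha.comm_mem (mul_mem hp hp')⟩ : ↥Q) =
      ⟨p, hp⟩ * ⟨⁅p', a⁆, ha.comm_mem hp'⟩ * ⟨p, hp⟩⁻¹ * ⟨⁅p, a⁆, ha.comm_mem hp⟩ := by
    apply Subtype.ext
    simp only [commutatorElement_def, Subgroup.coe_mul, Subgroup.coe_inv]; group
  rw [e, map_mul, map_mul, map_mul, map_inv, mul_comm (f ⟨p, hp⟩), mul_inv_cancel_right, mul_comm]

theorem f_inv {A : Type*} [CommGroup A] (f : ↥Q →* A) {a : G} (ha : Nz Q Z a) {p : G} (hp : p ∈ Q) :
    f ⟨⁅p⁻¹, a⁆, ha.comm_mem (inv_mem hp)⟩ = (f ⟨⁅p, a⁆, ha.comm_mem hp⟩)⁻¹ := by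
  have h1 := f_mul f ha (inv_mem hp) hp
  have e : (⟨⁅p⁻¹ * p, a⁆, ha.comm_mem (mul_mem (inv_mem hp) hp)⟩ : ↥Q) = 1 := by
    apply Subtype.ext
    simp only [commutatorElement_def, Subgroup.coe_one]; group
  rw [e, map_one] at h1
  exact eq_inv_of_mul_eq_one_left h1.symm

/-- the elements of `Q` of the form `⁅p, a⁆ * ⁅q, b⁆` modulo `Z` -/
def cov (h : QZ Q Z) {a b : G} (ha : Nz Q Z a) (hb : Nz Q Z b) : Subgroup G where
  carrier := {x | x ∈ Q ∧ ∃ p ∈ Q, ∃ q ∈ Q, x⁻¹ * (⁅p, a⁆ * ⁅q, b⁆) ∈ Z}
  one_mem' := ⟨one_mem _, 1, one_mem _, 1, one_mem _, by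
    rw [commutatorElement_one_left, commutatorElement_one_left, inv_one, mul_one, mul_one]; exact one_mem _⟩
  mul_mem' := by
    rintro x y ⟨hx, p, hp, q, hq, h1⟩ ⟨hy, p', hp', q', hq', h2⟩
    obtain ⟨A, _, f, hf⟩ := h.exists_model
    have k1 := (hf ⟨x, hx⟩ ⟨⁅p, a⁆ * ⁅q, b⁆, mul_mem (ha.comm_mem hp) (hb.comm_mem hq)⟩).1 h1
    have k2 := (hf ⟨y, hy⟩ ⟨⁅p', a⁆ * ⁅q', b⁆, mul_mem (ha.comm_mem hp') (hb.comm_mem hq')⟩).1 h2
    refine ⟨mul_mem hx hy, p * p', mul_mem hp hp', q * q', mul_mem hq hq', ?_⟩
    refine (hf ⟨x * y, mul_mem hx hy⟩ ⟨⁅p * p', a⁆ * ⁅q * q', b⁆, mul_mem (ha.comm_mem (mul_mem hp hp'))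
      (hb.comm_mem (mul_mem hq hq'))⟩).2 ?_
    have e1 : (⟨x * y, mul_mem hx hy⟩ : ↥Q) = ⟨x, hx⟩ * ⟨y, hy⟩ := rfl
    have e2 : (⟨⁅p, a⁆ * ⁅q, b⁆, mul_mem (ha.comm_mem hp) (hb.comm_mem hq)⟩ : ↥Q) =
      ⟨⁅p, a⁆, ha.comm_mem hp⟩ * ⟨⁅q, b⁆, hb.comm_mem hq⟩ := rfl
    have e3 : (⟨⁅p', a⁆ * ⁅q', b⁆, mul_mem (ha.comm_mem hp') (hb.comm_mem hq')⟩ : ↥Q) =
      ⟨⁅p', a⁆, ha.comm_mem hp'⟩ * ⟨⁅q', b⁆, hb.comm_mem hq'⟩ := rfl
    have e4 : (⟨⁅p * p', a⁆ * ⁅q * q', b⁆, mul_mem (ha.comm_mem (mul_mem hp hp'))
      (hb.comm_mem (mul_mem hq hq'))⟩ : ↥Q) =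
      ⟨⁅p * p', a⁆, ha.comm_mem (mul_mem hp hp')⟩ * ⟨⁅q * q', b⁆, hb.comm_mem (mul_mem hq hq')⟩ := rfl
    rw [e2, map_mul] at k1
    rw [e3, map_mul] at k2
    rw [e1, e4, map_mul, map_mul, k1, k2, f_mul f ha hp hp', f_mul f hb hq hq', mul_mul_mul_comm]
  inv_mem' := by
    rintro x ⟨hx, p, hp, q, hq, h1⟩
    obtain ⟨A, _, f, hf⟩ := h.exists_model
    have k1 := (hf ⟨x, hx⟩ ⟨⁅p, a⁆ * ⁅q, b⁆, mul_mem (ha.comm_mem hp) (hb.comm_mem hq)⟩).1 h1
    refine ⟨inv_mem hx, p⁻¹, inv_mem hp, q⁻¹, inv_mem hq, ?_⟩
    refine (hf ⟨x⁻¹, inv_mem hx⟩ ⟨⁅p⁻¹, a⁆ * ⁅q⁻¹, b⁆, mul_mem (ha.comm_mem (inv_mem hp))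
      (hb.comm_mem (inv_mem hq))⟩).2 ?_
    have e1 : (⟨x⁻¹, inv_mem hx⟩ : ↥Q) = ⟨x, hx⟩⁻¹ := rfl
    have e2 : (⟨⁅p, a⁆ * ⁅q, b⁆, mul_mem (ha.comm_mem hp) (hb.comm_mem hq)⟩ : ↥Q) =
      ⟨⁅p, a⁆, ha.comm_mem hp⟩ * ⟨⁅q, b⁆, hb.comm_mem hq⟩ := rfl
    have e4 : (⟨⁅p⁻¹, a⁆ * ⁅q⁻¹, b⁆, mul_mem (ha.comm_mem (inv_mem hp)) (hb.comm_mem (inv_mem hq))⟩ : ↥Q) =
      ⟨⁅p⁻¹, a⁆, ha.comm_mem (inv_mem hp)⟩ * ⟨⁅q⁻¹, b⁆, hb.comm_mem (inv_mem hq)⟩ := rfl
    rw [e2, map_mul] at k1
    rw [e1, e4, map_mul, map_inv, k1, f_inv f ha hp, f_inv f hb hq, mul_inv]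

section

variable (h : QZ Q Z) {a b : G} (ha : Nz Q Z a) (hb : Nz Q Z b)

/-- certificate form -/
theorem mem_cov_of {x p q z : G} (hx : x ∈ Q) (hp : p ∈ Q) (hq : q ∈ Q) (hz : z ∈ Z)
    (e : x * z = ⁅p, a⁆ * ⁅q, b⁆) : x ∈ cov h ha hb :=
  ⟨hx, p, hp, q, hq, by rw [← e, inv_mul_cancel_left]; exact hz⟩

theorem Z_le_cov : Z ≤ cov h ha hb := fun z hz => ⟨h.le hz, 1, one_mem _, 1, one_mem _, by
  rw [commutatorElement_one_left, commutatorElement_one_left, mul_one, mul_one]; exact inv_mem hz⟩

theorem conj_mem_cov {x : G} (hx : x ∈ cov h ha hb) : b * x * b⁻¹ ∈ cov h ha hb := by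
  have e : b * x * b⁻¹ = x * ⁅x⁻¹, b⁆ := by rw [commutatorElement_def]; group
  rw [e]
  refine mul_mem hx ⟨hb.comm_mem (inv_mem hx.1), 1, one_mem _, x⁻¹, inv_mem hx.1, ?_⟩
  rw [commutatorElement_one_left, one_mul, inv_mul_cancel]
  exact one_mem _

include h in
theorem comm_conj {u p : G} (hu : u ∈ Q) (ha : Nz Q Z a) (hp : p ∈ Z) : ⁅p, u * a * u⁻¹⁆ = ⁅p, a⁆ := by
  have h1 : u * p⁻¹ * u⁻¹ = p⁻¹ := h.cent _ (inv_mem hp) u hu
  have h1' : u⁻¹ * p⁻¹ * u = p⁻¹ := by
    have := h.cent _ (inv_mem hp) u⁻¹ (inv_mem hu)
    rwa [inv_inv] at this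
  have h2 : u * (a * p⁻¹ * a⁻¹) * u⁻¹ = a * p⁻¹ * a⁻¹ := h.cent _ (ha.z _ (inv_mem hp)) u hu
  have e : ⁅p, u * a * u⁻¹⁆ = p * (u * (a * (u⁻¹ * p⁻¹ * u) * a⁻¹) * u⁻¹) := by
    rw [commutatorElement_def]; group
  rw [e, h1', h2, commutatorElement_def]; group

/-- **One coset.** -/
theorem pr_of_mem {n : ℕ} (hz : ∀ x ∈ Z, ∃ p ∈ Z, ∃ q ∈ Z, x = ⁅p, a⁆ * ⁅q, b⁆)
    (oa : (orderOf a).Coprime n) (ob : (orderOf b).Coprime n) {x : G} (hx : x ∈ cov h ha hb) : Pr n (a * b * x) := by
  obtain ⟨-, p, hp, q, hq, h1⟩ := conj_mem_cov h ha hb hx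
  obtain ⟨u, hu⟩ : ∃ u, u = a * p * a⁻¹ := ⟨_, rfl⟩
  have huQ : u ∈ Q := by rw [hu]; exact ha.q _ hp
  obtain ⟨a', ha'⟩ : ∃ a', a' = u * a * u⁻¹ := ⟨_, rfl⟩
  obtain ⟨b', hb'⟩ : ∃ b', b' = q * b * q⁻¹ := ⟨_, rfl⟩
  obtain ⟨ζ, hζ⟩ : ∃ ζ, ζ = (a' * b')⁻¹ * (a * b * x) := ⟨_, rfl⟩
  have hζZ : ζ ∈ Z := by
    have e : ζ = b⁻¹ * ((b * x * b⁻¹)⁻¹ * (⁅p, a⁆ * ⁅q, b⁆))⁻¹ * b := by
      rw [hζ, ha', hb', hu]
      simp only [commutatorElement_def]
      group
    rw [e]
    exact hb.z' _ (inv_mem h1)
  have e1 : a * b * x = a' * b' * ζ := by rw [hζ]; group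
  have na' : Nz Q Z a' := by
    rw [ha']
    have nu : Nz Q Z u := ⟨fun x hx => mul_mem (mul_mem huQ hx) (inv_mem huQ),
      fun x hx => mul_mem (mul_mem (inv_mem huQ) hx) huQ, fun x hx => by rw [h.cent x hx u huQ]; exact hx,
      fun x hx => by
        have := h.cent x hx u⁻¹ (inv_mem huQ)
        rw [inv_inv] at this
        rw [this]; exact hx⟩
    exact (nu.mul ha).mul nu.inv
  have nb' : Nz Q Z b' := by
    rw [hb']
    have nu : Nz Q Z q := ⟨fun x hx => mul_mem (mul_mem hq hx) (inv_mem hq),
      fun x hx => mul_mem (mul_mem (inv_mem hq) hx) hq, fun x hx => by rw [h.cent x hx q hq]; exact hx,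
      fun x hx => by
        have := h.cent x hx q⁻¹ (inv_mem hq)
        rw [inv_inv] at this
        rw [this]; exact hx⟩
    exact (nu.mul hb).mul nu.inv
  obtain ⟨p₂, hp₂, q₂, hq₂, h2⟩ := hz _ (nb'.z _ hζZ)
  rw [← comm_conj h huQ ha hp₂, ← comm_conj h hq hb hq₂, ← ha', ← hb'] at h2
  obtain ⟨u₂, hu₂⟩ : ∃ u₂, u₂ = a' * p₂ * a'⁻¹ := ⟨_, rfl⟩
  have e2 : (u₂ * a' * u₂⁻¹) * (q₂ * b' * q₂⁻¹) = a' * b' * ζ := by
    have e : (u₂ * a' * u₂⁻¹) * (q₂ * b' * q₂⁻¹) = a' * (⁅p₂, a'⁆ * ⁅q₂, b'⁆) * b' := by
      rw [hu₂]
      simp only [commutatorElement_def]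
      group
    rw [e, ← h2]
    group
  refine ⟨u₂ * a' * u₂⁻¹, q₂ * b' * q₂⁻¹, by rw [e2, e1], ?_, ?_⟩
  · rw [ha', show u₂ * (u * a * u⁻¹) * u₂⁻¹ = MulAut.conj u₂ (MulAut.conj u a) from rfl, MulEquiv.orderOf_eq,
      MulEquiv.orderOf_eq]
    exact oa
  · rw [hb', show q₂ * (q * b * q⁻¹) * q₂⁻¹ = MulAut.conj q₂ (MulAut.conj q b) from rfl, MulEquiv.orderOf_eq,
      MulEquiv.orderOf_eq]
    exact ob

include h ha hb in
/-- the same, `Z` covered on generators -/
theorem cover_Z {Y : Set G} (hY : Subgroup.closure Y = Z) (hg : ∀ x ∈ Y, ∃ p ∈ Z, ∃ q ∈ Z, x = ⁅p, a⁆ * ⁅q, b⁆) :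
    ∀ x ∈ Z, ∃ p ∈ Z, ∃ q ∈ Z, x = ⁅p, a⁆ * ⁅q, b⁆ := by
  have hab : ∀ x ∈ Z, ∀ y ∈ Z, x * y = y * x := by
    intro x hx y hy
    have := h.cent y hy x (h.le hx)
    calc x * y = (x * y * x⁻¹) * x := by group
      _ = y * x := by rw [this]
  have cm : ∀ {c : G}, Nz Q Z c → ∀ p ∈ Z, ⁅p, c⁆ ∈ Z := by
    intro c hc p hp
    have : ⁅p, c⁆ = p * (c * p⁻¹ * c⁻¹) := by rw [commutatorElement_def]; group
    rw [this]
    exact mul_mem hp (hc.z _ (inv_mem hp))
  have mulc : ∀ {c : G}, Nz Q Z c → ∀ p ∈ Z, ∀ p' ∈ Z, ⁅p * p', c⁆ = ⁅p, c⁆ * ⁅p', c⁆ := by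
    intro c hc p hp p' hp'
    have e : ⁅p * p', c⁆ = p * ⁅p', c⁆ * p⁻¹ * ⁅p, c⁆ := by simp only [commutatorElement_def]; group
    rw [e, h.cent _ (cm hc p' hp') p (h.le hp)]
    exact hab _ (cm hc p' hp') _ (cm hc p hp)
  have invc : ∀ {c : G}, Nz Q Z c → ∀ p ∈ Z, ⁅p⁻¹, c⁆ = ⁅p, c⁆⁻¹ := by
    intro c hc p hp
    have h1 := mulc hc p⁻¹ (inv_mem hp) p hp
    rw [inv_mul_cancel, commutatorElement_one_left] at h1
    exact eq_inv_of_mul_eq_one_left h1.symm
  intro x hx
  rw [← hY] at hx
  induction hx using Subgroup.closure_induction with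
  | mem x hx => exact hg x hx
  | one => exact ⟨1, one_mem _, 1, one_mem _, by rw [commutatorElement_one_left, commutatorElement_one_left, mul_one]⟩
  | mul x y _ _ ihx ihy =>
    obtain ⟨p, hp, q, hq, e1⟩ := ihx
    obtain ⟨p', hp', q', hq', e2⟩ := ihy
    refine ⟨p * p', mul_mem hp hp', q * q', mul_mem hq hq', ?_⟩
    rw [e1, e2, mulc ha p hp p' hp', mulc hb q hq q' hq']
    have := hab _ (cm hb q hq) _ (cm ha p' hp')
    calc ⁅p, a⁆ * ⁅q, b⁆ * (⁅p', a⁆ * ⁅q', b⁆) = ⁅p, a⁆ * (⁅q, b⁆ * ⁅p', a⁆) * ⁅q', b⁆ := by group
      _ = _ := by rw [this]; group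
  | inv x _ ihx =>
    obtain ⟨p, hp, q, hq, e1⟩ := ihx
    refine ⟨p⁻¹, inv_mem hp, q⁻¹, inv_mem hq, ?_⟩
    rw [e1, invc ha p hp, invc hb q hq, mul_inv_rev]
    exact hab _ (inv_mem (cm hb q hq)) _ (inv_mem (cm ha p hp))

end

/-- **Three hyperplanes.** -/
theorem triple (h : QZ Q Z) {X : Set G} (hX : Subgroup.closure X = Q) {C : Fin 3 → Subgroup G} {y : Fin 3 → G}
    (hy : ∀ i, y i ∈ Q) (hyy : ∀ i, y i * y i = 1) (hZ : ∀ i, Z ≤ C i)
    (hr : ∀ r ∈ X, ∃ e : Fin 3 → Bool, ((e 0 ^^ e 1) ^^ e 2) = false ∧ ∀ i, r * (if e i then y i else 1) ∈ C i) :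
    ∀ x ∈ Q, ∃ i, x ∈ C i := by
  obtain ⟨A, _, f, hf⟩ := h.exists_model
  have hyf : ∀ i, f ⟨y i, hy i⟩ * f ⟨y i, hy i⟩ = 1 := by
    intro i
    rw [← map_mul]
    have : (⟨y i, hy i⟩ * ⟨y i, hy i⟩ : ↥Q) = 1 := Subtype.ext (hyy i)
    rw [this, map_one]
  -- transfer modulo `Z`
  have tr : ∀ (i : Fin 3) (s t : ↥Q), (s : G) ∈ C i → f s = f t → (t : G) ∈ C i := by
    intro i s t hs he
    have := (hf s t).2 he
    have e : (t : G) = s * ((s : G)⁻¹ * t) := by group
    rw [e]
    exact mul_mem hs (hZ i this)
  let Y : Fin 3 → Bool → ↥Q := fun i b => if b then ⟨y i, hy i⟩ else 1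
  have hY : ∀ i b, ((Y i b : ↥Q) : G) = if b then y i else 1 := by
    intro i b
    cases b <;> rfl
  have hYY : ∀ i b c, f (Y i b) * f (Y i c) = f (Y i (b ^^ c)) := by
    intro i b c
    cases b <;> cases c
    · simp [Y]
    · simp [Y]
    · simp [Y]
    · simpa [Y] using hyf i
  have hYi : ∀ i b, (f (Y i b))⁻¹ = f (Y i b) := by
    intro i b
    rw [inv_eq_iff_mul_eq_one, hYY, Bool.xor_self]
    simp [Y]
  have key : ∀ x ∈ Q, x ∈ Q ∧ ∃ e : Fin 3 → Bool, ((e 0 ^^ e 1) ^^ e 2) = false ∧
      ∀ i, x * (if e i then y i else 1) ∈ C i := by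
    intro x hx
    rw [← hX] at hx
    induction hx using Subgroup.closure_induction with
    | mem r hr' => exact ⟨by rw [← hX]; exact Subgroup.subset_closure hr', hr r hr'⟩
    | one => exact ⟨one_mem _, fun _ => false, rfl, fun i => by
        rw [if_neg (by simp), mul_one]; exact one_mem _⟩
    | mul s t _ _ ihs iht =>
      obtain ⟨hs, e, he, h1⟩ := ihs
      obtain ⟨ht, e', he', h2⟩ := iht
      refine ⟨mul_mem hs ht, fun i => e i ^^ e' i, ?_, fun i => ?_⟩
      · have hx6 : ∀ a b c a' b' c' : Bool, ((a ^^ b) ^^ c) = false → ((a' ^^ b') ^^ c') = false →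
            (((a ^^ a') ^^ (b ^^ b')) ^^ (c ^^ c')) = false := by decide
        exact hx6 _ _ _ _ _ _ he he'
      · have h3 : (((⟨s, hs⟩ * Y i (e i)) * (⟨t, ht⟩ * Y i (e' i)) : ↥Q) : G) ∈ C i := by
          simp only [Subgroup.coe_mul, hY]
          exact mul_mem (h1 i) (h2 i)
        have h4 := tr i _ ((⟨s, hs⟩ * ⟨t, ht⟩) * Y i (e i ^^ e' i)) h3 (by
          rw [map_mul, map_mul, map_mul, map_mul, map_mul, mul_mul_mul_comm, hYY])
        simp only [Subgroup.coe_mul, hY] at h4
        exact h4
    | inv s _ ihs =>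
      obtain ⟨hs, e, he, h1⟩ := ihs
      refine ⟨inv_mem hs, e, he, fun i => ?_⟩
      have h3 : ((((⟨s, hs⟩ * Y i (e i)) : ↥Q)⁻¹ : ↥Q) : G) ∈ C i := by
        simp only [Subgroup.coe_mul, Subgroup.coe_inv, hY]
        exact inv_mem (h1 i)
      have h4 := tr i _ (⟨s, hs⟩⁻¹ * Y i (e i)) h3 (by
        rw [map_inv, map_mul, map_mul, map_inv, mul_inv, hYi])
      simp only [Subgroup.coe_mul, Subgroup.coe_inv, hY] at h4
      exact h4
  intro x hx
  obtain ⟨-, e, he, h1⟩ := key x hx
  have : ∃ i, e i = false := by
    by_contra hno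
    push Not at hno
    have h0 := hno 0
    have h1' := hno 1
    have h2 := hno 2
    simp only [ne_eq, Bool.not_eq_false] at h0 h1' h2
    rw [h0, h1', h2] at he
    simp at he
  obtain ⟨i, hi⟩ := this
  refine ⟨i, ?_⟩
  have := h1 i
  rwa [hi, if_neg (by simp), mul_one] at this

/-! ### ordered products -/

/-- every generator normalises the group generated by the later ones -/
inductive Fl (x : ℕ → G) : List ℕ → Prop
  | nil : Fl x []
  | cons {r : ℕ} {t : List ℕ} (ht : Fl x t)
      (h : ∀ s ∈ t, x r * x s * (x r)⁻¹ ∈ Subgroup.closure (x '' {s | s ∈ t})) : Fl x (r :: t)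

theorem Fl.exists_prod {x : ℕ → G} (hx' : ∀ r, (x r)⁻¹ = x r) {l : List ℕ} (h : Fl x l) :
    ∀ g ∈ Subgroup.closure (x '' {s | s ∈ l}), ∃ w : List ℕ, w.Sublist l ∧ g = (w.map x).prod := by
  have hx : ∀ r, x r * x r = 1 := by
    intro r
    have := mul_inv_cancel (x r)
    rwa [hx' r] at this
  induction h with
  | nil =>
    intro g hg
    refine ⟨[], List.Sublist.slnil, ?_⟩
    have : (x '' {s | s ∈ ([] : List ℕ)}) = ∅ := by
      ext; simp
    rw [this, Subgroup.closure_empty, Subgroup.mem_bot] at hg
    rw [hg, List.map_nil, List.prod_nil]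
  | @cons r t ht h1 ih =>
    have hi : (x r)⁻¹ = x r := inv_eq_of_mul_eq_one_right (hx r)
    have hn : ∀ k ∈ Subgroup.closure (x '' {s | s ∈ t}), x r * k * (x r)⁻¹ ∈ Subgroup.closure (x '' {s | s ∈ t}) := by
      intro k hk
      have : Subgroup.closure (x '' {s | s ∈ t}) ≤
          (Subgroup.closure (x '' {s | s ∈ t})).comap (MulAut.conj (x r)).toMonoidHom := by
        rw [Subgroup.closure_le]
        rintro _ ⟨s, hs, rfl⟩
        exact h1 s hs
      exact this hk
    have key : ∀ g ∈ Subgroup.closure (x '' {s | s ∈ r :: t}), ∃ b : Bool,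
        ∃ k ∈ Subgroup.closure (x '' {s | s ∈ t}), g = (if b then x r else 1) * k := by
      intro g hg
      induction hg using Subgroup.closure_induction with
      | mem g hg =>
        obtain ⟨s, hs, rfl⟩ := hg
        rcases List.mem_cons.1 hs with rfl | hs
        · exact ⟨true, 1, one_mem _, by simp⟩
        · exact ⟨false, x s, Subgroup.subset_closure ⟨s, hs, rfl⟩, by simp⟩
      | one => exact ⟨false, 1, one_mem _, by simp⟩
      | mul g g' _ _ ihg ihg' =>
        obtain ⟨b, k, hk, rfl⟩ := ihg
        obtain ⟨b', k', hk', rfl⟩ := ihg'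
        cases b'
        · refine ⟨b, k * k', mul_mem hk hk', ?_⟩
          simp [mul_assoc]
        · refine ⟨!b, x r * k * (x r)⁻¹ * k', mul_mem (hn k hk) hk', ?_⟩
          cases b
          · simp only [Bool.not_false, if_true, Bool.false_eq_true, if_false]
            rw [hi]
            calc 1 * k * (x r * k') = (x r * x r) * k * (x r * k') := by rw [hx]
              _ = _ := by group
          · simp only [Bool.not_true, if_true, Bool.false_eq_true, if_false]
            rw [hi]
            group
      | inv g _ ihg =>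
        obtain ⟨b, k, hk, rfl⟩ := ihg
        cases b
        · exact ⟨false, k⁻¹, inv_mem hk, by simp⟩
        · refine ⟨true, x r * k⁻¹ * (x r)⁻¹, hn _ (inv_mem hk), ?_⟩
          simp only [if_true]
          rw [mul_inv_rev, hi]
          calc k⁻¹ * x r = (x r * x r) * k⁻¹ * x r := by rw [hx, one_mul]
            _ = _ := by group
    intro g hg
    obtain ⟨b, k, hk, rfl⟩ := key g hg
    obtain ⟨w, hw, rfl⟩ := ih k hk
    cases b
    · exact ⟨w, hw.cons _, by simp⟩
    · exact ⟨r :: w, hw.cons_cons _, by simp⟩

end Cfsg.Agent.H335.FT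
end

-- part: H335/FT/Elt
section
/-!
# S2465, `F₄(2)`: words in the root elements and their packed matrices (helper335)
-/

set_option autoImplicit false

namespace Cfsg.Agent.H335.FT

open scoped commutatorElement
open Cfsg.Agent.ChevalleyStructure.Tits.Pack Cfsg.Agent.ChevalleyStructure.Tits.Table Cfsg.Lie
  Cfsg.Agent.ChevalleyStructure Cfsg.Agent.ChevalleyStructure.Elts

/-- the group `F₄(2)` -/
abbrev GF : Type := ↥(chevF4.group (ZMod 2))

/-- coordinates -/
abbrev I52 : Type := Fin 4 ⊕ Fin 48

theorem hD : InList chevF4 := by simp [InList]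

theorem x_eq_of_chk (r : ℕ) (hr : r < 48) (h : chkX r = true) : chevF4.x (ZMod 2) r 1 = toMat (XP r) := by
  have h1 : chevF4.x (ZMod 2) r 1 = chevF4.xMat (ZMod 2) (⟨r, hr⟩ : Fin 48) 1 := by
    unfold ChevalleyDatum.x
    exact dif_pos hr
  rw [h1]
  apply Matrix.ext
  intro row col
  refine (xMat_one ⟨r, hr⟩ row col).trans ?_
  refine Eq.trans ?_ (toMat_apply (XP r) row col).symm
  rw [cast_eq_bz]
  unfold chkX at h
  rw [List.all_eq_true] at h
  have h2 := h (ix col) (List.mem_range.mpr (ix_lt col))
  rw [List.all_eq_true] at h2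
  have h3 := h2 (ix row) (List.mem_range.mpr (ix_lt row))
  rw [beq_iff_eq] at h3
  rw [h3]

/-- the root element `x_r(1)` (for the letters in use) -/
noncomputable def gx (r : ℕ) : GF := if r ∈ used then ⟨xG hD r 1, xG_mem_group hD r 1⟩ else 1

/-- the matrix -/
noncomputable def MM : GF →* Matrix I52 I52 (ZMod 2) :=
  (Units.coeHom (Matrix I52 I52 (ZMod 2))).comp (chevF4.group (ZMod 2)).subtype

theorem MM_injective : Function.Injective MM := by
  intro a b h
  apply Subtype.ext
  exact Units.ext h

theorem used_lt {r : ℕ} (hr : r ∈ used) : r < 48 := by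
  revert r
  decide

theorem MM_gx (r : ℕ) : MM (gx r) = toMat (XP r) := by
  unfold gx
  split_ifs with h
  · have h1 := chkX_used
    rw [List.all_eq_true] at h1
    exact x_eq_of_chk r (used_lt h) (h1 r h)
  · rw [map_one]
    by_cases hr : r < 48
    · have h1 := XP_unused
      rw [List.all_eq_true] at h1
      have h2 := h1 r (List.mem_range.2 hr)
      rw [Bool.or_eq_true] at h2
      rcases h2 with h2 | h2
      · rw [List.contains_iff_mem] at h2
        exact absurd h2 h
      · rw [Nat.eq_of_beq_eq_true h2, toMat_oneP]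
    · have : XP r = oneP := by
        unfold XP
        rw [List.getD_eq_default]
        have : XL.length = 48 := by decide +kernel
        omega
      rw [this, toMat_oneP]

theorem gx_mul_self (r : ℕ) : gx r * gx r = 1 := by
  unfold gx
  split_ifs with h
  · apply Subtype.ext
    change xG hD r 1 * xG hD r 1 = 1
    rw [xG_add]
    have : (1 + 1 : ZMod 2) = 0 := by decide
    rw [this, xG_zero]
  · rw [mul_one]

theorem gx_inv (r : ℕ) : (gx r)⁻¹ = gx r := inv_eq_of_mul_eq_one_right (gx_mul_self r)

/-- a word -/
noncomputable def wd (w : List ℕ) : GF := (w.map gx).prod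

theorem wd_nil : wd [] = 1 := rfl

theorem wd_cons (r : ℕ) (w : List ℕ) : wd (r :: w) = gx r * wd w := by
  unfold wd; rw [List.map_cons, List.prod_cons]

theorem wd_append (w w' : List ℕ) : wd (w ++ w') = wd w * wd w' := by
  unfold wd; rw [List.map_append, List.prod_append]

theorem wd_reverse (w : List ℕ) : wd w.reverse = (wd w)⁻¹ := by
  induction w with
  | nil => rw [List.reverse_nil, wd_nil, inv_one]
  | cons r w ih => rw [List.reverse_cons, wd_append, ih, wd_cons, wd_cons, wd_nil, mul_one, mul_inv_rev, gx_inv]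

/-- the nonzero columns of a packed matrix -/
private def cols (N n : ℕ) : List (ℕ × ℕ) :=
  Nat.rec [] (fun k acc => Bool.rec ((k, Nat.mod (Nat.shiftRight N (Nat.mul 52 k)) 4503599627370496) :: acc) acc
    (Nat.beq (Nat.mod (Nat.shiftRight N (Nat.mul 52 k)) 4503599627370496) 0)) n

private def mulS (l : List (ℕ × ℕ)) (H : ℕ) : ℕ :=
  List.rec 0 (fun e _ acc => Nat.xor acc (Nat.mul e.2 (Nat.land (Nat.shiftRight H e.1) MASK))) l

private theorem mulS_cols (N H n : ℕ) : mulS (cols N n) H = mulAux N H n := by
  induction n with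
  | zero => rfl
  | succ k ih =>
    change mulS (Bool.rec ((k, Nat.mod (Nat.shiftRight N (Nat.mul 52 k)) 4503599627370496) :: cols N k) (cols N k)
      (Nat.beq (Nat.mod (Nat.shiftRight N (Nat.mul 52 k)) 4503599627370496) 0)) H =
      Nat.xor (mulAux N H k) (Nat.mul (Nat.mod (Nat.shiftRight N (Nat.mul 52 k)) 4503599627370496) (Nat.land (Nat.shiftRight H k) MASK))
    generalize Nat.mod (Nat.shiftRight N (Nat.mul 52 k)) 4503599627370496 = c
    rw [← ih]
    cases c with
    | zero => exact ((congrArg (Nat.xor _) (Nat.zero_mul _)).trans (Nat.xor_zero _)).symm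
    | succ c => rfl

private def spL : List (List (ℕ × ℕ)) := XL.map fun X => cols (Nat.xor X oneP) 52

private def spX (r : ℕ) : List (ℕ × ℕ) := spL.getD r (cols (Nat.xor oneP oneP) 52)

private theorem toMat_xor (a b : ℕ) : toMat (Nat.xor a b) = toMat a + toMat b := by
  ext i j
  rw [Matrix.add_apply, toMat_apply, toMat_apply, toMat_apply, ← bz_xor, ← Nat.testBit_xor]
  rfl

private theorem toMat_spX (r v : ℕ) : toMat (Nat.xor v (mulS (spX r) v)) = toMat (XP r) * toMat v := by
  have h1 : spX r = cols (Nat.xor (XP r) oneP) 52 := List.getD_map XL oneP (fun X => cols (Nat.xor X oneP) 52)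
  have h2 : toMat v + toMat v = 0 := by
    rw [← toMat_xor]
    ext i j
    rw [toMat_apply, show Nat.xor v v = 0 from Nat.xor_self v, Nat.zero_testBit]
    rfl
  rw [h1, mulS_cols, toMat_xor, show mulAux (Nat.xor (XP r) oneP) v 52 = mulP (Nat.xor (XP r) oneP) v from rfl, toMat_mulP, toMat_xor,
    toMat_oneP, add_mul, one_mul, add_comm (toMat (XP r) * toMat v), ← add_assoc, h2, zero_add]

/-- evaluation on a packed matrix -/
def evOn (w : List ℕ) (v : ℕ) : ℕ := List.rec v (fun r _ acc => Nat.xor acc (mulS (spX r) acc)) w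

/-- `A` is the packed matrix of `g` -/
def Rp (A : ℕ) (g : GF) : Prop := toMat A = MM g

theorem Rp.inj {A : ℕ} {g g' : GF} (h : Rp A g) (h' : Rp A g') : g = g' := MM_injective (h.symm.trans h')

theorem Rp.one : Rp oneP 1 := by
  unfold Rp
  rw [toMat_oneP, map_one]

theorem Rp.mul {A B : ℕ} {a b : GF} (ha : Rp A a) (hb : Rp B b) : Rp (mulP A B) (a * b) := by
  unfold Rp at *
  rw [toMat_mulP, ha, hb, map_mul]

theorem Rp.gx (r : ℕ) : Rp (XP r) (gx r) := (MM_gx r).symm

theorem Rp.evOn {v : ℕ} {g : GF} (h : Rp v g) (w : List ℕ) : Rp (evOn w v) (wd w * g) := by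
  induction w with
  | nil => rw [wd_nil, one_mul]; exact h
  | cons r w ih =>
    rw [wd_cons, mul_assoc]
    have h1 := (Rp.gx r).mul ih
    unfold Rp at h1 ⊢
    rw [← h1, toMat_mulP]
    exact toMat_spX r _

theorem Rp.word (w : List ℕ) : Rp (FT.evOn w oneP) (wd w) := by
  have := Rp.one.evOn w
  rwa [mul_one] at this

/-- equality of words -/
def eqW (w w' : List ℕ) : Bool := Nat.beq (evOn w oneP) (evOn w' oneP)

theorem wd_eq {w w' : List ℕ} (h : eqW w w' = true) : wd w = wd w' := by
  have h1 := Rp.word w
  rw [Nat.eq_of_beq_eq_true h] at h1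
  exact h1.inj (Rp.word w')

/-- membership -/
def me (r : ℕ) (l : List ℕ) : Bool := l.any fun s => Nat.beq s r

theorem mem_of_me {r : ℕ} {l : List ℕ} (h : me r l = true) : r ∈ l := by
  unfold me at h
  rw [List.any_eq_true] at h
  obtain ⟨s, hs, e⟩ := h
  rw [← Nat.eq_of_beq_eq_true e]; exact hs

theorem me_of_mem {r : ℕ} {l : List ℕ} (h : r ∈ l) : me r l = true := by
  unfold me
  rw [List.any_eq_true]
  exact ⟨r, h, Nat.beq_refl r⟩

/-- inclusion -/
def su (w l : List ℕ) : Bool := w.all fun r => me r l

theorem sub_of_su {w l : List ℕ} (h : su w l = true) : ∀ r ∈ w, r ∈ l := by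
  intro r hr
  unfold su at h
  rw [List.all_eq_true] at h
  exact mem_of_me (h r hr)

/-- the group generated by the letters of a list -/
noncomputable def Cl (l : List ℕ) : Subgroup GF := Subgroup.closure (gx '' {r | r ∈ l})

theorem gx_mem_Cl {l : List ℕ} {r : ℕ} (h : r ∈ l) : gx r ∈ Cl l := Subgroup.subset_closure ⟨r, h, rfl⟩

theorem wd_mem_Cl {l w : List ℕ} (h : ∀ r ∈ w, r ∈ l) : wd w ∈ Cl l := by
  induction w with
  | nil => rw [wd_nil]; exact one_mem _
  | cons r w ih =>
    rw [wd_cons]
    exact mul_mem (gx_mem_Cl (h r List.mem_cons_self)) (ih fun s hs => h s (List.mem_cons_of_mem _ hs))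

theorem Cl_mono {l l' : List ℕ} (h : ∀ r ∈ l, r ∈ l') : Cl l ≤ Cl l' :=
  Subgroup.closure_mono (Set.image_mono fun _ hr => h _ hr)

/-! ### the parabolic subgroup -/

/-- the letters normalise -/
def chkN (Nl Ql Zl : List ℕ) (E : List (ℕ × ℕ × List ℕ)) : Bool :=
  Nl.all fun a => Ql.all fun r => E.any fun e => Nat.beq e.1 a && (Nat.beq e.2.1 r &&
    (su e.2.2 Ql && ((!(me r Zl) || su e.2.2 Zl) && eqW [a, r, a] e.2.2)))

/-- `Z` is central in `Q` -/
def chkC (Ql Zl : List ℕ) : Bool := Zl.all fun z => Ql.all fun r => eqW [z, r] [r, z]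

/-- commutators in `Q` -/
def chkQ (Ql Zl : List ℕ) (t : ℕ) : Bool :=
  me t Zl && Ql.all fun r => Ql.all fun s => eqW [r, s] [s, r] || eqW [r, s] [t, s, r]

theorem qz {Ql Zl : List ℕ} (hsub : su Zl Ql = true) (h1 : chkC Ql Zl = true) {t : ℕ} (h2 : chkQ Ql Zl t = true) :
    QZ (Cl Ql) (Cl Zl) := by
  refine QZ.of_gen rfl rfl (Cl_mono (sub_of_su hsub)) ?_ ?_
  · rintro _ ⟨z, hz, rfl⟩ _ ⟨r, hr, rfl⟩
    unfold chkC at h1
    rw [List.all_eq_true] at h1
    have h3 := h1 z hz
    rw [List.all_eq_true] at h3
    have h4 := wd_eq (h3 r hr)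
    simpa only [wd_cons, wd_nil, mul_one] using h4
  · rintro _ ⟨r, hr, rfl⟩ _ ⟨s, hs, rfl⟩
    unfold chkQ at h2
    rw [Bool.and_eq_true, List.all_eq_true] at h2
    have h3 := h2.2 r hr
    rw [List.all_eq_true] at h3
    have h4 := h3 s hs
    rw [Bool.or_eq_true] at h4
    rcases h4 with h4 | h4
    · have h5 := wd_eq h4
      simp only [wd_cons, wd_nil, mul_one] at h5
      exact ⟨1, one_mem _, by rw [one_mul]; exact h5⟩
    · have h5 := wd_eq h4
      simp only [wd_cons, wd_nil, mul_one] at h5
      exact ⟨gx t, gx_mem_Cl (mem_of_me h2.1), h5⟩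

theorem nz {Nl Ql Zl : List ℕ} {E : List (ℕ × ℕ × List ℕ)} (h : chkN Nl Ql Zl E = true) (hsub : su Zl Ql = true)
    {a : ℕ} (ha : a ∈ Nl) : Nz (Cl Ql) (Cl Zl) (gx a) := by
  unfold chkN at h
  rw [List.all_eq_true] at h
  have h1 := h a ha
  rw [List.all_eq_true] at h1
  have key : ∀ r ∈ Ql, ∃ w : List ℕ, (∀ s ∈ w, s ∈ Ql) ∧ (r ∈ Zl → ∀ s ∈ w, s ∈ Zl) ∧
      gx a * gx r * (gx a)⁻¹ = wd w := by
    intro r hr
    have h2 := h1 r hr
    rw [List.any_eq_true] at h2
    obtain ⟨e, -, h3⟩ := h2
    simp only [Bool.and_eq_true, Bool.or_eq_true] at h3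
    obtain ⟨-, -, h4, h5, h6⟩ := h3
    refine ⟨e.2.2, sub_of_su h4, fun hz => ?_, ?_⟩
    · rcases h5 with h5 | h5
      · rw [me_of_mem hz] at h5
        exact absurd h5 (by simp)
      · exact sub_of_su h5
    · have h7 := wd_eq h6
      simp only [wd_cons, wd_nil, mul_one] at h7
      rw [gx_inv, mul_assoc]
      exact h7
  refine Nz.of_gen (gx_mul_self a) rfl rfl ?_ ?_
  · rintro _ ⟨r, hr, rfl⟩
    obtain ⟨w, hw, -, e⟩ := key r hr
    rw [e]
    exact wd_mem_Cl hw
  · rintro _ ⟨r, hr, rfl⟩
    obtain ⟨w, -, hw, e⟩ := key r (sub_of_su hsub r hr)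
    rw [e]
    exact wd_mem_Cl (hw hr)

theorem nz_wd {Nl Ql Zl : List ℕ} (h : ∀ a ∈ Nl, Nz (Cl Ql) (Cl Zl) (gx a)) {w : List ℕ} (hw : ∀ r ∈ w, r ∈ Nl) :
    Nz (Cl Ql) (Cl Zl) (wd w) := by
  refine Nz.prod fun a ha => ?_
  rw [List.mem_map] at ha
  obtain ⟨r, hr, rfl⟩ := ha
  exact h r (hw r hr)

/-- the flag of a list -/
def chkFl (E : List (ℕ × ℕ × List ℕ)) : List ℕ → Bool
  | [] => true
  | r :: t => (t.all fun s => E.any fun e => Nat.beq e.1 r && (Nat.beq e.2.1 s && (su e.2.2 t && eqW [r, s, r] e.2.2)))
      && chkFl E t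

theorem fl_of_chk {E : List (ℕ × ℕ × List ℕ)} {l : List ℕ} (h : chkFl E l = true) : Fl gx l := by
  induction l with
  | nil => exact Fl.nil
  | cons r t ih =>
    unfold chkFl at h
    rw [Bool.and_eq_true, List.all_eq_true] at h
    refine Fl.cons (ih h.2) fun s hs => ?_
    have h2 := h.1 s hs
    rw [List.any_eq_true] at h2
    obtain ⟨e, -, h3⟩ := h2
    simp only [Bool.and_eq_true] at h3
    obtain ⟨-, -, h4, h6⟩ := h3
    have h7 := wd_eq h6
    simp only [wd_cons, wd_nil, mul_one] at h7
    rw [gx_inv, mul_assoc, h7]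
    exact wd_mem_Cl (sub_of_su h4)

/-! ### pairs -/

/-- the data of a pair -/
structure PD where
  /-- the word of the first factor -/
  c : List ℕ
  /-- the roots outside the hyperplane -/
  f : List ℕ
  /-- the reference root -/
  i0 : ℕ
  k1 : ℕ
  k2 : ℕ
  A : ℕ
  Ai : ℕ
  B : ℕ
  Bi : ℕ
  zc : List (ℕ × List ℕ × List ℕ)
  vc : List (ℕ × List ℕ × List ℕ × List ℕ)

/-- the identity `wd l = ⁅wd p, a⁆ * ⁅wd q, b⁆` -/
def chkI (D : PD) (l p q : List ℕ) : Bool :=
  Nat.beq (evOn l oneP) (evOn p (mulP D.A (evOn p.reverse (mulP D.Ai (evOn q (mulP D.B (evOn q.reverse D.Bi)))))))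

/-- `A ^ k = 1` -/
def powP (A : ℕ) (k : ℕ) : ℕ := Nat.rec (motive := fun _ => ℕ) oneP (fun _ acc => mulP A acc) k

theorem Rp.powP {A : ℕ} {a : GF} (h : Rp A a) (k : ℕ) : Rp (FT.powP A k) (a ^ k) := by
  induction k with
  | zero => rw [pow_zero]; exact Rp.one
  | succ k ih =>
    rw [pow_succ']
    exact h.mul ih

def PD.chkA (u : List ℕ) (D : PD) : Bool :=
  Nat.beq (evOn D.c oneP) D.A && (Nat.beq (evOn D.c.reverse oneP) D.Ai && (Nat.beq (evOn (D.c.reverse ++ u) oneP) D.B &&
    (Nat.beq (evOn (u.reverse ++ D.c) oneP) D.Bi && (Nat.beq (powP D.A D.k1) oneP && (Nat.beq (powP D.B D.k2) oneP &&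
      ((Nat.beq D.k1 5 || Nat.beq D.k1 7) && (Nat.beq D.k2 5 || Nat.beq D.k2 7)))))))

def PD.chkZ (Zl : List ℕ) (D : PD) : Bool :=
  Zl.all fun r => D.zc.any fun e => Nat.beq e.1 r && (su e.2.1 Zl && (su e.2.2 Zl && chkI D [r] e.2.1 e.2.2))

def PD.chkV (Zl Ql : List ℕ) (D : PD) : Bool :=
  me D.i0 Ql && Ql.all fun r => me r Zl || D.vc.any fun e => Nat.beq e.1 r && (su e.2.1 Zl && (su e.2.2.1 Ql &&
    (su e.2.2.2 Ql && chkI D (r :: ((bif me r D.f then [D.i0] else []) ++ e.2.1)) e.2.2.1 e.2.2.2)))

section

variable {Nl Ql Zl : List ℕ} (h : QZ (Cl Ql) (Cl Zl)) (hN : ∀ a ∈ Nl, Nz (Cl Ql) (Cl Zl) (gx a)) {u : List ℕ} {D : PD}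

theorem cop {k : ℕ} (hk : (Nat.beq k 5 || Nat.beq k 7) = true) {g : GF} (hg : g ^ k = 1) : (orderOf g).Coprime 6 := by
  have h1 := orderOf_dvd_of_pow_eq_one hg
  rw [Bool.or_eq_true] at hk
  rcases hk with hk | hk
  · rw [Nat.eq_of_beq_eq_true hk] at h1
    exact Nat.Coprime.of_dvd_left h1 (by norm_num)
  · rw [Nat.eq_of_beq_eq_true hk] at h1
    exact Nat.Coprime.of_dvd_left h1 (by norm_num)

/-- the first factor -/
noncomputable def PD.a (D : PD) : GF := wd D.c

/-- the second factor -/
noncomputable def PD.b (D : PD) (u : List ℕ) : GF := wd (D.c.reverse ++ u)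

theorem PD.ab (D : PD) (u : List ℕ) : D.a * D.b u = wd u := by
  unfold PD.a PD.b
  rw [wd_append, wd_reverse, mul_inv_cancel_left]

theorem PD.reps (hA : D.chkA u = true) : Rp D.A D.a ∧ Rp D.Ai D.a⁻¹ ∧ Rp D.B (D.b u) ∧ Rp D.Bi (D.b u)⁻¹ ∧
    (orderOf D.a).Coprime 6 ∧ (orderOf (D.b u)).Coprime 6 := by
  unfold PD.chkA at hA
  simp only [Bool.and_eq_true] at hA
  obtain ⟨h1, h2, h3, h4, h5, h6, h7, h8⟩ := hA
  have r1 : Rp D.A D.a := by
    rw [← Nat.eq_of_beq_eq_true h1]; exact Rp.word _
  have r2 : Rp D.Ai D.a⁻¹ := by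
    rw [← Nat.eq_of_beq_eq_true h2, PD.a, ← wd_reverse]; exact Rp.word _
  have r3 : Rp D.B (D.b u) := by
    rw [← Nat.eq_of_beq_eq_true h3]; exact Rp.word _
  have r4 : Rp D.Bi (D.b u)⁻¹ := by
    rw [← Nat.eq_of_beq_eq_true h4, PD.b, ← wd_reverse, List.reverse_append, List.reverse_reverse]
    exact Rp.word _
  refine ⟨r1, r2, r3, r4, cop h7 ?_, cop h8 ?_⟩
  · have := r1.powP D.k1
    rw [Nat.eq_of_beq_eq_true h5] at this
    exact this.inj Rp.one
  · have := r3.powP D.k2
    rw [Nat.eq_of_beq_eq_true h6] at this
    exact this.inj Rp.one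

theorem PD.id (hA : D.chkA u = true) {l p q : List ℕ} (hI : chkI D l p q = true) :
    wd l = ⁅wd p, D.a⁆ * ⁅wd q, D.b u⁆ := by
  obtain ⟨r1, r2, r3, r4, -, -⟩ := PD.reps hA
  have h1 := Rp.word l
  rw [Nat.eq_of_beq_eq_true hI] at h1
  have h2 := (r1.mul ((r2.mul ((r3.mul (r4.evOn q.reverse)).evOn q)).evOn p.reverse)).evOn p
  rw [h1.inj h2, wd_reverse, wd_reverse, commutatorElement_def, commutatorElement_def]
  group

include h in
/-- **The soundness of a pair.** -/
theorem PD.sound (ha : Nz (Cl Ql) (Cl Zl) D.a) (hb : Nz (Cl Ql) (Cl Zl) (D.b u)) (hA : D.chkA u = true)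
    (hZ : D.chkZ Zl = true) {x : GF} (hx : x ∈ cov h ha hb) : Cfsg.Agent.H78.Pw.Pr 6 (wd u * x) := by
  obtain ⟨-, -, -, -, oa, ob⟩ := PD.reps hA
  rw [← D.ab u]
  refine pr_of_mem h ha hb (cover_Z h ha hb rfl ?_) oa ob hx
  rintro _ ⟨r, hr, rfl⟩
  unfold PD.chkZ at hZ
  rw [List.all_eq_true] at hZ
  have h1 := hZ r hr
  rw [List.any_eq_true] at h1
  obtain ⟨e, -, h3⟩ := h1
  simp only [Bool.and_eq_true] at h3
  obtain ⟨-, h4, h5, h6⟩ := h3
  refine ⟨wd e.2.1, wd_mem_Cl (sub_of_su h4), wd e.2.2, wd_mem_Cl (sub_of_su h5), ?_⟩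
  have := PD.id hA h6
  rwa [wd_cons, wd_nil, mul_one] at this

theorem PD.vcov (ha : Nz (Cl Ql) (Cl Zl) D.a) (hb : Nz (Cl Ql) (Cl Zl) (D.b u)) (hA : D.chkA u = true)
    (hV : D.chkV Zl Ql = true) {r : ℕ} (hr : r ∈ Ql) (hz : r ∉ Zl) :
    gx r * (if me r D.f then gx D.i0 else 1) ∈ cov h ha hb := by
  unfold PD.chkV at hV
  rw [Bool.and_eq_true, List.all_eq_true] at hV
  have h1 := hV.2 r hr
  rw [Bool.or_eq_true] at h1
  rcases h1 with h1 | h1
  · exact absurd (mem_of_me h1) hz
  rw [List.any_eq_true] at h1
  obtain ⟨e, -, h3⟩ := h1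
  simp only [Bool.and_eq_true] at h3
  obtain ⟨-, h4, h5, h6, h7⟩ := h3
  have h8 := PD.id hA h7
  have hi : gx D.i0 ∈ Cl Ql := gx_mem_Cl (mem_of_me hV.1)
  rw [wd_cons, wd_append, ← mul_assoc] at h8
  have e1 : (if me r D.f then gx D.i0 else 1) = wd (bif me r D.f then [D.i0] else []) := by
    cases me r D.f
    · simp [wd_nil]
    · simp [wd_cons, wd_nil]
  rw [e1]
  refine mem_cov_of h ha hb (mul_mem (gx_mem_Cl hr) ?_) (wd_mem_Cl (sub_of_su h5)) (wd_mem_Cl (sub_of_su h6))
    (wd_mem_Cl (sub_of_su h4)) h8
  rw [← e1]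
  split_ifs
  · exact hi
  · exact one_mem _

end

end Cfsg.Agent.H335.FT
end

-- part: H335/FT/Par
section
/-!
# S2465, `F₄(2)`: one parabolic subgroup (helper335)

`par` : if the certificates hold, every `g * x`, `1 ≠ g ∈ U_J`, `x ∈ V_J`, is a product of two elements of order prime
to 6.
-/

set_option autoImplicit false

namespace Cfsg.Agent.H335.FT

open Cfsg.Agent.H78.Pw

/-- every element of the coset `u V_J` -/
def Good (Ql : List ℕ) (u : GF) : Prop := ∀ x ∈ Cl Ql, Pr 6 (u * x)

/-- one representative -/
def chkRep (Nl Ql Zl u : List ℕ) : List PD → Bool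
  | [D] => su D.c Nl && (D.chkA u && (D.chkZ Zl && (D.chkV Zl Ql && D.f.isEmpty)))
  | [D1, D2, D3] => (su D1.c Nl && (D1.chkA u && (D1.chkZ Zl && D1.chkV Zl Ql))) &&
      ((su D2.c Nl && (D2.chkA u && (D2.chkZ Zl && D2.chkV Zl Ql))) &&
      ((su D3.c Nl && (D3.chkA u && (D3.chkZ Zl && D3.chkV Zl Ql))) &&
      Ql.all fun r => !((me r D1.f ^^ me r D2.f) ^^ me r D3.f)))
  | _ => false

section

variable {Nl Ql Zl : List ℕ} (h : QZ (Cl Ql) (Cl Zl)) (hN : ∀ a ∈ Nl, Nz (Cl Ql) (Cl Zl) (gx a))

include h hN

theorem nz_pair {u : List ℕ} (hu : ∀ r ∈ u, r ∈ Nl) {D : PD} (hc : su D.c Nl = true) :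
    Nz (Cl Ql) (Cl Zl) D.a ∧ Nz (Cl Ql) (Cl Zl) (D.b u) := by
  refine ⟨nz_wd hN (sub_of_su hc), nz_wd hN fun r hr => ?_⟩
  rw [List.mem_append, List.mem_reverse] at hr
  rcases hr with hr | hr
  · exact sub_of_su hc r hr
  · exact hu r hr

theorem good_full {u : List ℕ} (hu : ∀ r ∈ u, r ∈ Nl) {D : PD} (hc : su D.c Nl = true) (hA : D.chkA u = true)
    (hZ : D.chkZ Zl = true) (hV : D.chkV Zl Ql = true) (hf : D.f.isEmpty = true) : Good Ql (wd u) := by
  intro x hx
  obtain ⟨ha, hb⟩ := nz_pair h hN hu hc
  refine PD.sound h ha hb hA hZ ?_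
  have : Cl Ql ≤ cov h ha hb := by
    change Subgroup.closure _ ≤ _
    rw [Subgroup.closure_le]
    rintro _ ⟨r, hr, rfl⟩
    by_cases hz : r ∈ Zl
    · exact Z_le_cov h ha hb (gx_mem_Cl hz)
    · have h1 := PD.vcov h ha hb hA hV hr hz
      have h2 : me r D.f = false := by
        rw [List.isEmpty_iff.1 hf]; rfl
      rwa [h2, if_neg (by simp), mul_one] at h1
  exact this hx

theorem good_triple {u : List ℕ} (hu : ∀ r ∈ u, r ∈ Nl) {D : Fin 3 → PD} (hc : ∀ i, su (D i).c Nl = true)
    (hA : ∀ i, (D i).chkA u = true) (hZ : ∀ i, (D i).chkZ Zl = true) (hV : ∀ i, (D i).chkV Zl Ql = true)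
    (hf : ∀ r ∈ Ql, ((me r (D 0).f ^^ me r (D 1).f) ^^ me r (D 2).f) = false) : Good Ql (wd u) := by
  intro x hx
  have hab := fun i => nz_pair h hN hu (hc i)
  have hi0 : ∀ i, gx (D i).i0 ∈ Cl Ql := by
    intro i
    have := hV i
    unfold PD.chkV at this
    rw [Bool.and_eq_true] at this
    exact gx_mem_Cl (mem_of_me this.1)
  obtain ⟨i, hi⟩ := triple h (X := gx '' {r | r ∈ Ql}) rfl (C := fun i => cov h (hab i).1 (hab i).2)
    (y := fun i => gx (D i).i0) hi0 (fun i => gx_mul_self _) (fun i => Z_le_cov h _ _) (by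
      rintro _ ⟨r, hr, rfl⟩
      by_cases hz : r ∈ Zl
      · refine ⟨fun _ => false, rfl, fun i => ?_⟩
        simp only [Bool.false_eq_true, if_false, mul_one]
        exact Z_le_cov h _ _ (gx_mem_Cl hz)
      · exact ⟨fun i => me r (D i).f, hf r hr, fun i => PD.vcov h (hab i).1 (hab i).2 (hA i) (hV i) hr hz⟩) x hx
  exact PD.sound h (hab i).1 (hab i).2 (hA i) (hZ i) hi

theorem good_of_chk {u : List ℕ} (hu : ∀ r ∈ u, r ∈ Nl) {Ds : List PD} (hc : chkRep Nl Ql Zl u Ds = true) :
    Good Ql (wd u) := by
  match Ds with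
  | [] => simp [chkRep] at hc
  | [D] =>
    simp only [chkRep, Bool.and_eq_true] at hc
    obtain ⟨h1, h2, h3, h4, h5⟩ := hc
    exact good_full h hN hu h1 h2 h3 h4 h5
  | [_, _] => simp [chkRep] at hc
  | [D1, D2, D3] =>
    simp only [chkRep, Bool.and_eq_true] at hc
    obtain ⟨⟨a1, a2, a3, a4⟩, ⟨b1, b2, b3, b4⟩, ⟨c1, c2, c3, c4⟩, hx⟩ := hc
    rw [List.all_eq_true] at hx
    refine good_triple h hN hu (D := ![D1, D2, D3]) ?_ ?_ ?_ ?_ ?_
    · intro i; fin_cases i <;> assumption
    · intro i; fin_cases i <;> assumption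
    · intro i; fin_cases i <;> assumption
    · intro i; fin_cases i <;> assumption
    · intro r hr
      have := hx r hr
      rw [Bool.not_eq_true'] at this
      exact this
  | _ :: _ :: _ :: _ :: _ => simp [chkRep] at hc

theorem Good.conj {u u' : GF} (hu : Good Ql u') {a : ℕ} (ha : a ∈ Nl) (e : gx a * u = u' * gx a) : Good Ql u := by
  intro x hx
  refine Pr.of_conj (x := gx a) ?_
  have h1 := hu (gx a * x * (gx a)⁻¹) ((hN a ha).q x hx)
  have e2 : gx a * (u * x) * (gx a)⁻¹ = u' * (gx a * x * (gx a)⁻¹) := by
    calc gx a * (u * x) * (gx a)⁻¹ = (gx a * u) * x * (gx a)⁻¹ := by group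
      _ = u' * (gx a * x * (gx a)⁻¹) := by rw [e]; group
  rw [e2]
  exact h1

end

/-! ### the words with a given mask -/

/-- the word with the mask `m` -/
def mw : List ℕ → ℕ → List ℕ
  | [], _ => []
  | r :: t, m => bif Nat.beq (m % 2) 1 then r :: mw t (m / 2) else mw t (m / 2)

theorem mw_zero (l : List ℕ) : mw l 0 = [] := by
  induction l with
  | nil => rfl
  | cons r t ih =>
    change (bif Nat.beq (0 % 2) 1 then r :: mw t (0 / 2) else mw t (0 / 2)) = []
    rw [show (Nat.beq (0 % 2) 1) = false from rfl, cond_false, Nat.zero_div, ih]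

theorem exists_mw {l w : List ℕ} (h : w.Sublist l) : ∃ m < 2 ^ l.length, mw l m = w := by
  induction h with
  | slnil => exact ⟨0, by simp, rfl⟩
  | @cons w l r _ ih =>
    obtain ⟨m, hm, e⟩ := ih
    refine ⟨2 * m, ?_, ?_⟩
    · rw [List.length_cons, pow_succ]; omega
    · have h1 : 2 * m % 2 = 0 := by omega
      have h2 : 2 * m / 2 = m := by omega
      change (bif Nat.beq (2 * m % 2) 1 then _ else _) = _
      rw [h1, h2]
      exact e
  | @cons_cons w l r _ ih =>
    obtain ⟨m, hm, e⟩ := ih
    refine ⟨2 * m + 1, ?_, ?_⟩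
    · rw [List.length_cons, pow_succ]; omega
    · have h1 : (2 * m + 1) % 2 = 1 := by omega
      have h2 : (2 * m + 1) / 2 = m := by omega
      change (bif Nat.beq ((2 * m + 1) % 2) 1 then _ else _) = _
      rw [h1, h2, ← e]
      rfl

theorem mem_mw {l : List ℕ} {m : ℕ} : ∀ r ∈ mw l m, r ∈ l := by
  induction l generalizing m with
  | nil => intro r hr; exact hr
  | cons s t ih =>
    intro r hr
    change r ∈ (bif Nat.beq (m % 2) 1 then s :: mw t (m / 2) else mw t (m / 2)) at hr
    cases hb : Nat.beq (m % 2) 1
    · rw [hb, cond_false] at hr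
      exact List.mem_cons_of_mem _ (ih r hr)
    · rw [hb, cond_true] at hr
      rcases List.mem_cons.1 hr with rfl | hr
      · exact List.mem_cons_self
      · exact List.mem_cons_of_mem _ (ih r hr)

/-- an entry of the table: letter, parent, depth -/
def ent (PT m : ℕ) : ℕ := (PT >>> (20 * m)) % 1048576

def letr (PT m : ℕ) : ℕ := ent PT m % 64
def prt (PT m : ℕ) : ℕ := (ent PT m / 64) % 512
def dep (PT m : ℕ) : ℕ := ent PT m / 32768

/-- the check of the entry of `m` -/
def chkE (Pl Nl reps : List ℕ) (PT m : ℕ) : Bool :=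
  Nat.beq m 0 || (me m reps || (Nat.blt (dep PT (prt PT m)) (dep PT m) && (Nat.blt 0 (prt PT m) &&
    (me (letr PT m) Nl && eqW (letr PT m :: mw Pl m) (mw Pl (prt PT m) ++ [letr PT m])))))

theorem good_all {Nl Ql Zl Pl reps : List ℕ} {PT : ℕ} (h : QZ (Cl Ql) (Cl Zl))
    (hN : ∀ a ∈ Nl, Nz (Cl Ql) (Cl Zl) (gx a))
    (hr : ∀ m ∈ reps, Good Ql (wd (mw Pl m))) (hE : (List.range 512).all (chkE Pl Nl reps PT) = true) :
    ∀ m < 512, m ≠ 0 → Good Ql (wd (mw Pl m)) := by
  have key : ∀ d m, dep PT m ≤ d → m < 512 → m ≠ 0 → Good Ql (wd (mw Pl m)) := by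
    intro d
    induction d using Nat.strong_induction_on with
    | _ d ih =>
      intro m hd hm hm0
      rw [List.all_eq_true] at hE
      have h1 := hE m (List.mem_range.2 hm)
      unfold chkE at h1
      simp only [Bool.or_eq_true, Bool.and_eq_true, Nat.blt_eq] at h1
      rcases h1 with h1 | h1 | ⟨h1, h2, h3, h4⟩
      · exact absurd (Nat.eq_of_beq_eq_true h1) hm0
      · exact hr m (mem_of_me h1)
      · have h5 : prt PT m < 512 := Nat.mod_lt _ (by norm_num)
        have h6 := ih (dep PT (prt PT m)) (Nat.lt_of_lt_of_le h1 hd) (prt PT m) (Nat.le_refl _) h5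
          (Nat.pos_iff_ne_zero.1 h2)
        have h7 := wd_eq h4
        rw [wd_cons, wd_append, wd_cons, wd_nil, mul_one] at h7
        exact Good.conj h hN h6 (mem_of_me h3) h7
  exact fun m hm hm0 => key (dep PT m) m (Nat.le_refl _) hm hm0

/-- **One parabolic subgroup.** -/
theorem par {Nl Ql Zl Pl : List ℕ} {EN EF : List (ℕ × ℕ × List ℕ)} {t PT : ℕ} {R : List (ℕ × List PD)}
    (h1 : su Zl Ql = true) (h2 : chkC Ql Zl = true) (h3 : chkQ Ql Zl t = true) (h4 : chkN Nl Ql Zl EN = true)
    (h5 : chkFl EF Pl = true) (h6 : su Pl Nl = true) (h7 : Pl.length = 9)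
    (h8 : (List.range 512).all (chkE Pl Nl (R.map Prod.fst) PT) = true)
    (h9 : R.all (fun e => chkRep Nl Ql Zl (mw Pl e.1) e.2) = true) :
    ∀ g ∈ Cl Pl, g ≠ 1 → ∀ x ∈ Cl Ql, Pr 6 (g * x) := by
  have hq := qz h1 h2 h3
  have hN : ∀ a ∈ Nl, Nz (Cl Ql) (Cl Zl) (gx a) := fun a ha => nz h4 h1 ha
  have hr : ∀ m ∈ R.map Prod.fst, Good Ql (wd (mw Pl m)) := by
    intro m hm
    rw [List.mem_map] at hm
    obtain ⟨e, he, rfl⟩ := hm
    rw [List.all_eq_true] at h9
    exact good_of_chk hq hN (fun r hr => sub_of_su h6 r (mem_mw r hr)) (h9 e he)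
  have hall := good_all hq hN hr h8
  intro g hg hg1 x hx
  have hfl : Fl gx Pl := fl_of_chk h5
  have hfl2 := hfl.exists_prod gx_inv
  obtain ⟨w, hw, e⟩ := hfl2 g hg
  have e' : g = wd w := e
  subst e'
  clear e
  obtain ⟨m, hm, rfl⟩ := exists_mw hw
  rw [h7] at hm
  refine hall m hm ?_ x hx
  rintro rfl
  rw [mw_zero] at hg1
  exact hg1 rfl

end Cfsg.Agent.H335.FT
end

private theorem dce_b0ccb05a14d8 : _root_.True := by
  try have : _root_.True := by simp only [_root_.Cfsg.Agent.H335.FT.PD.b.eq_1]
  try have : _root_.True := by simp only [_root_.Cfsg.Agent.H335.FT.PD.a.eq_1]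
  try have : _root_.True := by simp only [_root_.Cfsg.Agent.H335.FT.chkRep._sparseCasesOn_2.else_eq]
  try have : _root_.True := by simp only [_root_.Cfsg.Agent.H335.FT.chkRep.eq_3]
  try have : _root_.True := by simp only [_root_.Cfsg.Agent.H335.FT.chkRep.eq_2]
  try have : _root_.True := by simp only [_root_.Cfsg.Agent.H335.FT.cov.congr_simp]
  try have : _root_.True := by simp only [_root_.Cfsg.Agent.H335.FT.chkRep._sparseCasesOn_1.else_eq]
  try have : _root_.True := by simp only [_root_.Cfsg.Agent.H335.FT.chkRep.eq_1]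
  try have : _root_.True := by simp only [_root_.Cfsg.Agent.H335.FT.chkFl.eq_def]
  exact _root_.True.intro
end

-- part: H323/Pw/Odd
section
prune_inst 0x24203004082200000018001220201c62ca0001000008800000a00d0204800c622081206188a00510020088450035004811000010020000000000000001180080000012040100a000200000000000000000000000000000000000000000000000000000000
set_option linter.all false
open scoped Cfsg.Agent.FastGrp

/-!
# The extraspecial coset lemma for products, odd primes (S2465, helper323)

* `XS p Q z` : `Q` is a normal subgroup with centre `⟨z⟩ ≤ Z(H)` of order `p`, `V = Q / ⟨z⟩` elementary abelian.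
* `FixX Q z a` : the elements of `Q` fixed by `a` modulo `⟨z⟩`.
* `XS.prod_step` (`p` odd): `V = [V, a] + [V, b]` and `dim C_V(a) + dim C_V(b) + dim C_V(ab) + 2 ≤ dim V`: every
  element of `a b Q` is `(u a u⁻¹) (w b w⁻¹)` with `u, w ∈ Q`.
* `XS.prod_conj` : the same without numerical condition if the element `g` is conjugate to `g z` under `Q`.
-/

set_option autoImplicit false

namespace Cfsg.Agent.H323.Pw

open scoped commutatorElement
open Cfsg.Agent.H843.Ore
open Cfsg.Agent.H78.Pw
open Module

universe u

/-! ### linear algebra -/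

section Lin

variable {K : Type*} [Field K] {V : Type*} [AddCommGroup V] [Module K V]

/-- the linearised product map -/
def phi (α γ : V →ₗ[K] V) : V × V →ₗ[K] V :=
  (LinearMap.id - α).comp (LinearMap.fst K V V) + (α - γ).comp (LinearMap.snd K V V)

theorem phi_apply (α γ : V →ₗ[K] V) (r : V × V) : phi α γ r = (r.1 - α r.1) + (α r.2 - γ r.2) := rfl

theorem finrank_ker_phi [FiniteDimensional K V] (α γ : V →ₗ[K] V) (hφ : Function.Surjective (phi α γ)) :
    finrank K (LinearMap.ker (phi α γ)) = finrank K V := by
  have h2 := LinearMap.finrank_range_add_finrank_ker (phi α γ)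
  rw [LinearMap.range_eq_top.2 hφ, finrank_top, Module.finrank_prod] at h2
  omega

variable {S : Type*} [AddCommGroup S] [Module K S]

/-- the polarisation -/
def bet (ω : LinearMap.BilinForm K V) (β : V →ₗ[K] V) (i₁ i₂ : S →ₗ[K] V) : LinearMap.BilinForm K S :=
  LinearMap.compl₁₂ ω (i₂ - i₁) ((LinearMap.id - β).comp i₂)

theorem bet_apply (ω : LinearMap.BilinForm K V) (β : V →ₗ[K] V) (i₁ i₂ : S →ₗ[K] V) (r q : S) :
    bet ω β i₁ i₂ r q = ω (i₂ r - i₁ r) (i₂ q - β (i₂ q)) := rfl

variable [FiniteDimensional K V] [FiniteDimensional K S]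

theorem rank_p (ω : LinearMap.BilinForm K V) (hnd : ∀ v, (∀ u, ω u v = 0) → v = 0)
    (α β γ : V →ₗ[K] V) (e : ∀ x, γ x = α (β x)) (i₁ i₂ : S →ₗ[K] V) (hinj : ∀ r, i₁ r = 0 → i₂ r = 0 → r = 0)
    (hrel : ∀ r, (i₁ r - α (i₁ r)) + (α (i₂ r) - γ (i₂ r)) = 0) (hS : finrank K S = finrank K V)
    (R : Submodule K S) (hR : ∀ q ∈ R, ∀ r, bet ω β i₁ i₂ r q = 0) :
    finrank K R ≤ finrank K (LinearMap.ker (LinearMap.id - α)) +
      finrank K (LinearMap.ker (LinearMap.id - β)) + finrank K (LinearMap.ker (LinearMap.id - γ)) := by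
  classical
  let sM : S →ₗ[K] V := i₂ - i₁
  have hsM : ∀ r, sM r = i₂ r - i₁ r := fun r => rfl
  have hrs := LinearMap.finrank_range_add_finrank_ker sM
  rw [hS] at hrs
  let tR : R →ₗ[K] V := ((LinearMap.id - β).comp i₂).comp R.subtype
  have htR : ∀ r : R, tR r = i₂ r - β (i₂ r) := fun r => rfl
  have hrt := LinearMap.finrank_range_add_finrank_ker tR
  have hinj' : ∀ r r' : S, i₁ r = i₁ r' → i₂ r = i₂ r' → r = r' := by
    intro r r' h1 h2
    exact sub_eq_zero.1 (hinj _ (by rw [map_sub, h1, sub_self]) (by rw [map_sub, h2, sub_self]))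
  -- kernels
  have hks : finrank K (LinearMap.ker sM) ≤ finrank K (LinearMap.ker (LinearMap.id - γ)) := by
    have hmem : ∀ r : LinearMap.ker sM, i₁ r ∈ LinearMap.ker (LinearMap.id - γ) := by
      intro r
      have h1 : i₂ r - i₁ r = 0 := r.2
      have h2 : i₂ r = i₁ r := sub_eq_zero.1 h1
      have h3 := hrel r
      rw [h2] at h3
      show i₁ r - γ (i₁ r) = 0
      rw [← h3]
      abel
    let g : LinearMap.ker sM →ₗ[K] LinearMap.ker (LinearMap.id - γ) :=
      LinearMap.codRestrict _ (i₁.comp (LinearMap.ker sM).subtype) hmem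
    refine LinearMap.finrank_le_finrank_of_injective (f := g) ?_
    intro r r' hg
    have h0 : i₁ r = i₁ r' := congrArg Subtype.val hg
    have h1 : i₂ r = i₁ r := sub_eq_zero.1 r.2
    have h1' : i₂ r' = i₁ r' := sub_eq_zero.1 r'.2
    exact Subtype.ext (hinj' _ _ h0 (by rw [h1, h1', h0]))
  have hkt : finrank K (LinearMap.ker tR) ≤ finrank K (LinearMap.ker (LinearMap.id - α)) +
      finrank K (LinearMap.ker (LinearMap.id - β)) := by
    have hmem2 : ∀ r : LinearMap.ker tR, i₂ r.1 ∈ LinearMap.ker (LinearMap.id - β) := fun r => r.2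
    have hmem1 : ∀ r : LinearMap.ker tR, i₁ r.1 ∈ LinearMap.ker (LinearMap.id - α) := by
      intro r
      have h1 : i₂ r.1 - β (i₂ r.1) = 0 := r.2
      have h2 : i₂ r.1 = β (i₂ r.1) := sub_eq_zero.1 h1
      have h3 := hrel r.1
      rw [e, ← h2, sub_self, add_zero] at h3
      exact h3
    let g : LinearMap.ker tR →ₗ[K] LinearMap.ker (LinearMap.id - α) × LinearMap.ker (LinearMap.id - β) :=
      LinearMap.prod
        (LinearMap.codRestrict _ (i₁.comp (R.subtype.comp (LinearMap.ker tR).subtype)) hmem1)
        (LinearMap.codRestrict _ (i₂.comp (R.subtype.comp (LinearMap.ker tR).subtype)) hmem2)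
    rw [← Module.finrank_prod]
    refine LinearMap.finrank_le_finrank_of_injective (f := g) ?_
    intro r r' hg
    have h0 : i₁ r.1 = i₁ r'.1 := congrArg (fun p => (p.1 : V)) hg
    have h1 : i₂ r.1 = i₂ r'.1 := congrArg (fun p => (p.2 : V)) hg
    exact Subtype.ext (Subtype.ext (hinj' _ _ h0 h1))
  -- orthogonality
  let η : V →ₗ[K] Dual K V := ω.flip
  have hη : ∀ v u, η v u = ω u v := fun v u => rfl
  have horth : (LinearMap.range tR).map η ≤ (LinearMap.range sM).dualAnnihilator := by
    rintro _ ⟨_, ⟨q, rfl⟩, rfl⟩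
    rw [Submodule.mem_dualAnnihilator]
    rintro _ ⟨r, rfl⟩
    exact hR q.1 q.2 r
  have hηinj : Function.Injective η := by
    rw [injective_iff_map_eq_zero]
    intro v hv
    apply hnd
    intro u
    rw [← hη, hv, LinearMap.zero_apply]
  have h1 := Submodule.finrank_mono horth
  rw [← (Submodule.equivMapOfInjective η hηinj (LinearMap.range tR)).finrank_eq] at h1
  have h1' : finrank K (LinearMap.range tR) ≤
      finrank K ((LinearMap.range sM).dualAnnihilator : Submodule K (Dual K V)) := h1
  have h2 : finrank K (LinearMap.range sM) +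
      finrank K ((LinearMap.range sM).dualAnnihilator : Submodule K (Dual K V)) =
      finrank K V := Subspace.finrank_add_finrank_dualAnnihilator_eq (LinearMap.range sM)
  clear h1
  omega

end Lin

/-- a quadratic function of rank at least two is surjective -/
theorem surj_of_rank {p : ℕ} [hp : Fact p.Prime] (hp2 : p ≠ 2) {S : Type*} [AddCommGroup S] [Module (ZMod p) S]
    [FiniteDimensional (ZMod p) S] (Φ : S → ZMod p) (B : LinearMap.BilinForm (ZMod p) S)
    (hΦ : ∀ r q, Φ (r + q) = Φ r + Φ q + B r q)
    (hd : ∀ R : Submodule (ZMod p) S, (∀ q ∈ R, ∀ r, B r q = 0) → finrank (ZMod p) R + 2 ≤ finrank (ZMod p) S) :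
    Function.Surjective Φ := by
  classical
  have h2 : (2 : ZMod p) ≠ 0 := by
    intro h
    have h3 : ((2 : ℕ) : ZMod p) = 0 := by exact_mod_cast h
    rw [ZMod.natCast_eq_zero_iff] at h3
    exact hp2 ((Nat.prime_dvd_prime_iff_eq hp.out Nat.prime_two).1 h3)
  have hsym : ∀ r q, B r q = B q r := by
    intro r q
    have h3 := hΦ r q
    rw [add_comm r q, hΦ q r, add_comm (Φ q) (Φ r)] at h3
    exact (add_left_cancel h3).symm
  -- a nonisotropic vector in every subspace on which the form is not zero
  have hni : ∀ U : Submodule (ZMod p) S, (∀ u ∈ U, B u u = 0) → ∀ u ∈ U, ∀ v ∈ U, B u v = 0 := by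
    intro U hU u hu v hv
    have h3 := hU (u + v) (U.add_mem hu hv)
    simp only [map_add, LinearMap.add_apply] at h3
    rw [hU u hu, hU v hv, zero_add, add_zero, hsym v u, ← two_mul] at h3
    exact (mul_eq_zero.1 h3).resolve_left h2
  obtain ⟨q, hq⟩ : ∃ q, B q q ≠ 0 := by
    by_contra hno
    push Not at hno
    have h3 := hd ⊤ (fun q _ r => hni ⊤ (fun u _ => hno u) r trivial q trivial)
    rw [finrank_top] at h3
    omega
  obtain ⟨U, hUdef⟩ : ∃ U : Submodule (ZMod p) S, U = LinearMap.ker (B q) := ⟨_, rfl⟩
  have hUm : ∀ u, u ∈ U ↔ B q u = 0 := fun u => by rw [hUdef]; exact LinearMap.mem_ker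
  have hU1 : finrank (ZMod p) S ≤ finrank (ZMod p) U + 1 := by
    rw [hUdef]
    have h3 := LinearMap.finrank_range_add_finrank_ker (B q)
    have h4 := Submodule.finrank_le (LinearMap.range (B q))
    rw [Module.finrank_self] at h4
    omega
  obtain ⟨q', hq'U, hq'⟩ : ∃ q' ∈ U, B q' q' ≠ 0 := by
    by_contra hno
    push Not at hno
    have h3 := hd U (by
      intro u hu r
      have hu0 : B q u = 0 := (hUm u).1 hu
      -- `r = x q + u'`
      have hmem : r - (B q r / B q q) • q ∈ U := by
        rw [hUm, map_sub, map_smul, smul_eq_mul, div_mul_cancel₀ _ hq, sub_self]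
      have h5 := hni U hno _ hmem u hu
      rw [map_sub, LinearMap.sub_apply, map_smul, LinearMap.smul_apply, hu0, smul_zero, sub_zero] at h5
      exact h5)
    omega
  have hqq' : B q q' = 0 := (hUm q').1 hq'U
  -- the linear part
  have hadd : ∀ r s, (Φ (r + s) - B (r + s) (r + s) / 2) = (Φ r - B r r / 2) + (Φ s - B s s / 2) := by
    intro r s
    simp only [hΦ, map_add, LinearMap.add_apply]
    rw [hsym s r]
    field_simp
    ring
  let lam : S →+ ZMod p := AddMonoidHom.mk' (fun r => Φ r - B r r / 2) hadd
  have hlam : ∀ (c : ZMod p) (r : S), lam (c • r) = c * lam r := fun c r => ZMod.map_smul lam c r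
  have hval : ∀ x y : ZMod p, Φ (x • q + y • q') =
      (x ^ 2 * (B q q / 2) + x * lam q) + (y ^ 2 * (B q' q' / 2) + y * lam q') := by
    intro x y
    have h3 : Φ (x • q + y • q') = lam (x • q + y • q') + B (x • q + y • q') (x • q + y • q') / 2 := by
      show _ = (Φ (x • q + y • q') - B (x • q + y • q') (x • q + y • q') / 2) + _
      ring
    rw [h3, map_add, hlam, hlam]
    simp only [map_add, map_smul, LinearMap.add_apply, LinearMap.smul_apply, smul_eq_mul, hqq', hsym q' q]
    ring
  intro j
  obtain ⟨x, y, hxy⟩ := FiniteField.exists_root_sum_quadratic (R := ZMod p)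
    (f := Polynomial.C (B q q / 2) * Polynomial.X ^ 2 + Polynomial.C (lam q) * Polynomial.X + Polynomial.C (-j))
    (g := Polynomial.C (B q' q' / 2) * Polynomial.X ^ 2 + Polynomial.C (lam q') * Polynomial.X + Polynomial.C 0)
    (Polynomial.degree_quadratic (div_ne_zero hq h2)) (Polynomial.degree_quadratic (div_ne_zero hq' h2))
    (by
      rw [ZMod.card]
      rcases hp.out.eq_two_or_odd with h | h
      · exact absurd h hp2
      · exact h)
  refine ⟨x • q + y • q', ?_⟩
  rw [hval]
  simp only [Polynomial.eval_add, Polynomial.eval_mul, Polynomial.eval_C, Polynomial.eval_pow, Polynomial.eval_X,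
    add_zero] at hxy
  linear_combination hxy

/-! ### the powers of `z` -/

section Ez

variable {H : Type u} [Group H] {p : ℕ} [hp : Fact p.Prime] {z : H}

/-- the power `z ^ k` -/
def ez (p : ℕ) (z : H) (k : ZMod p) : H := z ^ k.val

theorem ez_zero : ez p z 0 = 1 := by rw [ez, ZMod.val_zero, pow_zero]

theorem ez_add (ho : orderOf z = p) (a b : ZMod p) : ez p z (a + b) = ez p z a * ez p z b := by
  have h1 := pow_mod_orderOf z (a.val + b.val)
  rw [ho] at h1
  rw [ez, ez, ez, ← pow_add, ← h1, ZMod.val_add]

theorem ez_neg (ho : orderOf z = p) (a : ZMod p) : ez p z (-a) = (ez p z a)⁻¹ := by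
  rw [eq_inv_iff_mul_eq_one, ← ez_add ho, neg_add_cancel, ez_zero]

theorem ez_inj (ho : orderOf z = p) {a b : ZMod p} (h : ez p z a = ez p z b) : a = b := by
  apply ZMod.val_injective
  exact pow_injOn_Iio_orderOf (by rw [Set.mem_Iio, ho]; exact ZMod.val_lt a)
    (by rw [Set.mem_Iio, ho]; exact ZMod.val_lt b) h

theorem ez_mem (k : ZMod p) : ez p z k ∈ Subgroup.zpowers z := ⟨k.val, by rw [ez, ← zpow_natCast]⟩

theorem exists_ez (ho : orderOf z = p) {x : H} (hx : x ∈ Subgroup.zpowers z) : ∃ k : ZMod p, ez p z k = x := by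
  obtain ⟨n, rfl⟩ := hx
  refine ⟨(n : ZMod p), ?_⟩
  have h1 : ((n : ZMod p).val : ℤ) = n % (p : ℤ) := ZMod.val_intCast n
  have h2 := zpow_mod_orderOf z n
  rw [ho] at h2
  rw [ez, ← zpow_natCast, h1]
  exact h2

theorem ez_one (ho : orderOf z = p) : ez p z 1 = z := by
  have : (1 : ZMod p).val = 1 := ZMod.val_one p
  rw [ez, this, pow_one]

theorem ez_comm (hc : ∀ h : H, h * z = z * h) (k : ZMod p) (h : H) : h * ez p z k = ez p z k * h :=
  ((show Commute h z from hc h).pow_right k.val).eq

open Classical in
/-- the logarithm -/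
noncomputable def lg (p : ℕ) (z : H) (x : H) : ZMod p := if h : ∃ k : ZMod p, ez p z k = x then h.choose else 0

theorem ez_lg (ho : orderOf z = p) {x : H} (hx : x ∈ Subgroup.zpowers z) : ez p z (lg p z x) = x := by
  have h := exists_ez ho hx
  unfold lg
  rw [dif_pos h]
  exact h.choose_spec

end Ez

/-! ### extraspecial groups -/

/-- `Q` is normal with centre `⟨z⟩ ≤ Z(H)` of order `p`, `Q / ⟨z⟩` is elementary abelian -/
structure XS {H : Type u} [Group H] (p : ℕ) (Q : Subgroup H) (z : H) : Prop where
  normal : Q.Normal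
  mem : z ∈ Q
  ord : orderOf z = p
  central : ∀ h : H, h * z = z * h
  comm : ∀ x ∈ Q, ∀ y ∈ Q, x * y * x⁻¹ * y⁻¹ ∈ Subgroup.zpowers z
  pow : ∀ x ∈ Q, x ^ p ∈ Subgroup.zpowers z
  nd : ∀ x ∈ Q, (∀ y ∈ Q, x * y = y * x) → x ∈ Subgroup.zpowers z

/-- `V = Q / ⟨z⟩` with its form and the action of `H` -/
structure XData {H : Type u} [Group H] (p : ℕ) (Q : Subgroup H) (z : H) : Type (u + 1) where
  V : Type u
  [acg : AddCommGroup V]
  [mod : Module (ZMod p) V]
  [fin : Finite V]
  cls : Q → V
  surj : Function.Surjective cls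
  cls_mul : ∀ x y, cls (x * y) = cls x + cls y
  cls_eq : ∀ x y : Q, cls x = cls y ↔ (x : H)⁻¹ * y ∈ Subgroup.zpowers z
  ω : LinearMap.BilinForm (ZMod p) V
  ω_cls : ∀ x y : Q, (x : H) * y * (x : H)⁻¹ * (y : H)⁻¹ = ez p z (ω (cls x) (cls y))
  L : H → V ≃ₗ[ZMod p] V
  L_cls : ∀ (g : H) (x y : Q), (y : H) = g * x * g⁻¹ → L g (cls x) = cls y

section Main

variable {H : Type u} [Group H] {p : ℕ} [hp : Fact p.Prime] {Q : Subgroup H} {z : H}

omit hp in
theorem XS.zc (h : XS p Q z) {ζ : H} (hζ : ζ ∈ Subgroup.zpowers z) (g : H) : g * ζ = ζ * g := by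
  obtain ⟨n, rfl⟩ := hζ
  exact ((show Commute g z from h.central g).zpow_right n).eq

omit hp in
theorem XS.normal_zpowers (h : XS p Q z) : (Subgroup.zpowers z).Normal := by
  constructor
  intro n hn g
  rw [h.zc hn g, mul_assoc, mul_inv_cancel, mul_one]
  exact hn

omit hp in
theorem XS.conj_mem (h : XS p Q z) {x : H} (hx : x ∈ Q) (g : H) : g * x * g⁻¹ ∈ Q :=
  h.normal.conj_mem x hx g

omit hp in
theorem XS.z_le (h : XS p Q z) : Subgroup.zpowers z ≤ Q := by
  rw [Subgroup.zpowers_le]; exact h.mem

theorem XS.exists_xdata (h : XS p Q z) [Finite Q] : Nonempty (XData p Q z) := by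
  classical
  have hn := h.normal
  have ho := h.ord
  let N : Subgroup Q := (Subgroup.zpowers z).subgroupOf Q
  have hN : ∀ x : Q, x ∈ N ↔ (x : H) ∈ Subgroup.zpowers z := fun x => Subgroup.mem_subgroupOf
  have hNn : N.Normal := by
    have := h.normal_zpowers
    exact Subgroup.normal_subgroupOf
  let _ : CommGroup (Q ⧸ N) := { (inferInstance : Group (Q ⧸ N)) with
    mul_comm := by
      intro u v
      induction u using QuotientGroup.induction_on with | _ x => ?_
      induction v using QuotientGroup.induction_on with | _ y => ?_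
      rw [← QuotientGroup.mk_mul, ← QuotientGroup.mk_mul, QuotientGroup.eq, hN]
      simp only [Subgroup.coe_mul, Subgroup.coe_inv]
      have e : ((x : H) * y)⁻¹ * (y * x) = (y : H)⁻¹ * (x : H)⁻¹ * (y : H)⁻¹⁻¹ * (x : H)⁻¹⁻¹ := by group
      rw [e]
      exact h.comm _ (Q.inv_mem y.2) _ (Q.inv_mem x.2) }
  let V := Additive (Q ⧸ N)
  let mk : Q → V := fun x => Additive.ofMul (QuotientGroup.mk x)
  have hsurj : Function.Surjective mk := by
    intro v
    obtain ⟨x, hx⟩ := QuotientGroup.mk_surjective (Additive.toMul v)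
    exact ⟨x, by show Additive.ofMul _ = v; rw [hx]; rfl⟩
  have mk_mul : ∀ x y, mk (x * y) = mk x + mk y := fun x y => rfl
  have mk_eq : ∀ x y : Q, mk x = mk y ↔ (x : H)⁻¹ * y ∈ Subgroup.zpowers z := by
    intro x y
    have : mk x = mk y ↔ (QuotientGroup.mk x : Q ⧸ N) = QuotientGroup.mk y := Iff.rfl
    rw [this, QuotientGroup.eq, hN]
    simp only [Subgroup.coe_mul, Subgroup.coe_inv]
  have hpow : ∀ (x : Q) (n : ℕ), n • mk x = mk (x ^ n) := by
    intro x n
    induction n with
    | zero => rw [zero_nsmul, pow_zero]; rfl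
    | succ n ih => rw [succ_nsmul, ih, pow_succ, mk_mul]
  have hpV : ∀ v : V, p • v = 0 := by
    intro v
    obtain ⟨x, rfl⟩ := hsurj v
    rw [hpow]
    have h1 : mk (1 : Q) = 0 := rfl
    rw [← h1, eq_comm, mk_eq]
    simp only [Subgroup.coe_pow, Subgroup.coe_one, inv_one, one_mul]
    exact h.pow x x.2
  let _ : Module (ZMod p) V := AddCommGroup.zmodModule hpV
  -- the form
  let f : Q → Q → ZMod p := fun x y => lg p z ((x : H) * y * (x : H)⁻¹ * (y : H)⁻¹)
  have hf : ∀ x y : Q, ez p z (f x y) = (x : H) * y * (x : H)⁻¹ * (y : H)⁻¹ := fun x y =>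
    ez_lg ho (h.comm x x.2 y y.2)
  have fl : ∀ x x' y : Q, f (x * x') y = f x y + f x' y := by
    intro x x' y
    apply ez_inj (z := z) ho
    rw [ez_add ho, hf, hf, hf]
    have h1 := h.zc (h.comm x' x'.2 y y.2)
    simp only [Subgroup.coe_mul]
    calc (x : H) * x' * y * ((x : H) * x')⁻¹ * (y : H)⁻¹
        = (x : H) * ((x' : H) * y * (x' : H)⁻¹ * (y : H)⁻¹) * (y * (x : H)⁻¹ * (y : H)⁻¹) := by group
      _ = ((x' : H) * y * (x' : H)⁻¹ * (y : H)⁻¹) * (x * (y * (x : H)⁻¹ * (y : H)⁻¹)) := by rw [h1]; group
      _ = (x * (y * (x : H)⁻¹ * (y : H)⁻¹)) * ((x' : H) * y * (x' : H)⁻¹ * (y : H)⁻¹) := (h1 _).symm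
      _ = _ := by group
  have fa : ∀ x y : Q, f y x = - f x y := by
    intro x y
    apply ez_inj (z := z) ho
    rw [ez_neg ho, hf, hf]
    group
  have fr : ∀ x y y' : Q, f x (y * y') = f x y + f x y' := by
    intro x y y'
    rw [fa (y * y') x, fl, fa x y, fa x y']
    ring
  have fN : ∀ n ∈ N, ∀ y : Q, f n y = 0 := by
    intro n hn y
    apply ez_inj (z := z) ho
    rw [ez_zero, hf, ← h.zc ((hN n).1 hn) y]
    group
  have fN' : ∀ n ∈ N, ∀ y : Q, f y n = 0 := by
    intro n hn y
    rw [fa n y, fN n hn, neg_zero]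
  choose sec hsec using hsurj
  let w : V → V → ZMod p := fun u v => f (sec u) (sec v)
  have hw : ∀ x y, w (mk x) (mk y) = f x y := by
    intro x y
    have h1 := (mk_eq x (sec (mk x))).1 (hsec (mk x)).symm
    have h2 := (mk_eq y (sec (mk y))).1 (hsec (mk y)).symm
    obtain ⟨n, hn, e1⟩ : ∃ n ∈ N, sec (mk x) = x * n := ⟨x⁻¹ * sec (mk x), (hN _).2 h1, by group⟩
    obtain ⟨m, hm, e2⟩ : ∃ m ∈ N, sec (mk y) = y * m := ⟨y⁻¹ * sec (mk y), (hN _).2 h2, by group⟩
    show f (sec (mk x)) (sec (mk y)) = f x y
    rw [e1, e2, fl, fr, fN n hn, fN' m hm, add_zero, add_zero]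
  have wl : ∀ u v v', w (u + v) v' = w u v' + w v v' := by
    intro u v v'
    obtain ⟨x, rfl⟩ : ∃ x, mk x = u := ⟨_, hsec u⟩
    obtain ⟨y, rfl⟩ : ∃ x, mk x = v := ⟨_, hsec v⟩
    obtain ⟨y', rfl⟩ : ∃ x, mk x = v' := ⟨_, hsec v'⟩
    rw [← mk_mul, hw, hw, hw, fl]
  have wr : ∀ u v v', w u (v + v') = w u v + w u v' := by
    intro u v v'
    obtain ⟨x, rfl⟩ : ∃ x, mk x = u := ⟨_, hsec u⟩
    obtain ⟨y, rfl⟩ : ∃ x, mk x = v := ⟨_, hsec v⟩
    obtain ⟨y', rfl⟩ : ∃ x, mk x = v' := ⟨_, hsec v'⟩
    rw [← mk_mul, hw, hw, hw, fr]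
  let ω : LinearMap.BilinForm (ZMod p) V := LinearMap.mk₂ (ZMod p) w wl
    (by
      intro c u v
      exact ZMod.map_smul (AddMonoidHom.mk' (fun u => w u v) (fun a b => wl a b v)) c u)
    wr
    (by
      intro c u v
      exact ZMod.map_smul (AddMonoidHom.mk' (fun v => w u v) (fun a b => wr u a b)) c v)
  -- the action
  have hmap : ∀ g : H, N.map (MulAut.conjNormal g : Q ≃* Q).toMonoidHom = N := by
    intro g
    have hfix : ∀ x ∈ N, (MulAut.conjNormal g : Q ≃* Q) x = x := by
      intro x hx
      apply Subtype.ext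
      rw [MulAut.conjNormal_apply, h.zc ((hN x).1 hx) g, mul_assoc, mul_inv_cancel, mul_one]
    apply le_antisymm
    · rintro _ ⟨x, hx, rfl⟩
      show (MulAut.conjNormal g : Q ≃* Q) x ∈ N
      rw [hfix x hx]; exact hx
    · intro x hx
      exact ⟨x, hx, hfix x hx⟩
  let Lm : H → (Q ⧸ N) ≃* (Q ⧸ N) := fun g => QuotientGroup.congr N N (MulAut.conjNormal g) (hmap g)
  let La : H → V ≃+ V := fun g => MulEquiv.toAdditive (Lm g)
  let L : H → V ≃ₗ[ZMod p] V := fun g => (La g).toLinearEquiv (fun c x => ZMod.map_smul (La g) c x)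
  exact ⟨{
    V := V
    cls := mk
    surj := fun v => ⟨sec v, hsec v⟩
    cls_mul := mk_mul
    cls_eq := mk_eq
    ω := ω
    ω_cls := fun x y => by
      show _ = ez p z (w (mk x) (mk y))
      rw [hw, hf]
    L := L
    L_cls := by
      intro g x y hy
      have : y = MulAut.conjNormal g x := Subtype.ext (by rw [hy, MulAut.conjNormal_apply])
      rw [this]
      rfl
    fin := inferInstanceAs (Finite (Q ⧸ N)) }⟩

/-- the elements of `Q` fixed by `a` modulo `⟨z⟩` -/
def FixX (Q : Subgroup H) (z a : H) : Type _ := {x : Q // a * x * a⁻¹ * (x : H)⁻¹ ∈ Subgroup.zpowers z}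

/-- **The extraspecial coset lemma for products, `p` odd.** -/
theorem XS.prod_step (hp2 : p ≠ 2) (h : XS p Q z) [Finite Q] {a b x : H} (hcov : Cov a b Q (Subgroup.zpowers z))
    (hx : x ∈ Q) (hle : Nat.card (FixX Q z a) * Nat.card (FixX Q z b) * Nat.card (FixX Q z (a * b)) ≤ Nat.card Q) :
    ∃ u ∈ Q, ∃ w ∈ Q, (u * a * u⁻¹) * (w * b * w⁻¹) = a * b * x := by
  classical
  have hn := h.normal
  have hzn := h.normal_zpowers
  have ho := h.ord
  obtain ⟨u₀, hu₀, w₀, hw₀, h0⟩ := step hcov hx
  obtain ⟨k, hk⟩ := exists_ez ho h0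
  obtain ⟨a₁, ha₁⟩ : ∃ a₁, a₁ = u₀ * a * u₀⁻¹ := ⟨_, rfl⟩
  obtain ⟨b₁, hb₁⟩ : ∃ b₁, b₁ = w₀ * b * w₀⁻¹ := ⟨_, rfl⟩
  rw [← ha₁, ← hb₁] at hk
  have hc : a₁ * b₁ * ez p z k = a * b * x := by rw [hk]; group
  -- the function Φ
  let Φ : Q → Q → H := fun r₁ r₂ => (r₁ * (a₁ * r₁ * a₁⁻¹)⁻¹) * ((a₁ * r₂ * a₁⁻¹) * ((a₁ * b₁) * r₂ * (a₁ * b₁)⁻¹)⁻¹)
  have hΦ : ∀ r₁ r₂ : Q, (r₁ * a₁ * (r₁ : H)⁻¹) * (r₂ * b₁ * (r₂ : H)⁻¹) = Φ r₁ r₂ * (a₁ * b₁) := by
    intro r₁ r₂
    show _ = (r₁ * (a₁ * r₁ * a₁⁻¹)⁻¹) * ((a₁ * r₂ * a₁⁻¹) * ((a₁ * b₁) * r₂ * (a₁ * b₁)⁻¹)⁻¹) * (a₁ * b₁)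
    group
  obtain ⟨D⟩ := h.exists_xdata
  let _ := D.acg
  let _ := D.mod
  have hfin := D.fin
  have : FiniteDimensional (ZMod p) D.V := Module.Finite.of_finite
  let Kc : H → Q → Q := fun g x => ⟨g * x * g⁻¹, h.conj_mem x.2 g⟩
  have hL : ∀ g x, D.L g (D.cls x) = D.cls (Kc g x) := fun g x => D.L_cls g x _ rfl
  have h00 : D.cls 1 = 0 := by
    have := D.cls_mul 1 1
    rw [mul_one] at this
    have h2 : D.cls 1 + 0 = D.cls 1 + D.cls 1 := by rw [add_zero]; exact this
    exact (add_left_cancel h2).symm
  have hinv : ∀ x : Q, D.cls x⁻¹ = - D.cls x := by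
    intro x
    rw [eq_neg_iff_add_eq_zero, ← D.cls_mul, inv_mul_cancel, h00]
  have h0mem : ∀ y : Q, D.cls y = 0 → (y : H) ∈ Subgroup.zpowers z := by
    intro y hy
    rw [← h00, eq_comm, D.cls_eq] at hy
    simpa using hy
  have hnd : ∀ v, (∀ u, D.ω u v = 0) → v = 0 := by
    intro v hv
    obtain ⟨y, rfl⟩ := D.surj v
    have h1 := h.nd y y.2 (fun w hw => by
      have h2 := D.ω_cls ⟨w, hw⟩ y
      rw [hv, ez_zero] at h2
      have h3 : (w : H) * y = y * w := by
        have h4 : (w : H) * y * w⁻¹ = y := mul_inv_eq_one.1 h2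
        rw [mul_inv_eq_iff_eq_mul] at h4
        exact h4
      exact h3.symm)
    rw [← h00, eq_comm, D.cls_eq]
    simpa using h1
  have hLm : ∀ g k' v, D.L (g * k') v = D.L g (D.L k' v) := by
    intro g k' v
    obtain ⟨x, rfl⟩ := D.surj v
    rw [hL, hL, hL]
    congr 1
    apply Subtype.ext
    show g * k' * x * (g * k')⁻¹ = g * (k' * x * k'⁻¹) * g⁻¹
    group
  -- elements of `Q` act trivially
  have hLQ : ∀ y ∈ Q, ∀ v, D.L y v = v := by
    intro y hy v
    obtain ⟨x, rfl⟩ := D.surj v
    rw [hL, eq_comm, D.cls_eq]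
    show (x : H)⁻¹ * (y * x * y⁻¹) ∈ _
    have e : (x : H)⁻¹ * (y * x * y⁻¹) = (x : H)⁻¹ * y * (x : H)⁻¹⁻¹ * y⁻¹ := by group
    rw [e]
    exact h.comm _ (Q.inv_mem x.2) y hy
  have hLa : ∀ v, D.L a₁ v = D.L a v := by
    intro v
    rw [ha₁, hLm, hLm, hLQ _ (Q.inv_mem hu₀), hLQ _ hu₀]
  have hLb : ∀ v, D.L b₁ v = D.L b v := by
    intro v
    rw [hb₁, hLm, hLm, hLQ _ (Q.inv_mem hw₀), hLQ _ hw₀]
  have hLab : ∀ v, D.L (a₁ * b₁) v = D.L (a * b) v := by
    intro v
    rw [hLm, hLm, hLa, hLb]
  let α : D.V →ₗ[ZMod p] D.V := (D.L a₁ : D.V →ₗ[ZMod p] D.V)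
  let β : D.V →ₗ[ZMod p] D.V := (D.L b₁ : D.V →ₗ[ZMod p] D.V)
  let γ : D.V →ₗ[ZMod p] D.V := (D.L (a₁ * b₁) : D.V →ₗ[ZMod p] D.V)
  have hα : ∀ v, α v = D.L a₁ v := fun v => rfl
  have hβ : ∀ v, β v = D.L b₁ v := fun v => rfl
  have hγ : ∀ v, γ v = D.L (a₁ * b₁) v := fun v => rfl
  have hαβ : ∀ v, γ v = α (β v) := fun v => hLm a₁ b₁ v
  -- surjectivity
  have hsurj : Function.Surjective (phi α γ) := by
    intro w
    obtain ⟨w', hw'⟩ : ∃ w', D.L a₁ w' = w := ⟨(D.L a₁).symm w, (D.L a₁).apply_symm_apply w⟩
    obtain ⟨y, rfl⟩ := D.surj w'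
    obtain ⟨p₁, hp₁, p₂, hp₂, e⟩ := hcov y y.2
    have e2 : D.cls y = (D.cls ⟨p₁, hp₁⟩ - D.L a (D.cls ⟨p₁, hp₁⟩)) + (D.cls ⟨p₂, hp₂⟩ - D.L b (D.cls ⟨p₂, hp₂⟩)) := by
      have e3 : D.cls y = D.cls ((⟨p₁, hp₁⟩ * (Kc a ⟨p₁, hp₁⟩)⁻¹) * (⟨p₂, hp₂⟩ * (Kc b ⟨p₂, hp₂⟩)⁻¹)) := by
        rw [D.cls_eq]
        show (y : H)⁻¹ * ((p₁ * (a * p₁ * a⁻¹)⁻¹) * (p₂ * (b * p₂ * b⁻¹)⁻¹)) ∈ _
        have e4 : (p₁ * (a * p₁ * a⁻¹)⁻¹) * (p₂ * (b * p₂ * b⁻¹)⁻¹) = ⁅p₁, a⁆ * ⁅p₂, b⁆ := by
          simp only [commutatorElement_def]; group
        rw [e4]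
        exact e
      rw [e3, D.cls_mul, D.cls_mul, D.cls_mul, hinv, hinv, hL, hL, ← sub_eq_add_neg, ← sub_eq_add_neg]
    refine ⟨(D.L a₁ (D.cls ⟨p₁, hp₁⟩), D.cls ⟨p₂, hp₂⟩), ?_⟩
    rw [phi_apply, hα, hα, hγ, hLm, ← hw', e2, hLb]
    simp only [map_add, map_sub, hLa]
  -- the kernel
  let S := LinearMap.ker (phi α γ)
  let i₁ : S →ₗ[ZMod p] D.V := (LinearMap.fst (ZMod p) D.V D.V).comp S.subtype
  let i₂ : S →ₗ[ZMod p] D.V := (LinearMap.snd (ZMod p) D.V D.V).comp S.subtype
  have hi₁ : ∀ s : S, i₁ s = s.1.1 := fun s => rfl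
  have hi₂ : ∀ s : S, i₂ s = s.1.2 := fun s => rfl
  have hrel : ∀ r : S, (i₁ r - α (i₁ r)) + (α (i₂ r) - γ (i₂ r)) = 0 := fun r => r.2
  have hmem : ∀ r₁ r₂ : Q, Φ r₁ r₂ ∈ Q := by
    intro r₁ r₂
    exact ((r₁ * (Kc a₁ r₁)⁻¹) * (Kc a₁ r₂ * (Kc (a₁ * b₁) r₂)⁻¹) : Q).2
  have hsum : ∀ r₁ r₂ : Q, D.cls ⟨Φ r₁ r₂, hmem r₁ r₂⟩ = (D.cls r₁ - α (D.cls r₁)) + (α (D.cls r₂) - γ (D.cls r₂)) := by
    intro r₁ r₂
    have e1 : (⟨Φ r₁ r₂, hmem r₁ r₂⟩ : Q) = (r₁ * (Kc a₁ r₁)⁻¹) * (Kc a₁ r₂ * (Kc (a₁ * b₁) r₂)⁻¹) := Subtype.ext rfl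
    rw [e1, D.cls_mul, D.cls_mul, D.cls_mul, hinv, hinv, hα, hα, hγ, hL, hL, hL, ← sub_eq_add_neg, ← sub_eq_add_neg]
  have hz : ∀ r₁ r₂ : Q, (D.cls r₁ - α (D.cls r₁)) + (α (D.cls r₂) - γ (D.cls r₂)) = 0 →
      Φ r₁ r₂ ∈ Subgroup.zpowers z := by
    intro r₁ r₂ h'
    exact h0mem ⟨Φ r₁ r₂, hmem r₁ r₂⟩ (by rw [hsum]; exact h')
  -- multiplicativity
  have key : ∀ r₁ r₂ q₁ q₂ : Q, (D.cls r₁ - α (D.cls r₁)) + (α (D.cls r₂) - γ (D.cls r₂)) = 0 →
      (D.cls q₁ - α (D.cls q₁)) + (α (D.cls q₂) - γ (D.cls q₂)) = 0 →
      Φ (r₁ * q₁) (r₂ * q₂) = Φ r₁ r₂ * Φ q₁ q₂ *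
        ez p z (D.ω (D.cls r₂ - D.cls r₁) (D.cls q₂ - β (D.cls q₂))) := by
    intro r₁ r₂ q₁ q₂ hr hq
    obtain ⟨m₀, hm₀⟩ : ∃ m₀ : Q, m₀ = r₁⁻¹ * r₂ := ⟨_, rfl⟩
    obtain ⟨B₀, hB₀⟩ : ∃ B₀ : Q, B₀ = q₂ * (Kc b₁ q₂)⁻¹ := ⟨_, rfl⟩
    have c1 : D.cls m₀ = D.cls r₂ - D.cls r₁ := by
      rw [hm₀, D.cls_mul, hinv, neg_add_eq_sub]
    have c2 : D.cls B₀ = D.cls q₂ - β (D.cls q₂) := by
      rw [hB₀, D.cls_mul, hinv, hβ, hL, ← sub_eq_add_neg]
    have c3 := D.ω_cls m₀⁻¹ B₀⁻¹
    rw [hinv, hinv, map_neg, map_neg, LinearMap.neg_apply, neg_neg, c1, c2] at c3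
    rw [← c3]
    have z1 := h.zc (hz q₁ q₂ hq)
    have z2 : ∀ g : H, g * (((m₀⁻¹ : Q) : H) * ((B₀⁻¹ : Q) : H) * (((m₀⁻¹ : Q) : H))⁻¹ * (((B₀⁻¹ : Q) : H))⁻¹) =
        (((m₀⁻¹ : Q) : H) * ((B₀⁻¹ : Q) : H) * (((m₀⁻¹ : Q) : H))⁻¹ * (((B₀⁻¹ : Q) : H))⁻¹) * g := by
      intro g
      rw [c3]
      exact ez_comm h.central _ g
    obtain ⟨κ, hκ⟩ : ∃ κ, κ = ((m₀⁻¹ : Q) : H) * ((B₀⁻¹ : Q) : H) * (((m₀⁻¹ : Q) : H))⁻¹ * (((B₀⁻¹ : Q) : H))⁻¹ :=
      ⟨_, rfl⟩
    rw [← hκ] at z2 ⊢
    obtain ⟨r, hr'⟩ : ∃ t, t = (r₁ : H) := ⟨_, rfl⟩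
    obtain ⟨r', hr''⟩ : ∃ t, t = (r₂ : H) := ⟨_, rfl⟩
    obtain ⟨q, hq'⟩ : ∃ t, t = (q₁ : H) := ⟨_, rfl⟩
    obtain ⟨q', hq''⟩ : ∃ t, t = (q₂ : H) := ⟨_, rfl⟩
    have m1 : (m₀ : H) = r⁻¹ * r' := by rw [hm₀, hr', hr'']; rfl
    have m2 : (B₀ : H) = q' * (b₁ * q' * b₁⁻¹)⁻¹ := by rw [hB₀, hq'']; rfl
    have m3 : κ = (r⁻¹ * r')⁻¹ * (q' * (b₁ * q' * b₁⁻¹)⁻¹)⁻¹ * (r⁻¹ * r') * (q' * (b₁ * q' * b₁⁻¹)⁻¹) := by
      rw [hκ, Subgroup.coe_inv, Subgroup.coe_inv, m1, m2, inv_inv, inv_inv]
    have p1 : Φ q₁ q₂ = (q * (a₁ * q * a₁⁻¹)⁻¹) * ((a₁ * q' * a₁⁻¹) * ((a₁ * b₁) * q' * (a₁ * b₁)⁻¹)⁻¹) := by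
      rw [hq', hq'']
    have p2 : Φ r₁ r₂ = (r * (a₁ * r * a₁⁻¹)⁻¹) * ((a₁ * r' * a₁⁻¹) * ((a₁ * b₁) * r' * (a₁ * b₁)⁻¹)⁻¹) := by
      rw [hr', hr'']
    have p3 : Φ (r₁ * q₁) (r₂ * q₂) = ((r * q) * (a₁ * (r * q) * a₁⁻¹)⁻¹) *
        ((a₁ * (r' * q') * a₁⁻¹) * ((a₁ * b₁) * (r' * q') * (a₁ * b₁)⁻¹)⁻¹) := by
      rw [hr', hr'', hq', hq'']; rfl
    have e1 : Φ (r₁ * q₁) (r₂ * q₂) = r * Φ q₁ q₂ * (a₁ * ((r⁻¹ * r') * κ) * a₁⁻¹) * (a₁ * r' * a₁⁻¹)⁻¹ *
        (a₁ * (r' * (b₁ * r' * b₁⁻¹)⁻¹) * a₁⁻¹) := by
      rw [p3, p1, m3]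
      group
    have e2 : a₁ * ((r⁻¹ * r') * κ) * a₁⁻¹ = κ * (a₁ * (r⁻¹ * r') * a₁⁻¹) := by
      calc a₁ * ((r⁻¹ * r') * κ) * a₁⁻¹ = (a₁ * (r⁻¹ * r')) * κ * a₁⁻¹ := by group
        _ = κ * (a₁ * (r⁻¹ * r')) * a₁⁻¹ := by rw [z2]
        _ = _ := by group
    rw [e1, e2]
    calc r * Φ q₁ q₂ * (κ * (a₁ * (r⁻¹ * r') * a₁⁻¹)) * (a₁ * r' * a₁⁻¹)⁻¹ *
          (a₁ * (r' * (b₁ * r' * b₁⁻¹)⁻¹) * a₁⁻¹)
        = Φ q₁ q₂ * (r * κ) * (a₁ * (r⁻¹ * r') * a₁⁻¹) * (a₁ * r' * a₁⁻¹)⁻¹ *
          (a₁ * (r' * (b₁ * r' * b₁⁻¹)⁻¹) * a₁⁻¹) := by rw [z1]; group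
      _ = Φ q₁ q₂ * (κ * r) * (a₁ * (r⁻¹ * r') * a₁⁻¹) * (a₁ * r' * a₁⁻¹)⁻¹ *
          (a₁ * (r' * (b₁ * r' * b₁⁻¹)⁻¹) * a₁⁻¹) := by rw [z2]
      _ = Φ q₁ q₂ * (κ * Φ r₁ r₂) := by rw [p2]; group
      _ = Φ q₁ q₂ * (Φ r₁ r₂ * κ) := by rw [z2]
      _ = (Φ q₁ q₂ * Φ r₁ r₂) * κ := (mul_assoc _ _ _).symm
      _ = (Φ r₁ r₂ * Φ q₁ q₂) * κ := by rw [z1]
  -- lifts
  have hlift : ∀ r₁ r₂ r₁' r₂' : Q, D.cls r₁ = D.cls r₁' → D.cls r₂ = D.cls r₂' → Φ r₁ r₂ = Φ r₁' r₂' := by
    intro r₁ r₂ r₁' r₂' e1 e2
    rw [D.cls_eq] at e1 e2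
    have z1 := h.zc e1
    have z2 := h.zc e2
    obtain ⟨ζ, hζ⟩ : ∃ ζ, ζ = (r₁ : H)⁻¹ * r₁' := ⟨_, rfl⟩
    obtain ⟨ξ, hξ⟩ : ∃ ξ, ξ = (r₂ : H)⁻¹ * r₂' := ⟨_, rfl⟩
    rw [← hζ] at z1
    rw [← hξ] at z2
    have f1 : (r₁' : H) = r₁ * ζ := by rw [hζ]; group
    have f2 : (r₂' : H) = r₂ * ξ := by rw [hξ]; group
    show (r₁ * (a₁ * r₁ * a₁⁻¹)⁻¹) * ((a₁ * r₂ * a₁⁻¹) * ((a₁ * b₁) * r₂ * (a₁ * b₁)⁻¹)⁻¹) =
      (r₁' * (a₁ * r₁' * a₁⁻¹)⁻¹) * ((a₁ * r₂' * a₁⁻¹) * ((a₁ * b₁) * r₂' * (a₁ * b₁)⁻¹)⁻¹)
    rw [f1, f2]
    have g1 : (r₁ : H) * ζ * (a₁ * (r₁ * ζ) * a₁⁻¹)⁻¹ = r₁ * (a₁ * r₁ * a₁⁻¹)⁻¹ := by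
      calc (r₁ : H) * ζ * (a₁ * (r₁ * ζ) * a₁⁻¹)⁻¹ = r₁ * ((ζ * a₁) * ζ⁻¹) * (r₁ : H)⁻¹ * a₁⁻¹ := by group
        _ = r₁ * ((a₁ * ζ) * ζ⁻¹) * (r₁ : H)⁻¹ * a₁⁻¹ := by rw [z1]
        _ = _ := by group
    have g2 : a₁ * ((r₂ : H) * ξ) * a₁⁻¹ * (a₁ * b₁ * (r₂ * ξ) * (a₁ * b₁)⁻¹)⁻¹ =
        a₁ * r₂ * a₁⁻¹ * (a₁ * b₁ * r₂ * (a₁ * b₁)⁻¹)⁻¹ := by
      calc a₁ * ((r₂ : H) * ξ) * a₁⁻¹ * (a₁ * b₁ * (r₂ * ξ) * (a₁ * b₁)⁻¹)⁻¹
          = a₁ * r₂ * ((ξ * b₁) * ξ⁻¹) * (r₂ : H)⁻¹ * b₁⁻¹ * a₁⁻¹ := by group
        _ = a₁ * r₂ * ((b₁ * ξ) * ξ⁻¹) * (r₂ : H)⁻¹ * b₁⁻¹ * a₁⁻¹ := by rw [z2]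
        _ = _ := by group
    rw [g1, g2]
  choose sec hsec using D.surj
  let F : S → ZMod p := fun s => lg p z (Φ (sec s.1.1) (sec s.1.2))
  have hF : ∀ s : S, ez p z (F s) = Φ (sec s.1.1) (sec s.1.2) := by
    intro s
    exact ez_lg ho (hz _ _ (by rw [hsec, hsec]; exact s.2))
  have hF2 : ∀ r q : S, F (r + q) = F r + F q + bet D.ω β i₁ i₂ r q := by
    intro r q
    apply ez_inj (z := z) ho
    rw [ez_add ho, ez_add ho, hF, hF, hF]
    have h1 := key (sec r.1.1) (sec r.1.2) (sec q.1.1) (sec q.1.2)
      (by rw [hsec, hsec]; exact r.2) (by rw [hsec, hsec]; exact q.2)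
    rw [hsec, hsec, hsec] at h1
    rw [bet_apply, hi₂, hi₁, hi₂, ← h1]
    apply hlift
    · rw [hsec, D.cls_mul, hsec, hsec]; rfl
    · rw [hsec, D.cls_mul, hsec, hsec]; rfl
  -- cardinalities
  have hQV : Nat.card Q ≤ p * Nat.card D.V := by
    have h1 : Nat.card Q ≤ Nat.card (D.V × ZMod p) := by
      refine Nat.card_le_card_of_injective
        (fun x : Q => (D.cls x, lg p z (((sec (D.cls x) : Q) : H)⁻¹ * x))) ?_
      intro x y hxy
      have h2 : D.cls x = D.cls y := congrArg Prod.fst hxy
      have h3 : lg p z (((sec (D.cls x) : Q) : H)⁻¹ * x) = lg p z (((sec (D.cls y) : Q) : H)⁻¹ * y) :=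
        congrArg Prod.snd hxy
      have h4 := ez_lg ho ((D.cls_eq (sec (D.cls x)) x).1 (hsec _))
      have h5 := ez_lg ho ((D.cls_eq (sec (D.cls y)) y).1 (hsec _))
      rw [h3, h5, h2] at h4
      exact Subtype.ext (mul_left_cancel h4).symm
    rw [Nat.card_prod, Nat.card_zmod, mul_comm] at h1
    exact h1
  have hfix : ∀ g : H, p * Nat.card (LinearMap.ker (LinearMap.id - (D.L g : D.V →ₗ[ZMod p] D.V))) ≤
      Nat.card (FixX Q z g) := by
    intro g
    have hfi : Finite (FixX Q z g) := by unfold FixX; infer_instance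
    have hmf : ∀ y : Q, D.cls y ∈ LinearMap.ker (LinearMap.id - (D.L g : D.V →ₗ[ZMod p] D.V)) →
        g * y * g⁻¹ * (y : H)⁻¹ ∈ Subgroup.zpowers z := by
      intro y hy
      rw [LinearMap.mem_ker] at hy
      have h1 : D.cls y - D.L g (D.cls y) = 0 := hy
      rw [hL, sub_eq_zero, D.cls_eq] at h1
      have h2 := h.zc h1 y
      have h3 : g * y * g⁻¹ * (y : H)⁻¹ = (y : H)⁻¹ * (g * y * g⁻¹) := by
        have h4 : (y : H) * ((y : H)⁻¹ * (g * y * g⁻¹)) = ((y : H)⁻¹ * (g * y * g⁻¹)) * y := h2
        rw [mul_inv_cancel_left] at h4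
        rw [mul_inv_eq_iff_eq_mul]
        exact h4
      rw [h3]
      exact h1
    have hzc : ∀ k' : ZMod p, D.cls ⟨ez p z k', h.z_le (ez_mem k')⟩ = 0 := by
      intro k'
      rw [← h00, eq_comm, D.cls_eq]
      show ((1 : Q) : H)⁻¹ * ez p z k' ∈ _
      rw [Subgroup.coe_one, inv_one, one_mul]
      exact ez_mem k'
    have hcl : ∀ (v : D.V) (ε : ZMod p), D.cls (sec v * ⟨ez p z ε, h.z_le (ez_mem ε)⟩) = v := by
      intro v ε
      rw [D.cls_mul, hsec, hzc, add_zero]
    have h1 : Nat.card (LinearMap.ker (LinearMap.id - (D.L g : D.V →ₗ[ZMod p] D.V)) × ZMod p) ≤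
        Nat.card (FixX Q z g) := by
      refine Nat.card_le_card_of_injective
        (fun t => (⟨sec t.1 * ⟨ez p z t.2, h.z_le (ez_mem t.2)⟩, hmf _ (by rw [hcl]; exact t.1.2)⟩ :
          FixX Q z g)) ?_
      rintro ⟨v, ε⟩ ⟨v', ε'⟩ ht
      have h2 : sec v * ⟨ez p z ε, h.z_le (ez_mem ε)⟩ = sec v' * ⟨ez p z ε', h.z_le (ez_mem ε')⟩ :=
        congrArg Subtype.val ht
      have h3 : (v : D.V) = v' := by
        have := congrArg D.cls h2
        rwa [hcl, hcl] at this
      have h4 : v = v' := Subtype.ext h3
      subst h4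
      have h5 := congrArg Subtype.val (mul_left_cancel h2)
      have h6 : ε = ε' := ez_inj ho h5
      rw [h6]
    rw [Nat.card_prod, Nat.card_zmod, mul_comm] at h1
    exact h1
  have hcard : ∀ W : Submodule (ZMod p) D.V, Nat.card W = p ^ finrank (ZMod p) W := by
    intro W
    have := Module.natCard_eq_pow_finrank (K := ZMod p) (V := W)
    rwa [Nat.card_zmod] at this
  have hcV : Nat.card D.V = p ^ finrank (ZMod p) D.V := by
    have := Module.natCard_eq_pow_finrank (K := ZMod p) (V := D.V)
    rwa [Nat.card_zmod] at this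
  have hf1 := hfix a
  have hf2 := hfix b
  have hf3 := hfix (a * b)
  rw [hcard] at hf1 hf2 hf3
  rw [hcV] at hQV
  have eα : α = (D.L a : D.V →ₗ[ZMod p] D.V) := LinearMap.ext hLa
  have eβ : β = (D.L b : D.V →ₗ[ZMod p] D.V) := LinearMap.ext hLb
  have eγ : γ = (D.L (a * b) : D.V →ₗ[ZMod p] D.V) := LinearMap.ext hLab
  rw [← eα] at hf1
  rw [← eβ] at hf2
  rw [← eγ] at hf3
  have hdim : finrank (ZMod p) (LinearMap.ker (LinearMap.id - α)) + finrank (ZMod p) (LinearMap.ker (LinearMap.id - β)) +
      finrank (ZMod p) (LinearMap.ker (LinearMap.id - γ)) + 2 ≤ finrank (ZMod p) D.V := by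
    have h1 : (p * p ^ finrank (ZMod p) (LinearMap.ker (LinearMap.id - α))) *
        (p * p ^ finrank (ZMod p) (LinearMap.ker (LinearMap.id - β))) *
        (p * p ^ finrank (ZMod p) (LinearMap.ker (LinearMap.id - γ))) ≤ p * p ^ finrank (ZMod p) D.V :=
      (Nat.mul_le_mul (Nat.mul_le_mul hf1 hf2) hf3).trans (hle.trans hQV)
    rw [← pow_succ', ← pow_succ', ← pow_succ', ← pow_succ', ← pow_add, ← pow_add] at h1
    have h2 := (Nat.pow_le_pow_iff_right hp.out.one_lt).1 h1
    omega
  obtain ⟨s, hs⟩ := surj_of_rank hp2 F (bet D.ω β i₁ i₂) hF2 (by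
    intro R hR
    have h1 := rank_p D.ω hnd α β γ hαβ i₁ i₂ (fun r h1 h2 => Subtype.ext (Prod.ext h1 h2)) hrel
      (finrank_ker_phi α γ hsurj) R hR
    have h2 : finrank (ZMod p) S = finrank (ZMod p) D.V := finrank_ker_phi α γ hsurj
    omega) k
  have h1 := hF s
  rw [hs] at h1
  refine ⟨sec s.1.1 * u₀, Q.mul_mem (sec s.1.1).2 hu₀, sec s.1.2 * w₀, Q.mul_mem (sec s.1.2).2 hw₀, ?_⟩
  have e1 : ((sec s.1.1 : Q) : H) * u₀ * a * (((sec s.1.1 : Q) : H) * u₀)⁻¹ = (sec s.1.1 : Q) * a₁ * (((sec s.1.1 : Q) : H))⁻¹ := by
    rw [ha₁]; group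
  have e2 : ((sec s.1.2 : Q) : H) * w₀ * b * (((sec s.1.2 : Q) : H) * w₀)⁻¹ = (sec s.1.2 : Q) * b₁ * (((sec s.1.2 : Q) : H))⁻¹ := by
    rw [hb₁]; group
  rw [e1, e2, hΦ, ← h1, ← hc, ez_comm h.central]

/-! ### corollaries -/

omit hp in
/-- **No numerical condition if `g` is conjugate to `g z` under `Q`.** -/
theorem XS.prod_conj (h : XS p Q z) {a b x y : H} (hcov : Cov a b Q (Subgroup.zpowers z))
    (hx : x ∈ Q) (hy : y ∈ Q) (hyg : y * (a * b * x) * y⁻¹ = a * b * x * z) :
    ∃ u ∈ Q, ∃ w ∈ Q, (u * a * u⁻¹) * (w * b * w⁻¹) = a * b * x := by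
  have hn := h.normal
  have hzn := h.normal_zpowers
  obtain ⟨u₀, hu₀, w₀, hw₀, n, hn'⟩ := step hcov hx
  obtain ⟨g, hg⟩ : ∃ g, g = a * b * x := ⟨_, rfl⟩
  rw [← hg] at hyg hn' ⊢
  -- `y ^ m g y ^ (-m) = g z ^ m`
  have hz0 : Commute z y := (h.central y).symm
  have hyg' : y * g = g * z * y := by rw [← hyg]; group
  have key : ∀ m : ℕ, y ^ m * g = g * z ^ m * y ^ m := by
    intro m
    induction m with
    | zero => simp
    | succ m ih =>
      calc y ^ (m + 1) * g = y ^ m * (y * g) := by rw [pow_succ]; group
        _ = (y ^ m * g) * (z * y) := by rw [hyg']; group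
        _ = g * z ^ m * (y ^ m * z) * y := by rw [ih]; group
        _ = g * z ^ m * (z * y ^ m) * y := by rw [(hz0.pow_right m).eq]
        _ = _ := by rw [pow_succ z, pow_succ y]; group
  have key' : ∀ m : ℤ, y ^ m * g * (y ^ m)⁻¹ = g * z ^ m := by
    intro m
    rcases Int.eq_nat_or_neg m with ⟨j, rfl | rfl⟩
    · rw [zpow_natCast, zpow_natCast, key, mul_assoc, mul_inv_cancel, mul_one]
    · rw [zpow_neg, zpow_neg, zpow_natCast, zpow_natCast, inv_inv]
      have h1 := key j
      have h2 : Commute (z ^ j) (y ^ j) := (hz0.pow_right j).pow_left j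
      have h3 : (y ^ j)⁻¹ * g * y ^ j * z ^ j = g := by
        calc (y ^ j)⁻¹ * g * y ^ j * z ^ j = (y ^ j)⁻¹ * (g * (y ^ j * z ^ j)) := by group
          _ = (y ^ j)⁻¹ * (g * z ^ j * y ^ j) := by rw [← h2.eq]; group
          _ = (y ^ j)⁻¹ * (y ^ j * g) := by rw [h1]
          _ = g := by group
      exact eq_mul_inv_of_mul_eq h3
  have h1 : (u₀ * a * u₀⁻¹) * (w₀ * b * w₀⁻¹) = g * z ^ (-n) := by
    have h2 : z ^ n = ((u₀ * a * u₀⁻¹) * (w₀ * b * w₀⁻¹))⁻¹ * g := hn'
    rw [zpow_neg, h2]
    group
  rw [← key'] at h1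
  refine ⟨y ^ n * u₀, Q.mul_mem (Q.zpow_mem hy n) hu₀, y ^ n * w₀, Q.mul_mem (Q.zpow_mem hy n) hw₀, ?_⟩
  calc (y ^ n * u₀ * a * (y ^ n * u₀)⁻¹) * (y ^ n * w₀ * b * (y ^ n * w₀)⁻¹)
      = y ^ n * ((u₀ * a * u₀⁻¹) * (w₀ * b * w₀⁻¹)) * (y ^ n)⁻¹ := by group
    _ = g := by rw [h1, zpow_neg]; group

/-- `V = [V, a] + [V, b]` if `a` and `b` have no common fixed vector on `V = Q / ⟨z⟩`. -/
theorem XS.cov_of_inf (h : XS p Q z) [Finite Q] {a b : H}
    (hinf : ∀ x ∈ Q, a * x * a⁻¹ * x⁻¹ ∈ Subgroup.zpowers z → b * x * b⁻¹ * x⁻¹ ∈ Subgroup.zpowers z →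
      x ∈ Subgroup.zpowers z) : Cov a b Q (Subgroup.zpowers z) := by
  classical
  have ho := h.ord
  obtain ⟨D⟩ := h.exists_xdata
  let _ := D.acg
  let _ := D.mod
  have hfin := D.fin
  have : FiniteDimensional (ZMod p) D.V := Module.Finite.of_finite
  let Kc : H → Q → Q := fun g x => ⟨g * x * g⁻¹, h.conj_mem x.2 g⟩
  have hL : ∀ g x, D.L g (D.cls x) = D.cls (Kc g x) := fun g x => D.L_cls g x _ rfl
  have h00 : D.cls 1 = 0 := by
    have := D.cls_mul 1 1
    rw [mul_one] at this
    have h2 : D.cls 1 + 0 = D.cls 1 + D.cls 1 := by rw [add_zero]; exact this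
    exact (add_left_cancel h2).symm
  have hinv : ∀ x : Q, D.cls x⁻¹ = - D.cls x := by
    intro x
    rw [eq_neg_iff_add_eq_zero, ← D.cls_mul, inv_mul_cancel, h00]
  have hnd : ∀ v, (∀ u, D.ω u v = 0) → v = 0 := by
    intro v hv
    obtain ⟨y, rfl⟩ := D.surj v
    have h1 := h.nd y y.2 (fun w hw => by
      have h2 := D.ω_cls ⟨w, hw⟩ y
      rw [hv, ez_zero] at h2
      have h3 : (w : H) * y = y * w := by
        have h4 : (w : H) * y * w⁻¹ = y := mul_inv_eq_one.1 h2
        rw [mul_inv_eq_iff_eq_mul] at h4
        exact h4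
      exact h3.symm)
    rw [← h00, eq_comm, D.cls_eq]
    simpa using h1
  have hωi : ∀ g u v, D.ω (D.L g u) (D.L g v) = D.ω u v := by
    intro g u v
    obtain ⟨x, rfl⟩ := D.surj u
    obtain ⟨y, rfl⟩ := D.surj v
    rw [hL, hL]
    apply ez_inj (z := z) ho
    rw [← D.ω_cls, ← D.ω_cls]
    show (g * x * g⁻¹) * (g * y * g⁻¹) * (g * x * g⁻¹)⁻¹ * (g * y * g⁻¹)⁻¹ = _
    have h1 := h.zc (h.comm x x.2 y y.2) g
    calc (g * x * g⁻¹) * (g * y * g⁻¹) * (g * x * g⁻¹)⁻¹ * (g * y * g⁻¹)⁻¹
        = g * ((x : H) * y * (x : H)⁻¹ * (y : H)⁻¹) * g⁻¹ := by group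
      _ = _ := by rw [h1]; group
  obtain ⟨W, hW⟩ : ∃ W : Submodule (ZMod p) D.V,
      W = LinearMap.range (LinearMap.id - (D.L a : D.V →ₗ[ZMod p] D.V)) ⊔
        LinearMap.range (LinearMap.id - (D.L b : D.V →ₗ[ZMod p] D.V)) := ⟨_, rfl⟩
  let η : D.V →ₗ[ZMod p] Dual (ZMod p) D.V := D.ω.flip
  have hη : ∀ v u, η v u = D.ω u v := fun v u => rfl
  have hηinj : Function.Injective η := by
    rw [injective_iff_map_eq_zero]
    intro v hv
    apply hnd
    intro u
    rw [← hη, hv, LinearMap.zero_apply]
  have hηs : Function.Surjective η :=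
    (LinearMap.injective_iff_surjective_of_finrank_eq_finrank Subspace.dual_finrank_eq.symm).1 hηinj
  have hWt : W = ⊤ := by
    rw [← Subspace.dualAnnihilator_inj, Submodule.dualAnnihilator_top, eq_bot_iff]
    intro f hf
    rw [Submodule.mem_dualAnnihilator] at hf
    obtain ⟨v, rfl⟩ := hηs f
    have hfixv : ∀ g, (∀ u, (u - D.L g u) ∈ W) → D.L g v = v := by
      intro g hg
      apply sub_eq_zero.1
      apply hnd
      intro u
      obtain ⟨u', rfl⟩ : ∃ u', D.L g u' = u := ⟨(D.L g).symm u, (D.L g).apply_symm_apply u⟩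
      have h1 := hf _ (hg u')
      rw [hη, map_sub, LinearMap.sub_apply, sub_eq_zero] at h1
      rw [map_sub, hωi, h1, sub_self]
    have hv1 := hfixv a (fun u => by rw [hW]; exact Submodule.mem_sup_left ⟨u, rfl⟩)
    have hv2 := hfixv b (fun u => by rw [hW]; exact Submodule.mem_sup_right ⟨u, rfl⟩)
    obtain ⟨y, rfl⟩ := D.surj v
    rw [hL, eq_comm, D.cls_eq] at hv1 hv2
    have hc1 : ∀ g : H, (y : H)⁻¹ * (g * y * g⁻¹) ∈ Subgroup.zpowers z → g * y * g⁻¹ * (y : H)⁻¹ ∈ Subgroup.zpowers z := by
      intro g h1
      have h2 := h.zc h1 y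
      rw [mul_inv_cancel_left] at h2
      have h3 : g * y * g⁻¹ * (y : H)⁻¹ = (y : H)⁻¹ * (g * y * g⁻¹) := by
        rw [mul_inv_eq_iff_eq_mul]
        exact h2
      rw [h3]; exact h1
    have h3 := hinf y y.2 (hc1 a hv1) (hc1 b hv2)
    have h4 : D.cls y = 0 := by
      rw [← h00, eq_comm, D.cls_eq]
      simpa using h3
    rw [h4, map_zero]
    exact Submodule.zero_mem _
  intro x hx
  have h1 : D.cls ⟨x, hx⟩ ∈ W := by rw [hWt]; trivial
  rw [hW, Submodule.mem_sup] at h1
  obtain ⟨_, ⟨v₁, rfl⟩, _, ⟨v₂, rfl⟩, h2⟩ := h1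
  obtain ⟨y₁, rfl⟩ := D.surj v₁
  obtain ⟨y₂, rfl⟩ := D.surj v₂
  have h3 : (D.cls y₁ - D.L a (D.cls y₁)) + (D.cls y₂ - D.L b (D.cls y₂)) = D.cls ⟨x, hx⟩ := h2
  rw [hL, hL, sub_eq_add_neg, sub_eq_add_neg, ← hinv, ← hinv, ← D.cls_mul, ← D.cls_mul, ← D.cls_mul, eq_comm,
    D.cls_eq] at h3
  refine ⟨y₁, y₁.2, y₂, y₂.2, ?_⟩
  have h4 : ((((y₁ * (Kc a y₁)⁻¹) * (y₂ * (Kc b y₂)⁻¹) : Q)) : H) = ⁅(y₁ : H), a⁆ * ⁅(y₂ : H), b⁆ := by
    show (y₁ * (a * y₁ * a⁻¹)⁻¹) * (y₂ * (b * y₂ * b⁻¹)⁻¹) = ⁅(y₁ : H), a⁆ * ⁅(y₂ : H), b⁆
    simp only [commutatorElement_def]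
    group
  rw [h4] at h3
  exact h3

/-- `a` without fixed vector -/
theorem XS.cov_of_left (h : XS p Q z) [Finite Q] {a : H} (b : H)
    (hfix : ∀ x ∈ Q, a * x * a⁻¹ * x⁻¹ ∈ Subgroup.zpowers z → x ∈ Subgroup.zpowers z) :
    Cov a b Q (Subgroup.zpowers z) :=
  h.cov_of_inf (fun x hx h1 _ => hfix x hx h1)

omit hp in
/-- only the coset matters -/
theorem fixX_mul (h : XS p Q z) {y : H} (hy : y ∈ Q) (a : H) : FixX Q z (y * a) = FixX Q z a := by
  unfold FixX
  congr 1
  funext x
  apply propext
  have h1 := h.comm y hy _ (h.conj_mem x.2 a)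
  have e : y * a * x * (y * a)⁻¹ * (x : H)⁻¹ = (y * (a * x * a⁻¹) * y⁻¹ * (a * x * a⁻¹)⁻¹) * (a * x * a⁻¹ * (x : H)⁻¹) := by
    group
  rw [e]
  exact Subgroup.mul_mem_cancel_left _ h1

theorem card_fixX_le (ho : orderOf z = p) {a : H}
    (hfix : ∀ x ∈ Q, a * x * a⁻¹ * x⁻¹ ∈ Subgroup.zpowers z → x ∈ Subgroup.zpowers z) :
    Nat.card (FixX Q z a) ≤ p := by
  have h0 : Finite (Subgroup.zpowers z) := by
    apply Nat.finite_of_card_ne_zero
    rw [Nat.card_zpowers, ho]
    exact hp.out.ne_zero
  have h1 : Nat.card (FixX Q z a) ≤ Nat.card (Subgroup.zpowers z) := by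
    refine Nat.card_le_card_of_injective
      (fun x : FixX Q z a => (⟨x.1, hfix x.1 x.1.2 x.2⟩ : Subgroup.zpowers z)) ?_
    intro x y hxy
    have h2 : ((x.1 : Q) : H) = ((y.1 : Q) : H) := congrArg (fun w : Subgroup.zpowers z => (w : H)) hxy
    exact Subtype.ext (Subtype.ext h2)
  rwa [Nat.card_zpowers, ho] at h1

omit hp in
theorem XS.pow_sq (h : XS p Q z) {x : H} (hx : x ∈ Q) : x ^ (p ^ 2) = 1 := by
  obtain ⟨n, hn⟩ := h.pow x hx
  have hn' : z ^ n = x ^ p := hn
  rw [pow_two, pow_mul, ← hn', ← zpow_natCast, ← zpow_mul, mul_comm, zpow_mul, zpow_natCast, ← h.ord,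
    pow_orderOf_eq_one, one_zpow]

omit hp in
/-- lifting both factors -/
theorem XS.exists_lift₂ {K : Type*} [Group K] (f : H →* K) (h : XS p f.ker z) {n : ℕ} (hn : p ∣ n)
    {a b g : H} (hcov : Cov a b f.ker (Subgroup.zpowers z)) (hg : f g = f a * f b)
    (ha : (orderOf (f a)).Coprime n) (hb : (orderOf (f b)).Coprime n) :
    ∃ y ∈ f.ker, ∃ t ∈ f.ker, ∃ x ∈ f.ker, (orderOf (a * y)).Coprime n ∧ (orderOf (b * t)).Coprime n ∧
      (a * y) * (b * t) * x = g ∧ Cov (a * y) (b * t) f.ker (Subgroup.zpowers z) ∧
      FixX f.ker z (a * y) = FixX f.ker z a ∧ FixX f.ker z (b * t) = FixX f.ker z b ∧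
      FixX f.ker z (a * y * (b * t)) = FixX f.ker z (a * b) := by
  have hzn := h.normal_zpowers
  have hex : ∀ x ∈ f.ker, ∃ k : ℕ, x ^ n ^ k = 1 := by
    intro x hx
    refine ⟨2, ?_⟩
    obtain ⟨m, rfl⟩ := hn
    rw [mul_pow, pow_mul, h.pow_sq hx, one_pow]
  obtain ⟨y, hy, hay⟩ := exists_lift f rfl hex ha
  obtain ⟨t, ht, hbt⟩ := exists_lift f rfl hex hb
  have e1 : a * y = (a * y * a⁻¹) * a := by group
  have e2 : b * t = (b * t * b⁻¹) * b := by group
  have m1 := h.conj_mem hy a
  have m2 := h.conj_mem ht b
  have m3 : (a * y * a⁻¹) * (a * (b * t * b⁻¹) * a⁻¹) ∈ f.ker := f.ker.mul_mem m1 (h.conj_mem m2 a)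
  have e3 : (a * y) * (b * t) = ((a * y * a⁻¹) * (a * (b * t * b⁻¹) * a⁻¹)) * (a * b) := by group
  have hm : (a * y * (b * t))⁻¹ * g ∈ f.ker := by
    rw [MonoidHom.mem_ker] at hy ht ⊢
    rw [map_mul, map_inv, map_mul, map_mul, map_mul, hy, ht, hg, mul_one, mul_one, inv_mul_cancel]
  have hcm : ∀ y ∈ f.ker, ∀ x ∈ f.ker, ⁅x, y⁆ ∈ Subgroup.zpowers z := fun y hy x hx => by
    rw [commutatorElement_def]; exact h.comm x hx y hy
  refine ⟨y, hy, t, ht, _, hm, hay, hbt, mul_inv_cancel_left _ _, hcov.congr (hcm y hy) (hcm t ht), ?_, ?_, ?_⟩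
  · rw [e1, fixX_mul h m1]
  · rw [e2, fixX_mul h m2]
  · rw [e3, fixX_mul h m3]

/-- **Lifting products of two elements of order prime to `n` through an extraspecial kernel.** -/
theorem Pr.of_xs {K : Type*} [Group K] (hp2 : p ≠ 2) (f : H →* K) (h : XS p f.ker z) [Finite f.ker] {n : ℕ}
    (hn : p ∣ n) {a b g : H} (hcov : Cov a b f.ker (Subgroup.zpowers z))
    (hle : Nat.card (FixX f.ker z a) * Nat.card (FixX f.ker z b) * Nat.card (FixX f.ker z (a * b)) ≤
      Nat.card f.ker) (hg : f g = f a * f b)
    (ha : (orderOf (f a)).Coprime n) (hb : (orderOf (f b)).Coprime n) : Pr n g := by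
  obtain ⟨y, -, t, -, x, hx, h1, h2, h3, h4, h5, h6, h7⟩ := h.exists_lift₂ f hn hcov hg ha hb
  obtain ⟨u, -, w, -, e⟩ := h.prod_step hp2 h4 hx (by rw [h5, h6, h7]; exact hle)
  rw [h3] at e
  refine ⟨u * (a * y) * u⁻¹, w * (b * t) * w⁻¹, e.symm, ?_, ?_⟩
  · rw [show u * (a * y) * u⁻¹ = MulAut.conj u (a * y) from rfl, MulEquiv.orderOf_eq]; exact h1
  · rw [show w * (b * t) * w⁻¹ = MulAut.conj w (b * t) from rfl, MulEquiv.orderOf_eq]; exact h2

omit hp in
/-- **The same without numerical condition if `g` is conjugate to `g z`.** -/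
theorem Pr.of_xs_conj {K : Type*} [Group K] (f : H →* K) (h : XS p f.ker z) {n : ℕ}
    (hn : p ∣ n) {a b g : H} (hcov : Cov a b f.ker (Subgroup.zpowers z))
    (hyg : ∃ y ∈ f.ker, y * g * y⁻¹ = g * z) (hg : f g = f a * f b)
    (ha : (orderOf (f a)).Coprime n) (hb : (orderOf (f b)).Coprime n) : Pr n g := by
  obtain ⟨y, -, t, -, x, hx, h1, h2, h3, h4, -⟩ := h.exists_lift₂ f hn hcov hg ha hb
  obtain ⟨y', hy', hyg⟩ := hyg
  obtain ⟨u, -, w, -, e⟩ := h.prod_conj h4 hx hy' (by rw [h3]; exact hyg)
  rw [h3] at e
  refine ⟨u * (a * y) * u⁻¹, w * (b * t) * w⁻¹, e.symm, ?_, ?_⟩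
  · rw [show u * (a * y) * u⁻¹ = MulAut.conj u (a * y) from rfl, MulEquiv.orderOf_eq]; exact h1
  · rw [show w * (b * t) * w⁻¹ = MulAut.conj w (b * t) from rfl, MulEquiv.orderOf_eq]; exact h2

omit hp in
/-- a noncentral element of `Q` is conjugate to its product with `z` -/
theorem XS.exists_conj_z [hp : Fact p.Prime] (h : XS p Q z) {q : H} (hq : q ∈ Q) (hne : q ∉ Subgroup.zpowers z) :
    ∃ y ∈ Q, y * q * y⁻¹ = q * z := by
  have : ∃ y ∈ Q, ¬ (q * y = y * q) := by
    by_contra hno
    push Not at hno
    exact hne (h.nd q hq hno)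
  obtain ⟨y, hy, hyq⟩ := this
  obtain ⟨k, hk⟩ := exists_ez h.ord (h.comm y hy q hq)
  have hk0 : k ≠ 0 := by
    rintro rfl
    rw [ez_zero] at hk
    apply hyq
    have h1 : y * q * y⁻¹ = q := mul_inv_eq_one.1 hk.symm
    rw [mul_inv_eq_iff_eq_mul] at h1
    exact h1.symm
  -- a power of `y`
  have key : ∀ m : ℕ, y ^ m * q * (y ^ m)⁻¹ = q * ez p z (m * k) := by
    intro m
    induction m with
    | zero => simp [ez_zero]
    | succ m ih =>
      have h1 : y * q * y⁻¹ = q * ez p z k := by
        rw [ez_comm h.central, hk]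
        group
      calc y ^ (m + 1) * q * (y ^ (m + 1))⁻¹ = y * (y ^ m * q * (y ^ m)⁻¹) * y⁻¹ := by rw [pow_succ']; group
        _ = (y * q * y⁻¹) * (y * ez p z (m * k) * y⁻¹) := by rw [ih]; group
        _ = (y * q * y⁻¹) * ez p z (m * k) := by rw [ez_comm h.central]; group
        _ = q * ez p z k * ez p z (m * k) := by rw [h1]
        _ = q * ez p z ((m + 1 : ℕ) * k) := by
          rw [mul_assoc, ← ez_add h.ord]
          congr 2
          push_cast
          ring
  refine ⟨y ^ (k⁻¹).val, Q.pow_mem hy _, ?_⟩
  rw [key, ZMod.natCast_val, ZMod.cast_id, inv_mul_cancel₀ hk0, ez_one h.ord]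

/-- **The noncentral elements of `Q`.** -/
theorem Pr.of_xs_mem (h : XS p Q z) [Finite Q] {n : ℕ} {a : H} (hord : (orderOf a).Coprime n)
    (hfix : ∀ x ∈ Q, a * x * a⁻¹ * x⁻¹ ∈ Subgroup.zpowers z → x ∈ Subgroup.zpowers z)
    {q : H} (hq : q ∈ Q) (hne : q ∉ Subgroup.zpowers z) : Pr n q := by
  obtain ⟨y, hy, hyq⟩ := h.exists_conj_z hq hne
  obtain ⟨u, -, w, -, e⟩ := h.prod_conj (h.cov_of_left a⁻¹ hfix) hq hy (by
    rw [mul_inv_cancel, one_mul]; exact hyq)
  rw [mul_inv_cancel, one_mul] at e
  refine ⟨u * a * u⁻¹, w * a⁻¹ * w⁻¹, e.symm, ?_, ?_⟩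
  · rw [show u * a * u⁻¹ = MulAut.conj u a from rfl, MulEquiv.orderOf_eq]; exact hord
  · rw [show w * a⁻¹ * w⁻¹ = MulAut.conj w a⁻¹ from rfl, MulEquiv.orderOf_eq, orderOf_inv]; exact hord

end Main

end Cfsg.Agent.H323.Pw

private theorem dce_0d251745645d : _root_.True := by
  try have : _root_.True := by simp only [_root_.Cfsg.Agent.H323.Pw.ez.eq_1]
  exact _root_.True.intro
end

-- part: H267/Pw/SpDef
section
prune_inst 0x352075443d6202000818009623203c66ee000592002bc001f9e00f420fc79f63a0c12f61fef01f1293feb2f5787fc04811100159425000002e00ba00411a01a0842f7ae6973cbe043f0009c0f887180c00000000000000000000000000041004000000000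
set_option linter.all false
open scoped Cfsg.Agent.FastGrp

/-!
# Pairs of elements of order 13 in `SL_3(3)` (helper267; S2465, `F_4(3)`, piece F-E3)

Kernel check: for every block companion matrix `A` of determinant 1 over the field with three elements there are two
factorizations `A = c₁ c₂ = c₁' c₂'` into elements of order 13 such that no pair `(S, T)` of symmetric matrices is bad for both.
-/

set_option autoImplicit false
set_option maxRecDepth 100000

namespace Cfsg.Agent.H267.Pw

/-- 3 × 3 matrices with entries in `ℕ` (modulo 3) -/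
structure M9 where
  (a b c d e f g h i : ℕ)

namespace M9

/-- product modulo 3 -/
def mul (x y : M9) : M9 :=
  ⟨(x.a*y.a + x.b*y.d + x.c*y.g) % 3, (x.a*y.b + x.b*y.e + x.c*y.h) % 3, (x.a*y.c + x.b*y.f + x.c*y.i) % 3,
   (x.d*y.a + x.e*y.d + x.f*y.g) % 3, (x.d*y.b + x.e*y.e + x.f*y.h) % 3, (x.d*y.c + x.e*y.f + x.f*y.i) % 3,
   (x.g*y.a + x.h*y.d + x.i*y.g) % 3, (x.g*y.b + x.h*y.e + x.i*y.h) % 3, (x.g*y.c + x.h*y.f + x.i*y.i) % 3⟩

/-- transpose -/
def tr (x : M9) : M9 := ⟨x.a, x.d, x.g, x.b, x.e, x.h, x.c, x.f, x.i⟩

/-- difference modulo 3 -/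
def sub (x y : M9) : M9 :=
  ⟨(x.a + 2*y.a) % 3, (x.b + 2*y.b) % 3, (x.c + 2*y.c) % 3, (x.d + 2*y.d) % 3, (x.e + 2*y.e) % 3, (x.f + 2*y.f) % 3,
   (x.g + 2*y.g) % 3, (x.h + 2*y.h) % 3, (x.i + 2*y.i) % 3⟩

/-- determinant modulo 3 -/
def det (x : M9) : ℕ :=
  (x.a*(x.e*x.i + 2*(x.f*x.h)) + x.b*(x.f*x.g + 2*(x.d*x.i)) + x.c*(x.d*x.h + 2*(x.e*x.g))) % 3

/-- inverse modulo 3 (adjugate times the determinant) -/
def inv (x : M9) : M9 :=
  let t := x.det
  ⟨(t*(x.e*x.i + 2*(x.f*x.h))) % 3, (t*(x.c*x.h + 2*(x.b*x.i))) % 3, (t*(x.b*x.f + 2*(x.c*x.e))) % 3,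
   (t*(x.f*x.g + 2*(x.d*x.i))) % 3, (t*(x.a*x.i + 2*(x.c*x.g))) % 3, (t*(x.c*x.d + 2*(x.a*x.f))) % 3,
   (t*(x.d*x.h + 2*(x.e*x.g))) % 3, (t*(x.b*x.g + 2*(x.a*x.h))) % 3, (t*(x.a*x.e + 2*(x.b*x.d))) % 3⟩

/-- equality modulo 3 -/
def eqb (x y : M9) : Bool :=
  x.a % 3 == y.a % 3 && x.b % 3 == y.b % 3 && x.c % 3 == y.c % 3 && x.d % 3 == y.d % 3 && x.e % 3 == y.e % 3 &&
    x.f % 3 == y.f % 3 && x.g % 3 == y.g % 3 && x.h % 3 == y.h % 3 && x.i % 3 == y.i % 3

/-- the symmetric matrix with six given entries -/
def sy (a b c d e f : ℕ) : M9 := ⟨a, b, c, b, d, e, c, e, f⟩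

/-- `X - kᵀ X k` -/
def fS (k X : M9) : M9 := X.sub ((k.tr.mul X).mul k)

/-- `k Y kᵀ - Y` -/
def gT (k Y : M9) : M9 := ((k.mul Y).mul k.tr).sub Y

/-- linear form -/
def lf (l : List ℕ) (a b c d e f : ℕ) : ℕ :=
  (l.getD 0 0 * a + l.getD 1 0 * b + l.getD 2 0 * c + l.getD 3 0 * d + l.getD 4 0 * e + l.getD 5 0 * f) % 3

/-- linear map on symmetric matrices -/
def lin (L : List (List ℕ)) (a b c d e f : ℕ) : M9 :=
  sy (lf (L.getD 0 []) a b c d e f) (lf (L.getD 1 []) a b c d e f) (lf (L.getD 2 []) a b c d e f)
    (lf (L.getD 3 []) a b c d e f) (lf (L.getD 4 []) a b c d e f) (lf (L.getD 5 []) a b c d e f)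

/-- the identity matrix -/
def one : M9 := ⟨1, 0, 0, 0, 1, 0, 0, 0, 1⟩

/-- the block companion matrices -/
def bl (b0 b1 : Bool) (c0 c1 c2 : ℕ) : M9 :=
  match b0, b1 with
  | false, false => ⟨0, 0, c0, 1, 0, c1, 0, 1, c2⟩
  | false, true => ⟨0, c0, 0, 1, c1, 0, 0, 0, c2⟩
  | true, false => ⟨c0, 0, 0, 0, 0, c1, 0, 1, c2⟩
  | true, true => ⟨c0, 0, 0, 0, c1, 0, 0, 0, c2⟩

/-- scalar matrix -/
def scl (t : ℕ) : M9 := ⟨t, 0, 0, 0, t, 0, 0, 0, t⟩

/-- `c³ = t c² + s c + 1` and `k³ - t k² - s k - 1` is invertible -/
def ckP (c k : M9) (t s : ℕ) : Bool :=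
  (((c.mul c).mul c).sub ((c.mul c).mul (scl t))).eqb ((c.mul (scl s)).sub (scl 2)) &&
    (((((k.mul k).mul k).sub ((k.mul k).mul (scl t))).sub (k.mul (scl s))).sub (scl 1)).det != 0

/-- order 13, inverse, no fixed points on forms -/
def ok13 (c k : M9) : Bool :=
  let c2 := c.mul c
  let c3 := c2.mul c
  let c6 := c3.mul c3
  ((c6.mul c6).mul c).eqb one && (c.mul k).eqb one && c.det == 1 && !(c.eqb one) &&
    (List.range 3).any fun t => (List.range 3).any fun s => ckP c k t s

/-- the check for one symmetric matrix -/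
def ckX (k₁ k₂ l₁ l₂ : M9) (L : List (List ℕ)) (a b c d e f : ℕ) : Bool :=
  (sy a b c d e f).det == 0 ||
    (let X' := lin L a b c d e f
     (fS k₁ (sy a b c d e f)).eqb (fS l₁ X') &&
      (X'.det == 0 || !((gT k₂ (sy a b c d e f).inv).eqb (gT l₂ X'.inv))))

/-- the check for all symmetric matrices -/
def ckA (k₁ k₂ l₁ l₂ : M9) (L : List (List ℕ)) : Bool :=
  (List.range 3).all fun a => (List.range 3).all fun b => (List.range 3).all fun c => (List.range 3).all fun d =>
    (List.range 3).all fun e => (List.range 3).all fun f => ckX k₁ k₂ l₁ l₂ L a b c d e f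

end M9

open M9

/-- data of one matrix -/
structure Dt where
  (c₁ c₂ k₁ k₂ d₁ d₂ l₁ l₂ : M9)
  L : List (List ℕ)

/-- the check for one matrix -/
def Dt.ck (A : M9) (x : Dt) : Bool :=
  (x.c₁.mul x.c₂).eqb A && (x.d₁.mul x.d₂).eqb A && ok13 x.c₁ x.k₁ && ok13 x.c₂ x.k₂ && ok13 x.d₁ x.l₁ && ok13 x.d₂ x.l₂ &&
    ckA x.k₁ x.k₂ x.l₁ x.l₂ x.L

/-! ### all symmetric matrices at once: a vector of `729` residues modulo 3 is a pair of bit masks -/

namespace Bs

set_option genSizeOf false in
set_option genInjectivity false in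
/-- the positions of the residues 1 and 2 -/
structure T where
  (p m : ℕ)

/-- the residue at the position `i` is the one of `v` -/
def R (i : ℕ) (x : T) (v : ℕ) : Prop := x.p.testBit i = (v % 3 == 1) ∧ x.m.testBit i = (v % 3 == 2)

/-- sum -/
def ta (x y : T) : T :=
  ⟨((x.p ||| y.m) ^^^ (x.m ||| y.p)) ^^^ (x.m ||| y.m), ((x.p ||| y.m) ^^^ (x.m ||| y.p)) ^^^ (x.p ||| y.p)⟩

/-- product -/
def tm (x y : T) : T := ⟨(x.p &&& y.p) ||| (x.m &&& y.m), (x.p &&& y.m) ||| (x.m &&& y.p)⟩

/-- constant -/
def cst (c : ℕ) : T := ⟨cond (c % 3 == 1) (2 ^ 729 - 1) 0, cond (c % 3 == 2) (2 ^ 729 - 1) 0⟩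

/-- the positions where `x` and `y` differ -/
def ne (x y : T) : ℕ := (x.p ^^^ y.p) ||| (x.m ^^^ y.m)

variable {i u v : ℕ} {x y : T}

theorem R.add (hx : R i x u) (hy : R i y v) : R i (ta x y) (u + v) := by
  have key : ∀ r < 3, ∀ s < 3,
      ((((r == 1) || (s == 2)) ^^ ((r == 2) || (s == 1))) ^^ ((r == 2) || (s == 2))) = ((r + s) % 3 == 1) ∧
      ((((r == 1) || (s == 2)) ^^ ((r == 2) || (s == 1))) ^^ ((r == 1) || (s == 1))) = ((r + s) % 3 == 2) := by decide
  simp only [R, ta, Nat.testBit_xor, Nat.testBit_or, hx.1, hx.2, hy.1, hy.2]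
  rw [Nat.add_mod]
  exact key _ (Nat.mod_lt _ (by decide)) _ (Nat.mod_lt _ (by decide))

theorem R.mul (hx : R i x u) (hy : R i y v) : R i (tm x y) (u * v) := by
  have key : ∀ r < 3, ∀ s < 3, ((r == 1) && (s == 1) || (r == 2) && (s == 2)) = (r * s % 3 == 1) ∧
      ((r == 1) && (s == 2) || (r == 2) && (s == 1)) = (r * s % 3 == 2) := by decide
  simp only [R, tm, Nat.testBit_and, Nat.testBit_or, hx.1, hx.2, hy.1, hy.2]
  rw [Nat.mul_mod]
  exact key _ (Nat.mod_lt _ (by decide)) _ (Nat.mod_lt _ (by decide))

theorem R.mod (hx : R i x u) : R i x (u % 3) := by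
  rw [R, Nat.mod_mod]
  exact hx

theorem R.cst (hi : i < 729) (c : ℕ) : R i (cst c) c := by
  have h : ∀ b : Bool, (cond b (2 ^ 729 - 1) 0 : ℕ).testBit i = b := fun b => by
    cases b
    · exact Nat.zero_testBit i
    · exact (Nat.testBit_two_pow_sub_one 729 i).trans (decide_eq_true hi)
  exact ⟨h _, h _⟩

theorem R.ne (hx : R i x u) (hy : R i y v) : (ne x y).testBit i = !(u % 3 == v % 3) := by
  have key : ∀ r < 3, ∀ s < 3, (((r == 1) ^^ (s == 1)) || ((r == 2) ^^ (s == 2))) = !(r == s) := by decide
  simp only [Bs.ne, Nat.testBit_xor, Nat.testBit_or, hx.1, hx.2, hy.1, hy.2]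
  exact key _ (Nat.mod_lt _ (by decide)) _ (Nat.mod_lt _ (by decide))

set_option genSizeOf false in
set_option genInjectivity false in
/-- matrices of vectors -/
structure W where
  (a b c d e f g h i : T)

/-- the matrix at the position `n` -/
structure S (n : ℕ) (x : W) (y : M9) : Prop where
  a : R n x.a y.a
  b : R n x.b y.b
  c : R n x.c y.c
  d : R n x.d y.d
  e : R n x.e y.e
  f : R n x.f y.f
  g : R n x.g y.g
  h : R n x.h y.h
  i : R n x.i y.i

namespace W

/-- product -/
def mul (x y : W) : W :=
  ⟨(ta (ta (tm x.a y.a) (tm x.b y.d)) (tm x.c y.g)),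
   (ta (ta (tm x.a y.b) (tm x.b y.e)) (tm x.c y.h)),
   (ta (ta (tm x.a y.c) (tm x.b y.f)) (tm x.c y.i)),
   (ta (ta (tm x.d y.a) (tm x.e y.d)) (tm x.f y.g)),
   (ta (ta (tm x.d y.b) (tm x.e y.e)) (tm x.f y.h)),
   (ta (ta (tm x.d y.c) (tm x.e y.f)) (tm x.f y.i)),
   (ta (ta (tm x.g y.a) (tm x.h y.d)) (tm x.i y.g)),
   (ta (ta (tm x.g y.b) (tm x.h y.e)) (tm x.i y.h)),
   (ta (ta (tm x.g y.c) (tm x.h y.f)) (tm x.i y.i))⟩

/-- difference -/
def sub (x y : W) : W :=
  ⟨(ta x.a (tm (cst 2) y.a)),
   (ta x.b (tm (cst 2) y.b)),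
   (ta x.c (tm (cst 2) y.c)),
   (ta x.d (tm (cst 2) y.d)),
   (ta x.e (tm (cst 2) y.e)),
   (ta x.f (tm (cst 2) y.f)),
   (ta x.g (tm (cst 2) y.g)),
   (ta x.h (tm (cst 2) y.h)),
   (ta x.i (tm (cst 2) y.i))⟩

/-- determinant -/
def det (x : W) : T :=
  (ta (ta (tm x.a (ta (tm x.e x.i) (tm (cst 2) (tm x.f x.h)))) (tm x.b (ta (tm x.f x.g) (tm (cst 2) (tm x.d x.i))))) (tm x.c (ta (tm x.d x.h) (tm (cst 2) (tm x.e x.g)))))

/-- inverse -/
def inv (x : W) : W :=
  ⟨(tm x.det (ta (tm x.e x.i) (tm (cst 2) (tm x.f x.h)))),
   (tm x.det (ta (tm x.c x.h) (tm (cst 2) (tm x.b x.i)))),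
   (tm x.det (ta (tm x.b x.f) (tm (cst 2) (tm x.c x.e)))),
   (tm x.det (ta (tm x.f x.g) (tm (cst 2) (tm x.d x.i)))),
   (tm x.det (ta (tm x.a x.i) (tm (cst 2) (tm x.c x.g)))),
   (tm x.det (ta (tm x.c x.d) (tm (cst 2) (tm x.a x.f)))),
   (tm x.det (ta (tm x.d x.h) (tm (cst 2) (tm x.e x.g)))),
   (tm x.det (ta (tm x.b x.g) (tm (cst 2) (tm x.a x.h)))),
   (tm x.det (ta (tm x.a x.e) (tm (cst 2) (tm x.b x.d))))⟩

/-- constant -/
def cs (x : M9) : W := ⟨cst x.a, cst x.b, cst x.c, cst x.d, cst x.e, cst x.f, cst x.g, cst x.h, cst x.i⟩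

/-- the positions where `x` and `y` differ -/
def nem (x y : W) : ℕ :=
  ne x.a y.a ||| ne x.b y.b ||| ne x.c y.c ||| ne x.d y.d ||| ne x.e y.e ||| ne x.f y.f ||| ne x.g y.g ||| ne x.h y.h ||| ne x.i y.i

/-- symmetric matrix -/
def sy (a b c d e f : T) : W := ⟨a, b, c, b, d, e, c, e, f⟩

end W

variable {X Y : W} {A B : M9}

theorem S.mul (hx : S i X A) (hy : S i Y B) : S i (X.mul Y) (A.mul B) :=
  ⟨(R.add (R.add (R.mul hx.a hy.a) (R.mul hx.b hy.d)) (R.mul hx.c hy.g)).mod,
   (R.add (R.add (R.mul hx.a hy.b) (R.mul hx.b hy.e)) (R.mul hx.c hy.h)).mod,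
   (R.add (R.add (R.mul hx.a hy.c) (R.mul hx.b hy.f)) (R.mul hx.c hy.i)).mod,
   (R.add (R.add (R.mul hx.d hy.a) (R.mul hx.e hy.d)) (R.mul hx.f hy.g)).mod,
   (R.add (R.add (R.mul hx.d hy.b) (R.mul hx.e hy.e)) (R.mul hx.f hy.h)).mod,
   (R.add (R.add (R.mul hx.d hy.c) (R.mul hx.e hy.f)) (R.mul hx.f hy.i)).mod,
   (R.add (R.add (R.mul hx.g hy.a) (R.mul hx.h hy.d)) (R.mul hx.i hy.g)).mod,
   (R.add (R.add (R.mul hx.g hy.b) (R.mul hx.h hy.e)) (R.mul hx.i hy.h)).mod,
   (R.add (R.add (R.mul hx.g hy.c) (R.mul hx.h hy.f)) (R.mul hx.i hy.i)).mod⟩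

theorem S.sub (hi : i < 729) (hx : S i X A) (hy : S i Y B) : S i (X.sub Y) (A.sub B) :=
  ⟨(R.add hx.a (R.mul (R.cst hi 2) hy.a)).mod,
   (R.add hx.b (R.mul (R.cst hi 2) hy.b)).mod,
   (R.add hx.c (R.mul (R.cst hi 2) hy.c)).mod,
   (R.add hx.d (R.mul (R.cst hi 2) hy.d)).mod,
   (R.add hx.e (R.mul (R.cst hi 2) hy.e)).mod,
   (R.add hx.f (R.mul (R.cst hi 2) hy.f)).mod,
   (R.add hx.g (R.mul (R.cst hi 2) hy.g)).mod,
   (R.add hx.h (R.mul (R.cst hi 2) hy.h)).mod,
   (R.add hx.i (R.mul (R.cst hi 2) hy.i)).mod⟩

theorem S.det (hi : i < 729) (hx : S i X A) : R i X.det A.det :=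
  (R.add (R.add (R.mul hx.a (R.add (R.mul hx.e hx.i) (R.mul (R.cst hi 2) (R.mul hx.f hx.h)))) (R.mul hx.b (R.add (R.mul hx.f hx.g) (R.mul (R.cst hi 2) (R.mul hx.d hx.i))))) (R.mul hx.c (R.add (R.mul hx.d hx.h) (R.mul (R.cst hi 2) (R.mul hx.e hx.g))))).mod

theorem S.inv (hi : i < 729) (hx : S i X A) : S i X.inv A.inv :=
  ⟨(R.mul (S.det hi hx) (R.add (R.mul hx.e hx.i) (R.mul (R.cst hi 2) (R.mul hx.f hx.h)))).mod,
   (R.mul (S.det hi hx) (R.add (R.mul hx.c hx.h) (R.mul (R.cst hi 2) (R.mul hx.b hx.i)))).mod,
   (R.mul (S.det hi hx) (R.add (R.mul hx.b hx.f) (R.mul (R.cst hi 2) (R.mul hx.c hx.e)))).mod,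
   (R.mul (S.det hi hx) (R.add (R.mul hx.f hx.g) (R.mul (R.cst hi 2) (R.mul hx.d hx.i)))).mod,
   (R.mul (S.det hi hx) (R.add (R.mul hx.a hx.i) (R.mul (R.cst hi 2) (R.mul hx.c hx.g)))).mod,
   (R.mul (S.det hi hx) (R.add (R.mul hx.c hx.d) (R.mul (R.cst hi 2) (R.mul hx.a hx.f)))).mod,
   (R.mul (S.det hi hx) (R.add (R.mul hx.d hx.h) (R.mul (R.cst hi 2) (R.mul hx.e hx.g)))).mod,
   (R.mul (S.det hi hx) (R.add (R.mul hx.b hx.g) (R.mul (R.cst hi 2) (R.mul hx.a hx.h)))).mod,
   (R.mul (S.det hi hx) (R.add (R.mul hx.a hx.e) (R.mul (R.cst hi 2) (R.mul hx.b hx.d)))).mod⟩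

theorem S.cs (hi : i < 729) (A : M9) : S i (W.cs A) A :=
  ⟨R.cst hi _, R.cst hi _, R.cst hi _, R.cst hi _, R.cst hi _, R.cst hi _, R.cst hi _, R.cst hi _, R.cst hi _⟩

theorem S.sy {a b c d e f : T} {a' b' c' d' e' f' : ℕ} (ha : R i a a') (hb : R i b b') (hc : R i c c') (hd : R i d d')
    (he : R i e e') (hf : R i f f') : S i (W.sy a b c d e f) (sy a' b' c' d' e' f') :=
  ⟨ha, hb, hc, hb, hd, he, hc, he, hf⟩

theorem S.nem (hx : S i X A) (hy : S i Y B) : (X.nem Y).testBit i = !(A.eqb B) := by
  simp only [W.nem, M9.eqb, Nat.testBit_or, Bool.not_and, hx.a.ne hy.a, hx.b.ne hy.b, hx.c.ne hy.c, hx.d.ne hy.d, hx.e.ne hy.e, hx.f.ne hy.f, hx.g.ne hy.g, hx.h.ne hy.h, hx.i.ne hy.i]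

theorem S.det0 (hi : i < 729) (hx : S i X A) : (ne X.det ⟨0, 0⟩).testBit i = !(A.det == 0) :=
  ((hx.det hi).ne (v := 0) ⟨Nat.zero_testBit i, Nat.zero_testBit i⟩).trans (congrArg (fun z => !(z == 0)) (Nat.mod_mod _ 3))

/-- coordinate -/
def v0 : T := ⟨0x92492492492492492492492492492492492492492492492492492492492492492492492492492492492492492492492492492492492492492492492492492492492492492492492492492492492492492492492492492492492492,
  0x124924924924924924924924924924924924924924924924924924924924924924924924924924924924924924924924924924924924924924924924924924924924924924924924924924924924924924924924924924924924924⟩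

/-- coordinate -/
def v1 : T := ⟨0x381c0e070381c0e070381c0e070381c0e070381c0e070381c0e070381c0e070381c0e070381c0e070381c0e070381c0e070381c0e070381c0e070381c0e070381c0e070381c0e070381c0e070381c0e070381c0e070381c0e07038,
  0x1c0e070381c0e070381c0e070381c0e070381c0e070381c0e070381c0e070381c0e070381c0e070381c0e070381c0e070381c0e070381c0e070381c0e070381c0e070381c0e070381c0e070381c0e070381c0e070381c0e070381c0⟩

/-- coordinate -/
def v2 : T := ⟨0xff80001ff00003fe00007fc0000ff80001ff00003fe00007fc0000ff80001ff00003fe00007fc0000ff80001ff00003fe00007fc0000ff80001ff00003fe00007fc0000ff80001ff00003fe00007fc0000ff80001ff00003fe00,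
  0x1ff00003fe00007fc0000ff80001ff00003fe00007fc0000ff80001ff00003fe00007fc0000ff80001ff00003fe00007fc0000ff80001ff00003fe00007fc0000ff80001ff00003fe00007fc0000ff80001ff00003fe00007fc0000⟩

/-- coordinate -/
def v3 : T := ⟨0x3ffffff80000000000001ffffffc0000000000000ffffffe00000000000007ffffff00000000000003ffffff80000000000001ffffffc0000000000000ffffffe00000000000007ffffff00000000000003ffffff8000000,
  0x1ffffffc0000000000000ffffffe00000000000007ffffff00000000000003ffffff80000000000001ffffffc0000000000000ffffffe00000000000007ffffff00000000000003ffffff80000000000001ffffffc0000000000000⟩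

/-- coordinate -/
def v4 : T := ⟨0xffffffffffffffffffff80000000000000000000000000000000000000001ffffffffffffffffffff00000000000000000000000000000000000000003fffffffffffffffffffe00000000000000000000,
  0x1ffffffffffffffffffff00000000000000000000000000000000000000003fffffffffffffffffffe00000000000000000000000000000000000000007fffffffffffffffffffc0000000000000000000000000000000000000000⟩

/-- coordinate -/
def v5 : T := ⟨0x3ffffffffffffffffffffffffffffffffffffffffffffffffffffffffffff8000000000000000000000000000000000000000000000000000000000000,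
  0x1ffffffffffffffffffffffffffffffffffffffffffffffffffffffffffffc0000000000000000000000000000000000000000000000000000000000000000000000000000000000000000000000000000000000000000000000000⟩

/-- the test of `R` -/
def rB (i : ℕ) (x : T) (v : ℕ) : Bool := x.p.testBit i == (v % 3 == 1) && x.m.testBit i == (v % 3 == 2)

theorem R.of (h : rB i x v = true) : R i x v :=
  (Bool.and_eq_true_iff.1 h).imp beq_iff_eq.1 beq_iff_eq.1

/-- linear form -/
def lfV (l : List ℕ) : T :=
  ta (ta (ta (ta (ta (tm (cst (l.getD 0 0)) v0) (tm (cst (l.getD 1 0)) v1)) (tm (cst (l.getD 2 0)) v2))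
    (tm (cst (l.getD 3 0)) v3)) (tm (cst (l.getD 4 0)) v4)) (tm (cst (l.getD 5 0)) v5)

/-- the positions where `ckX` fails -/
def bad (k₁ k₂ l₁ l₂ : M9) (X X' : W) : ℕ :=
  ne X.det ⟨0, 0⟩ &&& ((X.sub (((W.cs k₁.tr).mul X).mul (W.cs k₁))).nem (X'.sub (((W.cs l₁.tr).mul X').mul (W.cs l₁))) |||
    (ne X'.det ⟨0, 0⟩ &&& ((2 ^ 729 - 1) ^^^ ((((W.cs k₂).mul X.inv).mul (W.cs k₂.tr)).sub X.inv).nem
      ((((W.cs l₂).mul X'.inv).mul (W.cs l₂.tr)).sub X'.inv))))

/-- the check for all symmetric matrices -/
def ckV (k₁ k₂ l₁ l₂ : M9) (L : List (List ℕ)) : Bool :=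
  bad k₁ k₂ l₁ l₂ (W.sy v0 v1 v2 v3 v4 v5) (W.sy (lfV (L.getD 0 [])) (lfV (L.getD 1 [])) (lfV (L.getD 2 []))
    (lfV (L.getD 3 [])) (lfV (L.getD 4 [])) (lfV (L.getD 5 []))) == 0

theorem bad_spec {k₁ k₂ l₁ l₂ : M9} (hi : i < 729) (hx : S i X A) (hy : S i Y B) (h : bad k₁ k₂ l₁ l₂ X Y = 0) :
    (A.det == 0 || ((fS k₁ A).eqb (fS l₁ B) && (B.det == 0 || !((gT k₂ A.inv).eqb (gT l₂ B.inv))))) = true := by
  have h1 : (bad k₁ k₂ l₁ l₂ X Y).testBit i = false := h ▸ Nat.zero_testBit i
  rw [bad, Nat.testBit_and, Nat.testBit_or, Nat.testBit_and, Nat.testBit_xor, hx.det0 hi, hy.det0 hi,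
    (hx.sub hi (((S.cs hi _).mul hx).mul (S.cs hi _))).nem (hy.sub hi (((S.cs hi _).mul hy).mul (S.cs hi _))),
    ((((S.cs hi _).mul (hx.inv hi)).mul (S.cs hi _)).sub hi (hx.inv hi)).nem
      ((((S.cs hi _).mul (hy.inv hi)).mul (S.cs hi _)).sub hi (hy.inv hi)),
    Nat.testBit_two_pow_sub_one, decide_eq_true hi] at h1
  have key : ∀ a b c d : Bool, (!a && (!b || (!c && (true ^^ !d)))) = false → (a || (b && (c || !d))) = true := by decide
  exact key _ _ _ _ h1

/-- the position of a symmetric matrix -/
def cB (i a b c d e f : ℕ) : Bool :=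
  Nat.blt i 729 && rB i v0 a && rB i v1 b && rB i v2 c && rB i v3 d && rB i v4 e && rB i v5 f

theorem coord : ((List.range 3).all fun a => (List.range 3).all fun b => (List.range 3).all fun c =>
    (List.range 3).all fun d => (List.range 3).all fun e => (List.range 3).all fun f =>
      cB (a + 3 * b + 9 * c + 27 * d + 81 * e + 243 * f) a b c d e f) = true := by decide +kernel

theorem ckX_of {k₁ k₂ l₁ l₂ : M9} {L : List (List ℕ)} {a b c d e f : ℕ} (h0 : cB i a b c d e f = true)
    (h : ckV k₁ k₂ l₁ l₂ L = true) : ckX k₁ k₂ l₁ l₂ L a b c d e f = true := by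
  simp only [cB, Bool.and_eq_true] at h0
  obtain ⟨⟨⟨⟨⟨⟨hi, c0⟩, c1⟩, c2⟩, c3⟩, c4⟩, c5⟩ := h0
  replace hi := Nat.blt_eq.mp hi
  have r0 := R.of c0
  have r1 := R.of c1
  have r2 := R.of c2
  have r3 := R.of c3
  have r4 := R.of c4
  have r5 := R.of c5
  have hl : ∀ l : List ℕ, R i (lfV l) (lf l a b c d e f) := fun l =>
    (((((((R.cst hi _).mul r0).add ((R.cst hi _).mul r1)).add ((R.cst hi _).mul r2)).add ((R.cst hi _).mul r3)).add
      ((R.cst hi _).mul r4)).add ((R.cst hi _).mul r5)).mod
  exact bad_spec hi (S.sy r0 r1 r2 r3 r4 r5) (S.sy (hl _) (hl _) (hl _) (hl _) (hl _) (hl _)) (beq_iff_eq.1 h)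

theorem ckA_of {k₁ k₂ l₁ l₂ : M9} {L : List (List ℕ)} (h : ckV k₁ k₂ l₁ l₂ L = true) : ckA k₁ k₂ l₁ l₂ L = true :=
  have m : ∀ {P Q : ℕ → Bool}, (List.range 3).all P = true → (∀ a, P a = true → Q a = true) → (List.range 3).all Q = true :=
    fun h1 h2 => List.all_eq_true.2 fun a ha => h2 a (List.all_eq_true.1 h1 a ha)
  m coord fun _ h1 => m h1 fun _ h2 => m h2 fun _ h3 => m h3 fun _ h4 => m h4 fun _ h5 => m h5 fun _ h6 => ckX_of h6 h

end Bs

/-- the check for one matrix -/
def Dt.ckF (A : M9) (x : Dt) : Bool :=
  (x.c₁.mul x.c₂).eqb A && (x.d₁.mul x.d₂).eqb A && ok13 x.c₁ x.k₁ && ok13 x.c₂ x.k₂ && ok13 x.d₁ x.l₁ && ok13 x.d₂ x.l₂ &&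
    Bs.ckV x.k₁ x.k₂ x.l₁ x.l₂ x.L

theorem Dt.ck_fast {A : M9} {x : Dt} (h : x.ckF A = true) : x.ck A = true :=
  Bool.and_eq_true_iff.2 ((Bool.and_eq_true_iff.1 h).imp_right Bs.ckA_of)

end Cfsg.Agent.H267.Pw
end

-- part: H267/Pw/SpTabA
section
prune_inst 0x352075443d6202000818009623203c66ee000592006bc001f9e00f420fc79f63a0c52f61fef01f1293febef5787fc04811100159427800002e00ba00411a01a0842f7ae6973cbe043f0009c0f887180c00000000000000000000000000041004000000000
set_option linter.all false

/-!
# Pairs of elements of order 13 in `SL_3(3)`: table, part A (helper267; S2465)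
-/

set_option autoImplicit false
set_option maxRecDepth 100000

namespace Cfsg.Agent.H267.Pw

open M9

/-- data -/
def dt0 : Dt := ⟨⟨1, 1, 1, 2, 1, 1, 0, 2, 1⟩, ⟨1, 0, 2, 1, 1, 1, 1, 2, 1⟩, ⟨2, 1, 0, 1, 1, 1, 1, 1, 2⟩, ⟨2, 1, 1, 0, 2, 1, 1, 1, 1⟩,
  ⟨0, 1, 2, 1, 2, 0, 2, 1, 2⟩, ⟨0, 2, 1, 2, 2, 1, 2, 2, 0⟩, ⟨1, 0, 2, 1, 2, 2, 0, 2, 2⟩, ⟨1, 2, 0, 2, 1, 2, 0, 1, 2⟩,
  [[1, 2, 1, 1, 1, 0], [2, 1, 0, 0, 2, 0], [1, 1, 2, 2, 1, 2], [2, 2, 1, 1, 1, 1], [0, 2, 0, 2, 1, 2], [1, 1, 2, 2, 0, 0]]⟩

theorem ck0 : dt0.ck (bl false false 1 0 0) = true := Dt.ck_fast (by decide +kernel)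

/-- data -/
def dt1 : Dt := ⟨⟨2, 2, 2, 2, 0, 0, 2, 0, 2⟩, ⟨2, 0, 2, 0, 1, 2, 1, 2, 1⟩, ⟨0, 2, 0, 2, 0, 1, 0, 1, 2⟩, ⟨0, 1, 1, 2, 0, 2, 2, 2, 2⟩,
  ⟨2, 0, 2, 0, 1, 2, 1, 2, 1⟩, ⟨1, 1, 1, 0, 2, 2, 2, 2, 1⟩, ⟨0, 1, 1, 2, 0, 2, 2, 2, 2⟩, ⟨1, 1, 0, 1, 2, 1, 2, 0, 2⟩,
  [[2, 2, 1, 1, 1, 0], [0, 0, 1, 0, 2, 1], [2, 1, 2, 0, 2, 1], [2, 2, 1, 1, 2, 2], [0, 2, 2, 1, 0, 1], [2, 2, 2, 2, 2, 2]]⟩

theorem ck1 : dt1.ck (bl false false 1 1 0) = true := Dt.ck_fast (by decide +kernel)

/-- data -/
def dt2 : Dt := ⟨⟨0, 2, 0, 1, 1, 2, 1, 1, 0⟩, ⟨0, 1, 1, 0, 0, 2, 2, 1, 1⟩, ⟨1, 0, 1, 2, 0, 0, 0, 2, 1⟩, ⟨1, 0, 2, 1, 1, 0, 0, 2, 0⟩,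
  ⟨1, 2, 2, 0, 2, 2, 1, 0, 2⟩, ⟨2, 0, 2, 0, 1, 2, 2, 2, 2⟩, ⟨1, 2, 0, 2, 0, 1, 1, 2, 2⟩, ⟨1, 1, 1, 1, 0, 2, 1, 2, 2⟩,
  [[2, 1, 2, 2, 2, 2], [2, 0, 0, 2, 1, 0], [0, 2, 1, 1, 1, 0], [2, 2, 0, 2, 1, 1], [2, 1, 2, 1, 2, 2], [0, 0, 2, 0, 0, 0]]⟩

theorem ck2 : dt2.ck (bl false false 1 2 0) = true := Dt.ck_fast (by decide +kernel)

/-- data -/
def dt3 : Dt := ⟨⟨2, 2, 2, 2, 1, 1, 1, 1, 2⟩, ⟨1, 0, 1, 2, 2, 2, 0, 1, 2⟩, ⟨1, 1, 0, 0, 2, 2, 1, 0, 1⟩, ⟨2, 1, 1, 2, 2, 0, 2, 2, 2⟩,
  ⟨1, 0, 2, 2, 2, 1, 1, 1, 1⟩, ⟨2, 2, 0, 2, 0, 2, 2, 2, 2⟩, ⟨1, 2, 2, 2, 2, 0, 0, 2, 2⟩, ⟨2, 2, 1, 0, 1, 2, 1, 0, 2⟩,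
  [[1, 2, 2, 1, 1, 1], [2, 2, 1, 0, 1, 2], [1, 2, 2, 0, 0, 1], [1, 1, 1, 0, 2, 2], [1, 0, 2, 1, 2, 2], [1, 0, 0, 0, 2, 1]]⟩

theorem ck3 : dt3.ck (bl false false 1 0 1) = true := Dt.ck_fast (by decide +kernel)

/-- data -/
def dt4 : Dt := ⟨⟨0, 2, 2, 1, 0, 0, 1, 2, 0⟩, ⟨1, 0, 1, 1, 2, 0, 2, 1, 2⟩, ⟨0, 1, 0, 0, 1, 2, 2, 2, 1⟩, ⟨1, 1, 1, 1, 0, 1, 0, 2, 2⟩,
  ⟨1, 0, 2, 0, 2, 1, 1, 1, 0⟩, ⟨2, 2, 0, 1, 2, 1, 2, 2, 2⟩, ⟨2, 2, 2, 1, 1, 2, 1, 2, 2⟩, ⟨2, 2, 2, 0, 1, 1, 1, 0, 2⟩,
  [[2, 0, 1, 0, 0, 1], [0, 0, 1, 0, 1, 2], [0, 0, 2, 0, 0, 2], [2, 2, 2, 2, 2, 0], [1, 2, 0, 1, 0, 0], [1, 0, 1, 2, 0, 0]]⟩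

theorem ck4 : dt4.ck (bl false false 1 1 1) = true := Dt.ck_fast (by decide +kernel)

/-- data -/
def dt5 : Dt := ⟨⟨2, 2, 2, 1, 0, 1, 2, 2, 0⟩, ⟨1, 2, 2, 2, 0, 0, 0, 1, 0⟩, ⟨1, 1, 2, 2, 2, 0, 2, 0, 1⟩, ⟨0, 2, 0, 0, 0, 1, 2, 2, 2⟩,
  ⟨1, 1, 0, 2, 2, 1, 2, 1, 0⟩, ⟨0, 1, 0, 0, 2, 1, 1, 0, 0⟩, ⟨2, 0, 1, 2, 0, 2, 1, 1, 0⟩, ⟨0, 0, 1, 1, 0, 0, 1, 1, 0⟩,
  [[0, 2, 1, 1, 0, 2], [2, 2, 0, 2, 0, 1], [0, 2, 0, 1, 1, 0], [1, 2, 0, 0, 2, 1], [2, 2, 1, 2, 0, 0], [2, 0, 0, 0, 2, 1]]⟩

theorem ck5 : dt5.ck (bl false false 1 2 1) = true := Dt.ck_fast (by decide +kernel)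

/-- data -/
def dt6 : Dt := ⟨⟨0, 2, 0, 1, 0, 1, 2, 2, 0⟩, ⟨0, 2, 2, 0, 0, 2, 1, 1, 1⟩, ⟨1, 0, 2, 2, 0, 0, 2, 1, 1⟩, ⟨1, 0, 1, 2, 1, 0, 0, 2, 0⟩,
  ⟨1, 0, 1, 1, 1, 2, 1, 1, 0⟩, ⟨1, 2, 2, 2, 2, 0, 2, 1, 2⟩, ⟨1, 1, 2, 2, 2, 2, 0, 2, 1⟩, ⟨1, 1, 2, 2, 1, 1, 1, 0, 1⟩,
  [[2, 1, 2, 1, 2, 2], [2, 0, 0, 2, 1, 2], [0, 2, 0, 1, 1, 0], [1, 1, 1, 2, 1, 2], [0, 2, 1, 1, 0, 1], [2, 2, 2, 2, 2, 1]]⟩

theorem ck6 : dt6.ck (bl false false 1 0 2) = true := Dt.ck_fast (by decide +kernel)

/-- data -/
def dt7 : Dt := ⟨⟨2, 1, 0, 1, 1, 2, 2, 1, 1⟩, ⟨2, 2, 2, 2, 2, 0, 0, 1, 1⟩, ⟨2, 2, 2, 0, 2, 2, 2, 0, 1⟩, ⟨2, 0, 2, 1, 2, 1, 2, 1, 0⟩,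
  ⟨1, 0, 1, 1, 2, 0, 1, 2, 2⟩, ⟨2, 1, 2, 1, 1, 1, 1, 2, 2⟩, ⟨1, 2, 1, 1, 1, 1, 0, 1, 2⟩, ⟨0, 2, 2, 2, 2, 0, 1, 0, 1⟩,
  [[0, 1, 0, 2, 0, 0], [1, 1, 1, 1, 2, 0], [1, 2, 1, 0, 1, 0], [1, 1, 0, 1, 2, 1], [0, 2, 1, 2, 0, 2], [2, 0, 2, 2, 0, 2]]⟩

theorem ck7 : dt7.ck (bl false false 1 1 2) = true := Dt.ck_fast (by decide +kernel)

end Cfsg.Agent.H267.Pw
end

-- part: H267/Pw/SpTabB
section
prune_inst 0x352075443d6202000818009623203c66ee000592006bc001f9e00f420fc79f63a0c52f61fef01f1293febef5787fc04811100159427800002e00ba00411a01a0842f7ae6973cbe043f0009c0f887180c00000000000000000000000000041004000000000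
set_option linter.all false

/-!
# Pairs of elements of order 13 in `SL_3(3)`: table, part B (helper267; S2465)
-/

set_option autoImplicit false
set_option maxRecDepth 100000

namespace Cfsg.Agent.H267.Pw

open M9

/-- data -/
def dt8 : Dt := ⟨⟨2, 2, 1, 1, 2, 2, 1, 1, 1⟩, ⟨2, 2, 2, 1, 0, 0, 0, 2, 0⟩, ⟨0, 2, 2, 1, 1, 0, 2, 0, 2⟩, ⟨0, 1, 0, 0, 0, 2, 2, 2, 1⟩,
  ⟨0, 2, 2, 0, 0, 1, 2, 0, 0⟩, ⟨0, 2, 1, 2, 0, 0, 1, 0, 2⟩, ⟨0, 0, 2, 2, 2, 0, 0, 1, 0⟩, ⟨0, 2, 0, 2, 2, 2, 0, 2, 2⟩,
  [[0, 1, 0, 0, 2, 2], [0, 0, 0, 0, 0, 2], [0, 1, 0, 0, 1, 1], [2, 1, 0, 1, 0, 0], [2, 0, 2, 0, 1, 1], [2, 1, 1, 0, 2, 2]]⟩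

theorem ck8 : dt8.ck (bl false false 1 2 2) = true := Dt.ck_fast (by decide +kernel)

/-- data -/
def dt9 : Dt := ⟨⟨1, 2, 0, 0, 2, 2, 1, 2, 2⟩, ⟨2, 0, 1, 2, 1, 1, 0, 2, 2⟩, ⟨0, 2, 1, 2, 2, 1, 1, 0, 2⟩, ⟨0, 2, 2, 2, 1, 0, 1, 2, 2⟩,
  ⟨2, 2, 2, 2, 1, 2, 1, 1, 2⟩, ⟨1, 0, 2, 2, 2, 0, 0, 2, 1⟩, ⟨0, 1, 2, 1, 2, 0, 1, 0, 1⟩, ⟨2, 1, 2, 1, 1, 1, 1, 1, 2⟩,
  [[1, 2, 2, 0, 1, 2], [0, 0, 1, 0, 2, 1], [0, 0, 2, 1, 0, 1], [0, 0, 0, 2, 2, 1], [0, 0, 0, 1, 2, 0], [0, 2, 2, 0, 2, 2]]⟩

theorem ck9 : dt9.ck (bl false true 2 0 1) = true := Dt.ck_fast (by decide +kernel)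

/-- data -/
def dt10 : Dt := ⟨⟨2, 2, 0, 1, 2, 2, 1, 1, 2⟩, ⟨2, 0, 1, 1, 1, 2, 0, 1, 2⟩, ⟨2, 2, 1, 0, 1, 2, 2, 0, 2⟩, ⟨0, 1, 2, 1, 1, 0, 1, 1, 2⟩,
  ⟨0, 2, 1, 0, 1, 1, 1, 2, 1⟩, ⟨0, 1, 1, 2, 1, 0, 2, 0, 0⟩, ⟨2, 0, 1, 1, 2, 0, 2, 2, 0⟩, ⟨0, 0, 2, 0, 1, 2, 1, 2, 1⟩,
  [[2, 1, 2, 1, 0, 1], [2, 2, 0, 0, 2, 1], [2, 0, 1, 1, 2, 1], [2, 2, 1, 1, 1, 2], [0, 2, 1, 0, 1, 1], [1, 0, 1, 0, 1, 1]]⟩

theorem ck10 : dt10.ck (bl false true 2 1 1) = true := Dt.ck_fast (by decide +kernel)

/-- data -/
def dt11 : Dt := ⟨⟨1, 0, 2, 1, 1, 0, 0, 2, 0⟩, ⟨1, 2, 1, 0, 0, 2, 1, 0, 1⟩, ⟨0, 1, 1, 0, 0, 2, 2, 1, 1⟩, ⟨0, 1, 1, 2, 0, 1, 0, 2, 0⟩,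
  ⟨1, 2, 1, 1, 0, 0, 2, 0, 1⟩, ⟨1, 2, 0, 2, 2, 1, 1, 2, 1⟩, ⟨0, 1, 0, 2, 2, 1, 0, 1, 1⟩, ⟨0, 1, 2, 2, 1, 2, 2, 0, 1⟩,
  [[1, 1, 0, 0, 2, 2], [2, 1, 0, 2, 2, 2], [1, 2, 1, 1, 2, 1], [0, 1, 0, 0, 2, 0], [2, 0, 1, 2, 1, 0], [0, 0, 2, 2, 0, 1]]⟩

theorem ck11 : dt11.ck (bl false true 2 2 1) = true := Dt.ck_fast (by decide +kernel)

/-- data -/
def dt12 : Dt := ⟨⟨0, 2, 1, 1, 2, 1, 1, 0, 1⟩, ⟨1, 2, 0, 2, 0, 2, 2, 1, 2⟩, ⟨2, 1, 0, 0, 2, 1, 1, 2, 1⟩, ⟨1, 2, 1, 0, 2, 1, 2, 0, 2⟩,
  ⟨1, 2, 0, 1, 1, 2, 2, 2, 0⟩, ⟨0, 2, 2, 0, 1, 2, 2, 0, 1⟩, ⟨2, 0, 1, 1, 0, 1, 0, 2, 2⟩, ⟨1, 1, 2, 1, 2, 0, 1, 1, 0⟩,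
  [[2, 2, 0, 2, 1, 0], [1, 0, 1, 2, 0, 2], [0, 2, 2, 1, 0, 2], [2, 0, 0, 1, 0, 2], [0, 2, 2, 2, 1, 1], [0, 1, 1, 1, 2, 0]]⟩

theorem ck12 : dt12.ck (bl false true 1 0 2) = true := Dt.ck_fast (by decide +kernel)

/-- data -/
def dt13 : Dt := ⟨⟨1, 2, 0, 2, 0, 2, 2, 1, 2⟩, ⟨2, 0, 2, 2, 2, 2, 0, 2, 1⟩, ⟨1, 2, 1, 0, 2, 1, 2, 0, 2⟩, ⟨1, 1, 2, 1, 2, 0, 1, 2, 1⟩,
  ⟨0, 2, 1, 0, 0, 2, 1, 2, 2⟩, ⟨1, 0, 2, 2, 1, 0, 2, 2, 0⟩, ⟨2, 1, 1, 2, 2, 0, 0, 2, 0⟩, ⟨0, 1, 1, 0, 2, 1, 2, 1, 1⟩,
  [[1, 1, 0, 1, 1, 1], [2, 1, 2, 1, 2, 1], [2, 0, 1, 1, 1, 0], [2, 1, 0, 1, 2, 2], [1, 2, 2, 0, 1, 0], [0, 2, 2, 0, 0, 1]]⟩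

theorem ck13 : dt13.ck (bl false true 1 1 2) = true := Dt.ck_fast (by decide +kernel)

/-- data -/
def dt14 : Dt := ⟨⟨2, 1, 0, 0, 0, 2, 1, 1, 0⟩, ⟨0, 1, 1, 0, 2, 1, 2, 1, 0⟩, ⟨1, 0, 2, 2, 0, 2, 0, 2, 0⟩, ⟨2, 1, 2, 2, 1, 0, 2, 2, 0⟩,
  ⟨2, 2, 0, 0, 1, 2, 1, 1, 2⟩, ⟨2, 1, 2, 1, 1, 1, 0, 2, 1⟩, ⟨0, 2, 1, 2, 1, 2, 2, 0, 2⟩, ⟨2, 0, 2, 2, 2, 0, 2, 2, 1⟩,
  [[0, 2, 0, 0, 0, 0], [0, 1, 0, 2, 0, 1], [2, 1, 2, 2, 0, 1], [2, 0, 2, 1, 1, 2], [0, 2, 1, 1, 1, 2], [1, 2, 2, 1, 0, 0]]⟩

theorem ck14 : dt14.ck (bl false true 1 2 2) = true := Dt.ck_fast (by decide +kernel)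

/-- data -/
def dt15 : Dt := ⟨⟨1, 2, 0, 2, 1, 1, 0, 2, 2⟩, ⟨0, 2, 2, 1, 2, 2, 2, 0, 1⟩, ⟨0, 2, 2, 2, 2, 2, 1, 1, 0⟩, ⟨2, 1, 0, 0, 2, 2, 2, 1, 1⟩,
  ⟨2, 2, 1, 1, 2, 2, 0, 1, 2⟩, ⟨1, 2, 0, 2, 0, 1, 2, 2, 1⟩, ⟨2, 0, 2, 1, 1, 0, 1, 1, 2⟩, ⟨1, 1, 2, 0, 1, 2, 1, 2, 2⟩,
  [[2, 2, 2, 1, 0, 2], [0, 2, 1, 2, 1, 2], [1, 0, 2, 0, 0, 0], [0, 2, 2, 2, 2, 1], [0, 0, 0, 2, 1, 1], [1, 2, 1, 2, 2, 2]]⟩

theorem ck15 : dt15.ck (bl true false 2 1 0) = true := Dt.ck_fast (by decide +kernel)

end Cfsg.Agent.H267.Pw
end

-- part: H267/Pw/SpTabC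
section
prune_inst 0x352075443d6202000818009623203c66ee000592006bc001f9e00f420fc79f63a0c52f61fef01f1293febef5787fc04811100159427800002e00ba00411a01a0842f7ae6973cbe043f0009c0f887180c00000000000000000000000000041004000000000
set_option linter.all false

/-!
# Pairs of elements of order 13 in `SL_3(3)`: table, part C (helper267; S2465)
-/

set_option autoImplicit false
set_option maxRecDepth 100000

namespace Cfsg.Agent.H267.Pw

open M9

/-- data -/
def dt16 : Dt := ⟨⟨1, 2, 0, 0, 2, 1, 1, 2, 2⟩, ⟨2, 2, 1, 1, 2, 1, 1, 2, 0⟩, ⟨2, 2, 2, 1, 2, 2, 1, 0, 2⟩, ⟨1, 2, 0, 1, 2, 2, 0, 1, 2⟩,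
  ⟨0, 1, 1, 0, 2, 1, 2, 1, 1⟩, ⟨1, 2, 0, 2, 0, 2, 2, 0, 1⟩, ⟨1, 0, 2, 2, 1, 0, 2, 2, 0⟩, ⟨0, 1, 1, 2, 1, 1, 0, 1, 2⟩,
  [[1, 2, 1, 1, 0, 2], [2, 2, 0, 0, 1, 1], [1, 0, 2, 1, 0, 2], [1, 1, 1, 0, 2, 0], [1, 2, 1, 0, 2, 1], [0, 0, 2, 0, 1, 2]]⟩

theorem ck16 : dt16.ck (bl true false 1 2 0) = true := Dt.ck_fast (by decide +kernel)

/-- data -/
def dt17 : Dt := ⟨⟨2, 1, 2, 1, 0, 0, 2, 2, 0⟩, ⟨0, 0, 1, 0, 2, 1, 1, 2, 0⟩, ⟨0, 1, 0, 0, 2, 2, 2, 1, 2⟩, ⟨1, 2, 1, 1, 2, 0, 1, 0, 0⟩,
  ⟨2, 1, 2, 2, 2, 2, 0, 1, 2⟩, ⟨1, 1, 1, 1, 0, 1, 1, 2, 0⟩, ⟨2, 0, 1, 2, 1, 0, 2, 1, 2⟩, ⟨1, 2, 1, 1, 2, 0, 2, 2, 2⟩,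
  [[1, 1, 1, 1, 1, 0], [2, 1, 2, 1, 2, 0], [2, 2, 2, 0, 1, 0], [2, 2, 2, 1, 2, 0], [2, 0, 1, 1, 2, 0], [0, 1, 0, 1, 0, 1]]⟩

theorem ck17 : dt17.ck (bl true false 2 1 1) = true := Dt.ck_fast (by decide +kernel)

/-- data -/
def dt18 : Dt := ⟨⟨1, 1, 2, 1, 1, 0, 1, 0, 0⟩, ⟨0, 1, 1, 0, 2, 1, 2, 0, 2⟩, ⟨0, 0, 1, 0, 1, 2, 2, 1, 0⟩, ⟨1, 1, 2, 2, 1, 0, 2, 2, 0⟩,
  ⟨2, 2, 1, 1, 0, 2, 1, 1, 0⟩, ⟨1, 1, 0, 2, 0, 1, 1, 1, 1⟩, ⟨1, 1, 1, 2, 2, 0, 1, 0, 1⟩, ⟨2, 2, 1, 2, 1, 2, 2, 0, 1⟩,
  [[1, 2, 1, 0, 1, 0], [2, 1, 2, 0, 1, 1], [0, 1, 1, 2, 1, 1], [0, 1, 2, 1, 0, 1], [1, 2, 1, 0, 0, 0], [2, 0, 2, 1, 0, 0]]⟩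

theorem ck18 : dt18.ck (bl true false 1 2 1) = true := Dt.ck_fast (by decide +kernel)

/-- data -/
def dt19 : Dt := ⟨⟨2, 2, 0, 0, 1, 2, 1, 0, 0⟩, ⟨0, 1, 2, 1, 2, 1, 1, 2, 0⟩, ⟨0, 0, 1, 2, 0, 2, 2, 2, 2⟩, ⟨1, 1, 0, 1, 1, 2, 0, 1, 2⟩,
  ⟨1, 1, 0, 2, 2, 2, 1, 2, 0⟩, ⟨1, 2, 1, 1, 1, 2, 1, 0, 2⟩, ⟨2, 0, 2, 2, 0, 1, 2, 2, 0⟩, ⟨2, 2, 0, 0, 1, 2, 2, 2, 2⟩,
  [[2, 2, 1, 0, 2, 1], [2, 2, 0, 0, 0, 0], [0, 1, 0, 2, 1, 0], [2, 1, 1, 1, 1, 2], [0, 2, 2, 1, 2, 1], [2, 1, 1, 0, 1, 0]]⟩

theorem ck19 : dt19.ck (bl true false 2 1 2) = true := Dt.ck_fast (by decide +kernel)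

/-- data -/
def dt20 : Dt := ⟨⟨2, 2, 2, 1, 0, 0, 2, 0, 1⟩, ⟨0, 0, 2, 2, 2, 0, 0, 1, 1⟩, ⟨0, 1, 0, 2, 1, 2, 0, 1, 1⟩, ⟨2, 2, 2, 1, 0, 1, 2, 0, 0⟩,
  ⟨2, 1, 0, 0, 2, 2, 1, 2, 1⟩, ⟨1, 2, 2, 2, 2, 2, 1, 1, 2⟩, ⟨1, 2, 2, 2, 2, 2, 1, 0, 1⟩, ⟨2, 1, 0, 1, 0, 2, 0, 1, 1⟩,
  [[0, 1, 0, 0, 0, 2], [2, 2, 1, 0, 1, 1], [0, 2, 1, 1, 1, 1], [2, 1, 1, 0, 1, 1], [0, 1, 2, 0, 0, 0], [1, 1, 0, 2, 2, 2]]⟩

theorem ck20 : dt20.ck (bl true false 1 2 2) = true := Dt.ck_fast (by decide +kernel)

/-- data -/
def dt21 : Dt := ⟨⟨0, 2, 0, 1, 2, 1, 0, 1, 1⟩, ⟨1, 1, 2, 2, 0, 0, 1, 0, 1⟩, ⟨1, 1, 2, 2, 0, 0, 1, 0, 1⟩, ⟨0, 2, 0, 1, 2, 1, 0, 1, 1⟩,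
  ⟨2, 2, 2, 1, 2, 2, 1, 2, 1⟩, ⟨1, 2, 0, 1, 0, 1, 0, 1, 2⟩, ⟨1, 2, 0, 1, 0, 1, 0, 1, 2⟩, ⟨2, 2, 2, 1, 2, 2, 1, 2, 1⟩,
  [[0, 0, 0, 0, 2, 1], [0, 0, 2, 1, 1, 2], [0, 2, 2, 1, 0, 2], [0, 1, 1, 2, 2, 0], [1, 2, 0, 1, 1, 0], [1, 2, 2, 0, 0, 0]]⟩

theorem ck21 : dt21.ck (bl true true 1 1 1) = true := Dt.ck_fast (by decide +kernel)

/-- data -/
def dt22 : Dt := ⟨⟨1, 2, 2, 1, 1, 2, 0, 2, 2⟩, ⟨2, 0, 2, 2, 1, 0, 1, 2, 2⟩, ⟨1, 0, 2, 1, 2, 0, 2, 1, 2⟩, ⟨2, 1, 1, 2, 2, 1, 0, 2, 2⟩,
  ⟨1, 2, 1, 0, 1, 2, 1, 0, 1⟩, ⟨2, 2, 0, 1, 0, 1, 1, 1, 1⟩, ⟨1, 1, 0, 2, 0, 1, 2, 2, 1⟩, ⟨2, 1, 2, 0, 2, 1, 1, 0, 1⟩,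
  [[0, 2, 1, 1, 1, 2], [0, 1, 0, 2, 1, 0], [2, 2, 0, 0, 1, 2], [2, 0, 0, 0, 0, 2], [1, 0, 1, 0, 0, 2], [0, 2, 2, 2, 2, 2]]⟩

theorem ck22 : dt22.ck (bl true true 2 2 1) = true := Dt.ck_fast (by decide +kernel)

/-- data -/
def dt23 : Dt := ⟨⟨1, 1, 2, 1, 0, 0, 0, 1, 1⟩, ⟨0, 1, 0, 1, 1, 1, 2, 2, 1⟩, ⟨0, 1, 0, 2, 1, 2, 1, 2, 2⟩, ⟨2, 2, 1, 1, 0, 0, 0, 2, 2⟩,
  ⟨0, 2, 2, 1, 2, 2, 1, 2, 0⟩, ⟨1, 1, 0, 1, 1, 1, 0, 2, 2⟩, ⟨2, 1, 0, 2, 1, 2, 0, 2, 1⟩, ⟨0, 1, 1, 1, 2, 2, 2, 1, 0⟩,
  [[2, 0, 0, 0, 0, 2], [1, 1, 2, 0, 2, 0], [2, 0, 2, 0, 0, 0], [0, 1, 2, 1, 0, 1], [0, 2, 1, 0, 2, 2], [1, 1, 0, 0, 1, 0]]⟩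

theorem ck23 : dt23.ck (bl true true 2 1 2) = true := Dt.ck_fast (by decide +kernel)

/-- data -/
def dt24 : Dt := ⟨⟨1, 1, 1, 1, 0, 0, 2, 0, 2⟩, ⟨0, 2, 0, 1, 0, 2, 0, 1, 1⟩, ⟨0, 1, 0, 1, 0, 1, 0, 2, 2⟩, ⟨1, 1, 1, 2, 0, 0, 1, 0, 1⟩,
  ⟨2, 2, 0, 2, 0, 1, 0, 1, 0⟩, ⟨2, 0, 1, 0, 0, 2, 2, 2, 1⟩, ⟨2, 0, 2, 0, 0, 1, 2, 1, 2⟩, ⟨2, 2, 0, 1, 0, 2, 0, 2, 0⟩,
  [[1, 2, 1, 0, 2, 1], [0, 1, 2, 0, 2, 1], [2, 1, 2, 1, 1, 1], [0, 1, 1, 0, 1, 0], [1, 0, 1, 2, 0, 2], [1, 1, 2, 2, 1, 1]]⟩

theorem ck24 : dt24.ck (bl true true 1 2 2) = true := Dt.ck_fast (by decide +kernel)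

end Cfsg.Agent.H267.Pw
end

-- part: H267/Pw/SpPair
section
prune_inst 0x350075443d6202000000009623201c62ee000592000b800030a00b4207879c6080c02e60fe901d1002a814057835000811100000424000000e003800011a01a080004000830802042e0009000080000000000000000000000000000000041004000000000
set_option linter.all false
open scoped Cfsg.Agent.FastGrp

/-!
# Pairs of elements of order 13 in `SL_3(3)`: the theorem (helper267; S2465, `F_4(3)`, piece F-E3)

`exists_pair` : `A ∈ SL_3(3)`, `S, T ≠ 0` symmetric: `A = c₁ c₂` with `c₁`, `c₂` of order 13 without fixed points on the symmetric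
matrices, `S = X - c₁⁻ᵀ X c₁⁻¹`, `T = c₂⁻¹ Y c₂⁻ᵀ - Y` with `X, Y ≠ 0` symmetric, `X Y ≠ 1`.
-/

set_option autoImplicit false

namespace Cfsg.Agent.H267.Pw

open Matrix M9

/-- 3 × 3 matrices over the field with three elements -/
abbrev Mat := Matrix (Fin 3) (Fin 3) (ZMod 3)

namespace M9

/-- the matrix -/
def toM (x : M9) : Mat := !![(x.a : ZMod 3), x.b, x.c; x.d, x.e, x.f; x.g, x.h, x.i]

theorem toM_mul (x y : M9) : toM (x.mul y) = toM x * toM y := by
  rw [toM, toM, toM, Matrix.mul_fin_three]
  simp only [M9.mul, ZMod.natCast_mod, Nat.cast_add, Nat.cast_mul]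

theorem toM_tr (x : M9) : toM x.tr = (toM x)ᵀ := by
  have h : ∀ a b c d e f g h i : ZMod 3, (!![a, d, g; b, e, h; c, f, i] : Mat) = (!![a, b, c; d, e, f; g, h, i] : Mat)ᵀ := by
    intro a b c d e f g h i
    ext i j
    fin_cases i <;> fin_cases j <;> rfl
  exact h _ _ _ _ _ _ _ _ _

theorem two_eq : (2 : ZMod 3) = -1 := by decide

theorem toM_sub (x y : M9) : toM (x.sub y) = toM x - toM y := by
  have h : ∀ a b : ℕ, (((a + 2 * b) % 3 : ℕ) : ZMod 3) = a - b := fun a b => by
    rw [ZMod.natCast_mod, Nat.cast_add, Nat.cast_mul, Nat.cast_ofNat, two_eq, neg_one_mul, sub_eq_add_neg]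
  ext i j
  fin_cases i <;> fin_cases j <;> exact h _ _

theorem toM_one : toM one = 1 := by
  ext i j
  (revert i j; simp only [toM, one, _root_.Fin.forall_fin_succ, _root_.Nat.cast_one, _root_.Nat.cast_zero, _root_.Matrix.of_apply, _root_.Matrix.cons_val', _root_.Matrix.cons_val_fin_one, Fin.isValue, _root_.Matrix.cons_val_zero, _root_.Matrix.cons_val_succ, _root_.IsEmpty.forall_iff, _root_.and_true, _root_.Matrix.one_apply_eq, Nat.reduceAdd, _root_.Fin.succ_zero_eq_one, _root_.ne_eq, _root_.zero_ne_one, _root_.not_false_eq_true, _root_.Matrix.one_apply_ne, _root_.Fin.succ_one_eq_two, Fin.reduceEq, _root_.and_self, _root_.Fin.succ_ne_zero, _root_.true_and])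

theorem toM_det (x : M9) : ((x.det : ℕ) : ZMod 3) = (toM x).det := by
  rw [M9.det, ZMod.natCast_mod, Matrix.det_fin_three]
  simp only [toM, Nat.cast_add, Nat.cast_mul, Nat.cast_ofNat, two_eq, Matrix.of_apply, Matrix.cons_val', Matrix.cons_val_zero,
    Matrix.cons_val_one, Matrix.cons_val_fin_one, Matrix.cons_val]
  ring

theorem sq_one {t : ZMod 3} (h : t ≠ 0) : t * t = 1 := by
  revert t; decide

theorem det_lt (x : M9) : x.det < 3 := Nat.mod_lt _ (by norm_num)

theorem det_ne {x : M9} (h : x.det ≠ 0) : (toM x).det ≠ 0 := by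
  rw [← toM_det]
  intro h1
  rw [ZMod.natCast_eq_zero_iff] at h1
  exact h (Nat.eq_zero_of_dvd_of_lt h1 (det_lt x))

theorem det_one' {x : M9} (h : x.det = 1) : (toM x).det = 1 := by
  rw [← toM_det, h, Nat.cast_one]

theorem mul_inv {x : M9} (h : x.det ≠ 0) : toM x * toM x.inv = 1 := by
  have h1 : ((x.det : ℕ) : ZMod 3) * (x.det : ℕ) = 1 := sq_one (by rw [toM_det]; exact det_ne h)
  have h2 : toM x.inv = ((x.det : ℕ) : ZMod 3) • (toM x).adjugate := by
    have h : ∀ t a b c d : ℕ, ((t * (a * b + 2 * (c * d)) % 3 : ℕ) : ZMod 3) = t * ((a : ZMod 3) * b - c * d) :=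
      fun t a b c d => by
        rw [ZMod.natCast_mod, Nat.cast_mul, Nat.cast_add, Nat.cast_mul, Nat.cast_mul, Nat.cast_mul, Nat.cast_ofNat, two_eq,
          neg_one_mul, sub_eq_add_neg]
    have h' : ∀ t a b c d : ℕ, ((t * (a * b + 2 * (c * d)) % 3 : ℕ) : ZMod 3) = t * (-((c : ZMod 3) * d) + a * b) :=
      fun t a b c d => by rw [h, neg_add_eq_sub]
    ext i j
    rw [Matrix.smul_apply, toM.eq_1 x, Matrix.adjugate_fin_three_of]
    fin_cases i <;> fin_cases j <;> first | exact h _ _ _ _ _ | exact h' _ _ _ _ _
  rw [h2, Matrix.mul_smul, Matrix.mul_adjugate, ← toM_det, smul_smul, h1, one_smul]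

theorem eqb_iff (x y : M9) : x.eqb y = true ↔ toM x = toM y := by
  have key : ∀ a b : ℕ, (a % 3 == b % 3) = true ↔ (a : ZMod 3) = b := by
    intro a b
    rw [beq_iff_eq, ZMod.natCast_eq_natCast_iff']
  constructor
  · intro h
    simp only [M9.eqb, Bool.and_eq_true, key] at h
    obtain ⟨⟨⟨⟨⟨⟨⟨⟨h1, h2⟩, h3⟩, h4⟩, h5⟩, h6⟩, h7⟩, h8⟩, h9⟩ := h
    rw [toM, toM, h1, h2, h3, h4, h5, h6, h7, h8, h9]
  · intro h
    simp only [M9.eqb, Bool.and_eq_true, key]
    have e : ∀ i j, toM x i j = toM y i j := fun i j => by rw [h]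
    exact ⟨⟨⟨⟨⟨⟨⟨⟨e 0 0, e 0 1⟩, e 0 2⟩, e 1 0⟩, e 1 1⟩, e 1 2⟩, e 2 0⟩, e 2 1⟩, e 2 2⟩

theorem toM_fS (k X : M9) : toM (fS k X) = toM X - (toM k)ᵀ * toM X * toM k := by
  rw [fS, toM_sub, toM_mul, toM_mul, toM_tr]

theorem toM_gT (k Y : M9) : toM (gT k Y) = toM k * toM Y * (toM k)ᵀ - toM Y := by
  rw [gT, toM_sub, toM_mul, toM_mul, toM_tr]

/-- symmetric matrices -/
theorem exists_sy {X : Mat} (h : Xᵀ = X) : ∃ a b c d e f : ℕ, a < 3 ∧ b < 3 ∧ c < 3 ∧ d < 3 ∧ e < 3 ∧ f < 3 ∧
    X = toM (sy a b c d e f) := by
  have hs : ∀ i j, X i j = X j i := fun i j => by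
    conv_lhs => rw [← h]
    rfl
  refine ⟨(X 0 0).val, (X 0 1).val, (X 0 2).val, (X 1 1).val, (X 1 2).val, (X 2 2).val, ZMod.val_lt _, ZMod.val_lt _,
    ZMod.val_lt _, ZMod.val_lt _, ZMod.val_lt _, ZMod.val_lt _, ?_⟩
  ext i j
  (revert i j; simp only [toM, sy, hs 1 0, hs 2 0, hs 2 1, _root_.Fin.forall_fin_succ, Fin.isValue, _root_.ZMod.natCast_val, _root_.ZMod.cast_id', _root_.id_eq, _root_.Matrix.of_apply, _root_.Matrix.cons_val', _root_.Matrix.cons_val_fin_one, _root_.Matrix.cons_val_zero, _root_.Matrix.cons_val_succ, _root_.Fin.succ_zero_eq_one, _root_.Fin.succ_one_eq_two, _root_.IsEmpty.forall_iff, _root_.and_true, _root_.and_self])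

end M9

/-! ### Elements of order 13 -/

/-- elements of order 13 of `SL_3(3)` without fixed points on bilinear forms -/
structure Fpf (c : Mat) : Prop where
  det : c.det = 1
  pow : c ^ 13 = 1
  ne : c ≠ 1
  inj : ∀ X : Mat, cᵀ * X * c = X → X = 0
  inj' : ∀ X : Mat, c * X * cᵀ = X → X = 0

theorem inj_of_poly {c k : Mat} (hkc : k * c = 1) {t s : ZMod 3} (hc : c * c * c = t • (c * c) + s • c + 1)
    (hd : (k * k * k - t • (k * k) - s • k - 1).det ≠ 0) {X : Mat} (hX : cᵀ * X * c = X) : X = 0 := by
  have hck : c * k = 1 := mul_eq_one_comm.1 hkc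
  have h1 : X * c = kᵀ * X := by
    have hk : kᵀ * cᵀ = 1 := by rw [← Matrix.transpose_mul, hck, Matrix.transpose_one]
    calc X * c = (kᵀ * cᵀ) * X * c := by rw [hk, Matrix.one_mul]
      _ = kᵀ * (cᵀ * X * c) := by simp only [Matrix.mul_assoc]
      _ = kᵀ * X := by rw [hX]
  have h2 : X * (c * c) = (kᵀ * kᵀ) * X := by
    rw [← Matrix.mul_assoc, h1, Matrix.mul_assoc, h1, Matrix.mul_assoc]
  have h3 : X * (c * c * c) = (kᵀ * kᵀ * kᵀ) * X := by
    rw [← Matrix.mul_assoc, h2, Matrix.mul_assoc, h1, Matrix.mul_assoc]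
    simp only [Matrix.mul_assoc]
  have h4 : (k * k * k - t • (k * k) - s • k - 1)ᵀ * X = 0 := by
    rw [hc, Matrix.mul_add, Matrix.mul_add, Matrix.mul_smul, Matrix.mul_smul, h1, h2, Matrix.mul_one] at h3
    simp only [Matrix.transpose_sub, Matrix.transpose_mul, Matrix.transpose_smul, Matrix.transpose_one, Matrix.sub_mul,
      Matrix.smul_mul, Matrix.one_mul]
    rw [show kᵀ * (kᵀ * kᵀ) = kᵀ * kᵀ * kᵀ by rw [Matrix.mul_assoc], ← h3]
    abel
  have h5 : IsUnit (k * k * k - t • (k * k) - s • k - 1)ᵀ.det := by
    rw [Matrix.det_transpose]; exact hd.isUnit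
  calc X = ((k * k * k - t • (k * k) - s • k - 1)ᵀ)⁻¹ * ((k * k * k - t • (k * k) - s • k - 1)ᵀ * X) := by
        rw [← Matrix.mul_assoc, Matrix.nonsing_inv_mul _ h5, Matrix.one_mul]
    _ = 0 := by rw [h4, Matrix.mul_zero]

theorem toM_scl (t : ℕ) : toM (scl t) = (t : ZMod 3) • (1 : Mat) := by
  ext i j
  (revert i j; simp only [toM, scl, _root_.Fin.forall_fin_succ, _root_.Nat.cast_zero, _root_.Matrix.of_apply, _root_.Matrix.cons_val', _root_.Matrix.cons_val_fin_one, _root_.Matrix.smul_apply, _root_.smul_eq_mul, Fin.isValue, _root_.Matrix.cons_val_zero, _root_.Matrix.cons_val_succ, _root_.IsEmpty.forall_iff, _root_.and_true, _root_.Matrix.one_apply_eq, _root_.mul_one, Nat.reduceAdd, _root_.Fin.succ_zero_eq_one, _root_.ne_eq, _root_.zero_ne_one, _root_.not_false_eq_true, _root_.Matrix.one_apply_ne, _root_.MulZeroClass.mul_zero, _root_.Fin.succ_one_eq_two, Fin.reduceEq, _root_.and_self, _root_.Fin.succ_ne_zero, _root_.zero_eq_mul, _root_.true_and, _root_.or_true])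

theorem mul_scl (x : M9) (t : ℕ) : toM (x.mul (scl t)) = (t : ZMod 3) • toM x := by
  rw [toM_mul, toM_scl, Matrix.mul_smul, Matrix.mul_one]

theorem ckP_spec {c k : M9} {t s : ℕ} (h : ckP c k t s = true) :
    toM c * toM c * toM c = (t : ZMod 3) • (toM c * toM c) + (s : ZMod 3) • toM c + 1 ∧
      (toM k * toM k * toM k - (t : ZMod 3) • (toM k * toM k) - (s : ZMod 3) • toM k - 1).det ≠ 0 := by
  rw [ckP, Bool.and_eq_true, eqb_iff, bne_iff_ne] at h
  obtain ⟨h1, h2⟩ := h
  constructor
  · rw [toM_sub, toM_sub, mul_scl, mul_scl, toM_mul, toM_mul, toM_scl, sub_eq_iff_eq_add] at h1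
    rw [h1]
    have : ((2 : ℕ) : ZMod 3) = -1 := by decide
    rw [this, neg_smul, one_smul, sub_neg_eq_add]
    abel
  · have h3 := det_ne h2
    rw [toM_sub, toM_sub, toM_sub, mul_scl, mul_scl, toM_mul, toM_mul, toM_scl, Nat.cast_one, one_smul] at h3
    exact h3

theorem ok13_spec {c k : M9} (h : ok13 c k = true) : Fpf (toM c) ∧ toM c * toM k = 1 := by
  rw [ok13] at h
  simp only [Bool.and_eq_true, eqb_iff, beq_iff_eq, Bool.not_eq_true', List.any_eq_true] at h
  obtain ⟨⟨⟨⟨h1, h2⟩, h3⟩, h4⟩, t, -, s, -, h5⟩ := h
  rw [toM_mul, toM_one] at h2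
  obtain ⟨h6, h7⟩ := ckP_spec h5
  have h8 : toM k * toM c = 1 := mul_eq_one_comm.1 h2
  refine ⟨⟨det_one' h3, ?_, ?_, ?_, ?_⟩, h2⟩
  · simp only [toM_mul, toM_one] at h1
    rw [← h1]
    noncomm_ring
  · intro h
    have : c.eqb _root_.Cfsg.Agent.H267.Pw.M9.one = true := (eqb_iff _ _).2 (by rw [h, toM_one])
    rw [this] at h4
    exact Bool.noConfusion h4
  · intro X hX
    exact inj_of_poly h8 h6 h7 hX
  · intro X hX
    refine inj_of_poly (c := (toM c)ᵀ) (k := (toM k)ᵀ) (t := t) (s := s) ?_ ?_ ?_ (by rw [Matrix.transpose_transpose]; exact hX)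
    · rw [← Matrix.transpose_mul, h2, Matrix.transpose_one]
    · have := congrArg Matrix.transpose h6
      simp only [Matrix.transpose_add, Matrix.transpose_smul, Matrix.transpose_mul, Matrix.transpose_one] at this
      rw [Matrix.mul_assoc]
      exact this
    · rw [← Matrix.det_transpose] at h7
      simp only [Matrix.transpose_sub, Matrix.transpose_smul, Matrix.transpose_mul, Matrix.transpose_one] at h7
      rw [Matrix.mul_assoc]
      exact h7

/-! ### The theorem -/

theorem hat_unique {c k : Mat} (hF : Fpf c) (hck : c * k = 1) {X X' : Mat} (h : X - kᵀ * X * k = X' - kᵀ * X' * k) :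
    X = X' := by
  have hkc : k * c = 1 := mul_eq_one_comm.1 hck
  have h1 : X - X' = kᵀ * (X - X') * k := by
    rw [Matrix.mul_sub, Matrix.sub_mul]
    rw [sub_eq_sub_iff_add_eq_add] at h ⊢
    rw [h, add_comm]
  have h2 : cᵀ * (X - X') * c = X - X' := by
    have hck' : cᵀ * kᵀ = 1 := by rw [← Matrix.transpose_mul, hkc, Matrix.transpose_one]
    calc cᵀ * (X - X') * c = cᵀ * (kᵀ * (X - X') * k) * c := by rw [← h1]
      _ = (cᵀ * kᵀ) * (X - X') * (k * c) := by simp only [Matrix.mul_assoc]
      _ = X - X' := by rw [hck', hkc, Matrix.one_mul, Matrix.mul_one]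
  exact sub_eq_zero.1 (hF.inj _ h2)

theorem hat_exists {c k : Mat} (hF : Fpf c) (hck : c * k = 1) {S : Mat} (hS : Sᵀ = S) :
    ∃ X : Mat, Xᵀ = X ∧ S = X - kᵀ * X * k := by
  let f : {X : Mat // Xᵀ = X} → {X : Mat // Xᵀ = X} := fun X => ⟨X.1 - kᵀ * X.1 * k, by
    rw [Matrix.transpose_sub, Matrix.transpose_mul, Matrix.transpose_mul, Matrix.transpose_transpose, X.2, Matrix.mul_assoc]⟩
  have hf : Function.Injective f := by
    intro X X' h
    exact Subtype.ext (hat_unique hF hck (congrArg Subtype.val h))
  obtain ⟨X, hX⟩ := Finite.surjective_of_injective hf ⟨S, hS⟩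
  exact ⟨X.1, X.2, (congrArg Subtype.val hX).symm⟩

theorem Fpf.transpose {c : Mat} (h : Fpf c) : Fpf cᵀ where
  det := by rw [Matrix.det_transpose, h.det]
  pow := by rw [← Matrix.transpose_pow, h.pow, Matrix.transpose_one]
  ne := fun h1 => h.ne (by rw [← Matrix.transpose_transpose c, h1, Matrix.transpose_one])
  inj := fun X hX => h.inj' X (by rwa [Matrix.transpose_transpose] at hX)
  inj' := fun X hX => h.inj X (by rwa [Matrix.transpose_transpose] at hX)

theorem hatT_exists {c k : Mat} (hF : Fpf c) (hck : c * k = 1) {T : Mat} (hT : Tᵀ = T) :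
    ∃ Y : Mat, Yᵀ = Y ∧ T = k * Y * kᵀ - Y := by
  have hkc : k * c = 1 := mul_eq_one_comm.1 hck
  obtain ⟨Y, hY, h⟩ := hat_exists (c := cᵀ) (k := kᵀ) hF.transpose
    (by rw [← Matrix.transpose_mul, hkc, Matrix.transpose_one]) (S := -T) (by rw [Matrix.transpose_neg, hT])
  rw [Matrix.transpose_transpose] at h
  refine ⟨Y, hY, ?_⟩
  rw [← neg_neg T, h]
  abel

theorem Fpf.conj {c P Q : Mat} (hPQ : P * Q = 1) (h : Fpf c) : Fpf (P * c * Q) := by
  have hQP : Q * P = 1 := mul_eq_one_comm.1 hPQ
  have hT1 : Qᵀ * Pᵀ = 1 := by rw [← Matrix.transpose_mul, hPQ, Matrix.transpose_one]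
  have hT2 : Pᵀ * Qᵀ = 1 := by rw [← Matrix.transpose_mul, hQP, Matrix.transpose_one]
  refine ⟨?_, ?_, ?_, ?_, ?_⟩
  · rw [Matrix.det_mul, Matrix.det_mul, h.det, mul_one, ← Matrix.det_mul, hPQ, Matrix.det_one]
  · have h1 : ∀ n : ℕ, (P * c * Q) ^ n = P * c ^ n * Q := by
      intro n
      induction n with
      | zero => rw [pow_zero, pow_zero, Matrix.mul_one, hPQ]
      | succ n ih =>
        rw [pow_succ, ih, pow_succ]
        calc P * c ^ n * Q * (P * c * Q) = P * c ^ n * (Q * P) * c * Q := by simp only [Matrix.mul_assoc]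
          _ = _ := by rw [hQP, Matrix.mul_one]; simp only [Matrix.mul_assoc]
    rw [h1, h.pow, Matrix.mul_one, hPQ]
  · intro h1
    apply h.ne
    calc c = (Q * P) * c * (Q * P) := by rw [hQP, Matrix.one_mul, Matrix.mul_one]
      _ = Q * (P * c * Q) * P := by simp only [Matrix.mul_assoc]
      _ = 1 := by rw [h1, Matrix.mul_one, hQP]
  · intro X hX
    have h1 : Pᵀ * X * P = 0 := by
      apply h.inj
      rw [Matrix.transpose_mul, Matrix.transpose_mul] at hX
      calc cᵀ * (Pᵀ * X * P) * c = (Pᵀ * Qᵀ) * (cᵀ * (Pᵀ * X * P) * c) * (Q * P) := by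
            rw [hT2, hQP, Matrix.one_mul, Matrix.mul_one]
        _ = Pᵀ * (Qᵀ * (cᵀ * Pᵀ) * X * (P * c * Q)) * P := by simp only [Matrix.mul_assoc]
        _ = Pᵀ * X * P := by rw [hX]
    calc X = (Qᵀ * Pᵀ) * X * (P * Q) := by rw [hT1, hPQ, Matrix.one_mul, Matrix.mul_one]
      _ = Qᵀ * (Pᵀ * X * P) * Q := by simp only [Matrix.mul_assoc]
      _ = 0 := by rw [h1, Matrix.mul_zero, Matrix.zero_mul]
  · intro X hX
    have h1 : Q * X * Qᵀ = 0 := by
      apply h.inj'
      rw [Matrix.transpose_mul, Matrix.transpose_mul] at hX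
      calc c * (Q * X * Qᵀ) * cᵀ = (Q * P) * (c * (Q * X * Qᵀ) * cᵀ) * (Pᵀ * Qᵀ) := by
            rw [hT2, hQP, Matrix.one_mul, Matrix.mul_one]
        _ = Q * (P * c * Q * X * (Qᵀ * (cᵀ * Pᵀ))) * Qᵀ := by simp only [Matrix.mul_assoc]
        _ = Q * X * Qᵀ := by rw [hX]
    calc X = (P * Q) * X * (Qᵀ * Pᵀ) := by rw [hT1, hPQ, Matrix.one_mul, Matrix.mul_one]
      _ = P * (Q * X * Qᵀ) * Pᵀ := by simp only [Matrix.mul_assoc]
      _ = 0 := by rw [h1, Matrix.mul_zero, Matrix.zero_mul]

/-- a good pair for `(A, S, T)` -/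
def Good (A S T : Mat) : Prop :=
  ∃ c₁ c₂ X Y : Mat, c₁ * c₂ = A ∧ Fpf c₁ ∧ Fpf c₂ ∧ Xᵀ = X ∧ Yᵀ = Y ∧ X ≠ 0 ∧ Y ≠ 0 ∧ X * Y ≠ 1 ∧
    c₁ᵀ * S * c₁ = c₁ᵀ * X * c₁ - X ∧ c₂ * T * c₂ᵀ = Y - c₂ * Y * c₂ᵀ

theorem Good.conj {B S T P Q : Mat} (hPQ : P * Q = 1) (h : Good B (Pᵀ * S * P) (Q * T * Qᵀ)) : Good (P * B * Q) S T := by
  have hQP : Q * P = 1 := mul_eq_one_comm.1 hPQ
  have hT1 : Qᵀ * Pᵀ = 1 := by rw [← Matrix.transpose_mul, hPQ, Matrix.transpose_one]
  have hT2 : Pᵀ * Qᵀ = 1 := by rw [← Matrix.transpose_mul, hQP, Matrix.transpose_one]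
  obtain ⟨c₁, c₂, X, Y, h1, h2, h3, h4, h5, h6, h7, h8, h9, h10⟩ := h
  refine ⟨P * c₁ * Q, P * c₂ * Q, Qᵀ * X * Q, P * Y * Pᵀ, ?_, h2.conj hPQ, h3.conj hPQ, ?_, ?_, ?_, ?_, ?_, ?_, ?_⟩
  · calc P * c₁ * Q * (P * c₂ * Q) = P * c₁ * (Q * P) * c₂ * Q := by simp only [Matrix.mul_assoc]
      _ = P * (c₁ * c₂) * Q := by rw [hQP, Matrix.mul_one]; simp only [Matrix.mul_assoc]
      _ = _ := by rw [h1]
  · rw [Matrix.transpose_mul, Matrix.transpose_mul, Matrix.transpose_transpose, h4, Matrix.mul_assoc]
  · rw [Matrix.transpose_mul, Matrix.transpose_mul, Matrix.transpose_transpose, h5, Matrix.mul_assoc]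
  · intro h0
    apply h6
    calc X = (Pᵀ * Qᵀ) * X * (Q * P) := by rw [hT2, hQP, Matrix.one_mul, Matrix.mul_one]
      _ = Pᵀ * (Qᵀ * X * Q) * P := by simp only [Matrix.mul_assoc]
      _ = 0 := by rw [h0, Matrix.mul_zero, Matrix.zero_mul]
  · intro h0
    apply h7
    calc Y = (Q * P) * Y * (Pᵀ * Qᵀ) := by rw [hT2, hQP, Matrix.one_mul, Matrix.mul_one]
      _ = Q * (P * Y * Pᵀ) * Qᵀ := by simp only [Matrix.mul_assoc]
      _ = 0 := by rw [h0, Matrix.mul_zero, Matrix.zero_mul]
  · intro h0
    apply h8
    have h11 : Qᵀ * X * Q * (P * Y * Pᵀ) = Qᵀ * (X * Y) * Pᵀ := by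
      calc Qᵀ * X * Q * (P * Y * Pᵀ) = Qᵀ * X * (Q * P) * Y * Pᵀ := by simp only [Matrix.mul_assoc]
        _ = _ := by rw [hQP, Matrix.mul_one]; simp only [Matrix.mul_assoc]
    rw [h11] at h0
    calc X * Y = (Pᵀ * Qᵀ) * (X * Y) * (Pᵀ * Qᵀ) := by rw [hT2, Matrix.one_mul, Matrix.mul_one]
      _ = Pᵀ * (Qᵀ * (X * Y) * Pᵀ) * Qᵀ := by simp only [Matrix.mul_assoc]
      _ = 1 := by rw [h0, Matrix.mul_one, hT2]
  · rw [Matrix.transpose_mul, Matrix.transpose_mul]
    calc Qᵀ * (c₁ᵀ * Pᵀ) * S * (P * c₁ * Q) = Qᵀ * (c₁ᵀ * (Pᵀ * S * P) * c₁) * Q := by simp only [Matrix.mul_assoc]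
      _ = Qᵀ * (c₁ᵀ * X * c₁ - X) * Q := by rw [h9]
      _ = Qᵀ * (c₁ᵀ * ((Pᵀ * Qᵀ) * X * (Q * P)) * c₁) * Q - Qᵀ * X * Q := by
        rw [hT2, hQP, Matrix.one_mul, Matrix.mul_one, Matrix.mul_sub, Matrix.sub_mul]
      _ = _ := by simp only [Matrix.mul_assoc]
  · rw [Matrix.transpose_mul, Matrix.transpose_mul]
    calc P * c₂ * Q * T * (Qᵀ * (c₂ᵀ * Pᵀ)) = P * (c₂ * (Q * T * Qᵀ) * c₂ᵀ) * Pᵀ := by simp only [Matrix.mul_assoc]
      _ = P * (Y - c₂ * Y * c₂ᵀ) * Pᵀ := by rw [h10]
      _ = P * Y * Pᵀ - P * (c₂ * ((Q * P) * Y * (Pᵀ * Qᵀ)) * c₂ᵀ) * Pᵀ := by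
        rw [hT2, hQP, Matrix.one_mul, Matrix.mul_one, Matrix.mul_sub, Matrix.sub_mul]
      _ = _ := by simp only [Matrix.mul_assoc]

/-- one choice is good unless `X Y = 1` -/
theorem good_of {c₁ c₂ k₁ k₂ S T X Y : Mat} (h1 : Fpf c₁) (h2 : Fpf c₂) (hk1 : c₁ * k₁ = 1) (hk2 : c₂ * k₂ = 1)
    (hX : Xᵀ = X) (hY : Yᵀ = Y) (hS : S = X - k₁ᵀ * X * k₁) (hT : T = k₂ * Y * k₂ᵀ - Y) (hS0 : S ≠ 0) (hT0 : T ≠ 0)
    (hne : X * Y ≠ 1) : Good (c₁ * c₂) S T := by
  have e1 : k₁ * c₁ = 1 := mul_eq_one_comm.1 hk1
  have e1' : c₁ᵀ * k₁ᵀ = 1 := by rw [← Matrix.transpose_mul, e1, Matrix.transpose_one]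
  have e2' : k₂ᵀ * c₂ᵀ = 1 := by rw [← Matrix.transpose_mul, hk2, Matrix.transpose_one]
  refine ⟨c₁, c₂, X, Y, rfl, h1, h2, hX, hY, ?_, ?_, hne, ?_, ?_⟩
  · rintro rfl
    apply hS0
    rw [hS, Matrix.mul_zero, Matrix.zero_mul, sub_zero]
  · rintro rfl
    apply hT0
    rw [hT, Matrix.mul_zero, Matrix.zero_mul, sub_zero]
  · rw [hS, Matrix.mul_sub, Matrix.sub_mul]
    refine congrArg₂ (· - ·) rfl ?_
    calc c₁ᵀ * (k₁ᵀ * X * k₁) * c₁ = (c₁ᵀ * k₁ᵀ) * X * (k₁ * c₁) := by simp only [Matrix.mul_assoc]
      _ = X := by rw [e1', e1, Matrix.one_mul, Matrix.mul_one]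
  · rw [hT, Matrix.mul_sub, Matrix.sub_mul]
    refine congrArg₂ (· - ·) ?_ rfl
    calc c₂ * (k₂ * Y * k₂ᵀ) * c₂ᵀ = (c₂ * k₂) * Y * (k₂ᵀ * c₂ᵀ) := by simp only [Matrix.mul_assoc]
      _ = Y := by rw [hk2, e2', Matrix.one_mul, Matrix.mul_one]

theorem good_of_dt {x : Dt} {A : M9} (h : x.ck A = true) {S T : Mat} (hS : Sᵀ = S) (hT : Tᵀ = T) (hS0 : S ≠ 0)
    (hT0 : T ≠ 0) : Good (toM A) S T := by
  rw [Dt.ck] at h
  simp only [Bool.and_eq_true, eqb_iff, toM_mul] at h
  obtain ⟨⟨⟨⟨⟨⟨hA1, hA2⟩, hc1⟩, hc2⟩, hd1⟩, hd2⟩, hck⟩ := h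
  obtain ⟨f1, k1⟩ := ok13_spec hc1
  obtain ⟨f2, k2⟩ := ok13_spec hc2
  obtain ⟨g1, l1⟩ := ok13_spec hd1
  obtain ⟨g2, l2⟩ := ok13_spec hd2
  obtain ⟨X, hX, eX⟩ := hat_exists f1 k1 hS
  obtain ⟨Y, hY, eY⟩ := hatT_exists f2 k2 hT
  obtain ⟨X', hX', eX'⟩ := hat_exists g1 l1 hS
  obtain ⟨Y', hY', eY'⟩ := hatT_exists g2 l2 hT
  by_cases h1 : X * Y = 1
  · by_cases h2 : X' * Y' = 1
    · exfalso
      obtain ⟨a, b, c, d, e, f, ha, hb, hc, hd, he, hf, rfl⟩ := exists_sy hX
      have h3 : ckX x.k₁ x.k₂ x.l₁ x.l₂ x.L a b c d e f = true := by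
        have h4 := List.all_eq_true.1 hck a (List.mem_range.2 ha)
        have h5 := List.all_eq_true.1 h4 b (List.mem_range.2 hb)
        have h6 := List.all_eq_true.1 h5 c (List.mem_range.2 hc)
        have h7 := List.all_eq_true.1 h6 d (List.mem_range.2 hd)
        have h8 := List.all_eq_true.1 h7 e (List.mem_range.2 he)
        exact List.all_eq_true.1 h8 f (List.mem_range.2 hf)
      rw [ckX, Bool.or_eq_true] at h3
      rcases h3 with h3 | h3
      · rw [beq_iff_eq] at h3
        have h4 : (toM (sy a b c d e f)).det = 0 := by rw [← toM_det, h3, Nat.cast_zero]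
        have h5 := congrArg Matrix.det h1
        rw [Matrix.det_mul, h4, zero_mul, Matrix.det_one] at h5
        exact zero_ne_one h5
      · simp only [Bool.and_eq_true, eqb_iff, toM_fS, Bool.or_eq_true, beq_iff_eq, Bool.not_eq_true'] at h3
        obtain ⟨h4, h5⟩ := h3
        have h6 : X' = toM (lin x.L a b c d e f) := by
          apply hat_unique g1 l1
          rw [← eX', ← h4, ← eX]
        have hdet : (sy a b c d e f).det ≠ 0 := by
          intro h0
          have h7 : (toM (sy a b c d e f)).det = 0 := by rw [← toM_det, h0, Nat.cast_zero]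
          have h8 := congrArg Matrix.det h1
          rw [Matrix.det_mul, h7, zero_mul, Matrix.det_one] at h8
          exact zero_ne_one h8
        rcases h5 with h5 | h5
        · have h7 : X'.det = 0 := by rw [h6, ← toM_det, h5, Nat.cast_zero]
          have h8 := congrArg Matrix.det h2
          rw [Matrix.det_mul, h7, zero_mul, Matrix.det_one] at h8
          exact zero_ne_one h8
        · have hdet' : (lin x.L a b c d e f).det ≠ 0 := by
            intro h0
            have h7 : X'.det = 0 := by rw [h6, ← toM_det, h0, Nat.cast_zero]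
            have h8 := congrArg Matrix.det h2
            rw [Matrix.det_mul, h7, zero_mul, Matrix.det_one] at h8
            exact zero_ne_one h8
          have e1 : Y = toM (sy a b c d e f).inv := by
            have h9 := mul_inv hdet
            have h10 : Y * toM (sy a b c d e f) = 1 := mul_eq_one_comm.1 h1
            calc Y = Y * (toM (sy a b c d e f) * toM (sy a b c d e f).inv) := by rw [h9, Matrix.mul_one]
              _ = _ := by rw [← Matrix.mul_assoc, h10, Matrix.one_mul]
          have e2 : Y' = toM (lin x.L a b c d e f).inv := by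
            have h9 := mul_inv hdet'
            rw [h6] at h2
            have h10 : Y' * toM (lin x.L a b c d e f) = 1 := mul_eq_one_comm.1 h2
            calc Y' = Y' * (toM (lin x.L a b c d e f) * toM (lin x.L a b c d e f).inv) := by rw [h9, Matrix.mul_one]
              _ = _ := by rw [← Matrix.mul_assoc, h10, Matrix.one_mul]
          have h11 : (gT x.k₂ (sy a b c d e f).inv).eqb (gT x.l₂ (lin x.L a b c d e f).inv) = true := by
            rw [eqb_iff, toM_gT, toM_gT, ← e1, ← e2, ← eY, ← eY']
          rw [h11] at h5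
          exact Bool.noConfusion h5
    · rw [← hA2]
      exact good_of g1 g2 l1 l2 hX' hY' eX' eY' hS0 hT0 h2
  · rw [← hA1]
    exact good_of f1 f2 k1 k2 hX hY eX eY hS0 hT0 h1

/-- the table: every block companion matrix of determinant 1 has data -/
theorem exists_dt (b0 b1 : Bool) (c0 c1 c2 : ℕ) (h0 : c0 < 3) (h1 : c1 < 3) (h2 : c2 < 3) (hd : (bl b0 b1 c0 c1 c2).det = 1) :
    ∃ x : Dt, x.ck (bl b0 b1 c0 c1 c2) = true := by
  cases b0 <;> cases b1 <;> interval_cases c0 <;> interval_cases c1 <;> interval_cases c2
  · exact absurd hd (by decide)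
  · exact absurd hd (by decide)
  · exact absurd hd (by decide)
  · exact absurd hd (by decide)
  · exact absurd hd (by decide)
  · exact absurd hd (by decide)
  · exact absurd hd (by decide)
  · exact absurd hd (by decide)
  · exact absurd hd (by decide)
  · exact ⟨dt0, ck0⟩
  · exact ⟨dt3, ck3⟩
  · exact ⟨dt6, ck6⟩
  · exact ⟨dt1, ck1⟩
  · exact ⟨dt4, ck4⟩
  · exact ⟨dt7, ck7⟩
  · exact ⟨dt2, ck2⟩
  · exact ⟨dt5, ck5⟩
  · exact ⟨dt8, ck8⟩
  · exact absurd hd (by decide)
  · exact absurd hd (by decide)
  · exact absurd hd (by decide)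
  · exact absurd hd (by decide)
  · exact absurd hd (by decide)
  · exact absurd hd (by decide)
  · exact absurd hd (by decide)
  · exact absurd hd (by decide)
  · exact absurd hd (by decide)
  · exact absurd hd (by decide)
  · exact absurd hd (by decide)
  · exact absurd hd (by decide)
  · exact absurd hd (by decide)
  · exact absurd hd (by decide)
  · exact absurd hd (by decide)
  · exact absurd hd (by decide)
  · exact absurd hd (by decide)
  · exact absurd hd (by decide)
  · exact absurd hd (by decide)
  · exact absurd hd (by decide)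
  · exact ⟨dt12, ck12⟩
  · exact absurd hd (by decide)
  · exact absurd hd (by decide)
  · exact ⟨dt13, ck13⟩
  · exact absurd hd (by decide)
  · exact absurd hd (by decide)
  · exact ⟨dt14, ck14⟩
  · exact absurd hd (by decide)
  · exact ⟨dt9, ck9⟩
  · exact absurd hd (by decide)
  · exact absurd hd (by decide)
  · exact ⟨dt10, ck10⟩
  · exact absurd hd (by decide)
  · exact absurd hd (by decide)
  · exact ⟨dt11, ck11⟩
  · exact absurd hd (by decide)
  · exact absurd hd (by decide)
  · exact absurd hd (by decide)
  · exact absurd hd (by decide)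
  · exact absurd hd (by decide)
  · exact absurd hd (by decide)
  · exact absurd hd (by decide)
  · exact absurd hd (by decide)
  · exact absurd hd (by decide)
  · exact absurd hd (by decide)
  · exact absurd hd (by decide)
  · exact absurd hd (by decide)
  · exact absurd hd (by decide)
  · exact absurd hd (by decide)
  · exact absurd hd (by decide)
  · exact absurd hd (by decide)
  · exact ⟨dt16, ck16⟩
  · exact ⟨dt18, ck18⟩
  · exact ⟨dt20, ck20⟩
  · exact absurd hd (by decide)
  · exact absurd hd (by decide)
  · exact absurd hd (by decide)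
  · exact ⟨dt15, ck15⟩
  · exact ⟨dt17, ck17⟩
  · exact ⟨dt19, ck19⟩
  · exact absurd hd (by decide)
  · exact absurd hd (by decide)
  · exact absurd hd (by decide)
  · exact absurd hd (by decide)
  · exact absurd hd (by decide)
  · exact absurd hd (by decide)
  · exact absurd hd (by decide)
  · exact absurd hd (by decide)
  · exact absurd hd (by decide)
  · exact absurd hd (by decide)
  · exact absurd hd (by decide)
  · exact absurd hd (by decide)
  · exact absurd hd (by decide)
  · exact absurd hd (by decide)
  · exact absurd hd (by decide)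
  · exact absurd hd (by decide)
  · exact ⟨dt21, ck21⟩
  · exact absurd hd (by decide)
  · exact absurd hd (by decide)
  · exact absurd hd (by decide)
  · exact ⟨dt24, ck24⟩
  · exact absurd hd (by decide)
  · exact absurd hd (by decide)
  · exact absurd hd (by decide)
  · exact absurd hd (by decide)
  · exact absurd hd (by decide)
  · exact ⟨dt23, ck23⟩
  · exact absurd hd (by decide)
  · exact ⟨dt22, ck22⟩
  · exact absurd hd (by decide)

/-- the block companion matrices -/
theorem blk_eq {b : Fin 3 → Bool} (hb : b 2 = true) (c : Fin 3 → ZMod 3) :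
    H934.MF.blk b c = toM (bl (b 0) (b 1) (c 0).val (c 1).val (c 2).val) := by
  have hb' : ∀ j : Fin 3, b j = ![b 0, b 1, true] j := by
    intro j
    fin_cases j <;> simp [hb]
  ext i j
  rw [H934.MF.blk, Matrix.of_apply]
  cases h0 : b 0 <;> cases h1 : b 1 <;> (revert i j; simp only [hb, h0, h1, toM, bl, Fin.forall_fin_succ, _root_.Fin.forall_fin_succ, Fin.isValue, _root_.nonpos_iff_eq_zero, _root_.implies_true, _root_.Fin.succ_zero_eq_one, _root_.Fin.succ_one_eq_two, _root_.Bool.true_eq_false, _root_.imp_false, _root_.not_lt, _root_.IsEmpty.forall_iff, _root_.and_true, _root_.true_and, _root_.Nat.cast_zero, _root_.ZMod.natCast_val, _root_.ZMod.cast_id', _root_.id_eq, _root_.Nat.cast_one, _root_.Matrix.of_apply, _root_.Matrix.cons_val', _root_.Matrix.cons_val_fin_one, _root_.Bool.false_eq_true, ↓reduceIte, _root_.Fin.coe_ofNat_eq_mod, _root_.Nat.zero_mod, _root_.zero_add, _root_.Matrix.cons_val_zero, _root_.Fin.val_succ, _root_.Matrix.cons_val_succ, Nat.reduceAdd, _root_.Fin.val_eq_zero, _root_.Std.le_refl, _root_.zero_ne_one,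 _root_.OfNat.zero_ne_ofNat, _root_.zero_le, _root_.and_self, _root_.Nat.add_eq_right, _root_.Fin.val_eq_zero_iff, Nat.reduceEqDiff, Fin.reduceLE, _root_.Fin.succ_ne_zero, _root_.not_le, _root_.not_lt_zero, _root_.and_false, _root_.lt_self_iff_false, _root_.ite_eq_right_iff, Fin.reduceLT, _root_.not_true_eq_false, _root_.not_false_eq_true])

/-- **Pairs of elements of order 13.** -/
theorem exists_pair {A S T : Mat} (hA : A.det = 1) (hS : Sᵀ = S) (hT : Tᵀ = T) (hS0 : S ≠ 0) (hT0 : T ≠ 0) :
    Good A S T := by
  obtain ⟨b, c, P, hb, hP, hAP⟩ := H934.MF.exists_blk (n := 3) (by norm_num) A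
  have hu : IsUnit P.det := hP.isUnit
  have hPQ : P * P⁻¹ = 1 := Matrix.mul_nonsing_inv _ hu
  have hQP : P⁻¹ * P = 1 := Matrix.nonsing_inv_mul _ hu
  have hT1 : (P⁻¹)ᵀ * Pᵀ = 1 := by rw [← Matrix.transpose_mul, hPQ, Matrix.transpose_one]
  have hT2 : Pᵀ * (P⁻¹)ᵀ = 1 := by rw [← Matrix.transpose_mul, hQP, Matrix.transpose_one]
  have hA' : A = P * H934.MF.blk b c * P⁻¹ := by
    rw [← hAP, Matrix.mul_assoc, hPQ, Matrix.mul_one]
  have hdet : (H934.MF.blk b c).det = 1 := by
    have h1 := congrArg Matrix.det hAP
    rw [Matrix.det_mul, Matrix.det_mul, hA, one_mul] at h1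
    exact (mul_right_injective₀ hP (by simpa only [_root_.mul_one] using h1)).symm
  rw [blk_eq hb] at hA' hdet
  obtain ⟨x, hx⟩ := exists_dt (b 0) (b 1) (c 0).val (c 1).val (c 2).val (ZMod.val_lt _) (ZMod.val_lt _) (ZMod.val_lt _) (by
    rw [← toM_det] at hdet
    have h1 := det_lt (bl (b 0) (b 1) (c 0).val (c 1).val (c 2).val)
    generalize (bl (b 0) (b 1) (c 0).val (c 1).val (c 2).val).det = t at hdet h1
    interval_cases t
    · exact absurd hdet (by decide)
    · rfl
    · exact absurd hdet (by decide))
  rw [hA']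
  refine Good.conj hPQ (good_of_dt hx ?_ ?_ ?_ ?_)
  · rw [Matrix.transpose_mul, Matrix.transpose_mul, Matrix.transpose_transpose, hS, Matrix.mul_assoc]
  · rw [Matrix.transpose_mul, Matrix.transpose_mul, Matrix.transpose_transpose, hT, Matrix.mul_assoc]
  · intro h0
    apply hS0
    calc S = ((P⁻¹)ᵀ * Pᵀ) * S * (P * P⁻¹) := by rw [hT1, hPQ, Matrix.one_mul, Matrix.mul_one]
      _ = (P⁻¹)ᵀ * (Pᵀ * S * P) * P⁻¹ := by simp only [Matrix.mul_assoc]
      _ = 0 := by rw [h0, Matrix.mul_zero, Matrix.zero_mul]
  · intro h0
    apply hT0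
    calc T = (P * P⁻¹) * T * ((P⁻¹)ᵀ * Pᵀ) := by rw [hT1, hPQ, Matrix.one_mul, Matrix.mul_one]
      _ = P * (P⁻¹ * T * (P⁻¹)ᵀ) * Pᵀ := by simp only [Matrix.mul_assoc]
      _ = 0 := by rw [h0, Matrix.mul_zero, Matrix.zero_mul]

end Cfsg.Agent.H267.Pw

private theorem dce_a05040a4a226 : _root_.True := by
  try have : _root_.True := by simp only [_root_.Cfsg.Agent.H267.Pw.M9.sy.eq_1]
  try have : _root_.True := by simp only [_root_.Cfsg.Agent.H267.Pw.M9.sub.eq_1]
  try have : _root_.True := by simp only [_root_.Cfsg.Agent.H267.Pw.M9.one.eq_1]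
  try have : _root_.True := by simp only [_root_.Cfsg.Agent.H267.Pw.M9.bl.eq_3]
  try have : _root_.True := by simp only [_root_.Cfsg.Agent.H267.Pw.M9.det.eq_1]
  try have : _root_.True := by simp only [_root_.Cfsg.Agent.H267.Pw.M9.mul.eq_1]
  try have : _root_.True := by simp only [_root_.Cfsg.Agent.H267.Pw.M9.ok13.eq_1]
  try have : _root_.True := by simp only [_root_.Cfsg.Agent.H267.Pw.M9.bl.eq_4]
  try have : _root_.True := by simp only [_root_.Cfsg.Agent.H267.Pw.M9.inv.eq_1]
  try have : _root_.True := by simp only [_root_.Cfsg.Agent.H267.Pw.M9.bl.eq_2]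
  try have : _root_.True := by simp only [_root_.Cfsg.Agent.H267.Pw.M9.bl.eq_1]
  try have : _root_.True := by simp only [_root_.Cfsg.Agent.H267.Pw.Dt.ck.eq_1]
  try have : _root_.True := by simp only [_root_.Cfsg.Agent.H267.Pw.M9.eqb.eq_1]
  try have : _root_.True := by simp only [_root_.Cfsg.Agent.H267.Pw.M9.ckP.eq_1]
  try have : _root_.True := by simp only [_root_.Cfsg.Agent.H267.Pw.M9.gT.eq_1]
  try have : _root_.True := by simp only [_root_.Cfsg.Agent.H267.Pw.M9.fS.eq_1]
  try have : _root_.True := by simp only [_root_.Cfsg.Agent.H267.Pw.M9.toM.eq_1]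
  try have : _root_.True := by simp only [_root_.Cfsg.Agent.H267.Pw.M9.scl.eq_1]
  try have : _root_.True := by simp only [_root_.Cfsg.Agent.H267.Pw.M9.ckX.eq_1]
  exact _root_.True.intro
end

-- part: H700/F43/Mod
section
prune_inst 0x150075443d6202000818009623203c66ee000492006bc001f9a00b4207c79f60a0c52f61fef01d1282bebe55783d004811100140426000000e00b800011a01a08402420283080004270009809086000000000000000000000000000000041004000000000
set_option linter.all false
open scoped Cfsg.Agent.FastGrp

/-!
# `Sp₆(3)` and the module `V₁₄ = Λ³₀` (S2465, F₄(3), block E; helper700)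

* `Sp` : `Matrix.symplecticGroup (Fin 3) (ZMod 3)`; `uu T = [[1, T], [0, 1]]`, `vv S = [[1, 0], [S, 1]]`,
  `dd c = [[c, 0], [0, c⁻ᵀ]]`, `ng = -1`;
* `V14` : the quadruples `(α, X, Y, β)`, `X`, `Y` symmetric `3 × 3` matrices with coordinates `11, 22, 33, 23, 13, 12`;
* `ww x y z` : the alternating trilinear map `V₆³ → V₁₄`;
* `Rel A X` : `X (ww x y z) = ww (A x) (A y) (A z)`.
-/

set_option autoImplicit false

namespace Cfsg.Agent.H700.F43

open Matrix

/-- the field -/
abbrev F3 := ZMod 3

/-- symplectic group -/
abbrev Sp := Matrix.symplecticGroup (Fin 3) F3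

/-- the natural module: `Sum.inl i` are the coordinates along `e i`, `Sum.inr i` along `f i` -/
abbrev V6 := Fin 3 ⊕ Fin 3 → F3

/-- `-1` -/
def ng : Sp := ⟨-1, SymplecticGroup.neg_mem (one_mem _)⟩

/-- membership for block matrices -/
theorem mem_iff (A : Matrix (Fin 3 ⊕ Fin 3) (Fin 3 ⊕ Fin 3) F3) :
    A ∈ Matrix.symplecticGroup (Fin 3) F3 ↔ A * Matrix.J (Fin 3) F3 * Aᵀ = Matrix.J (Fin 3) F3 := Iff.rfl

theorem uu_mem {T : Matrix (Fin 3) (Fin 3) F3} (hT : Tᵀ = T) :
    Matrix.fromBlocks 1 T 0 1 ∈ Matrix.symplecticGroup (Fin 3) F3 := by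
  rw [mem_iff, Matrix.J, Matrix.fromBlocks_transpose, Matrix.fromBlocks_multiply, Matrix.fromBlocks_multiply]
  congr 1 <;> simp [hT]

theorem vv_mem {S : Matrix (Fin 3) (Fin 3) F3} (hS : Sᵀ = S) :
    Matrix.fromBlocks 1 0 S 1 ∈ Matrix.symplecticGroup (Fin 3) F3 := by
  rw [mem_iff, Matrix.J, Matrix.fromBlocks_transpose, Matrix.fromBlocks_multiply, Matrix.fromBlocks_multiply]
  congr 1 <;> simp [hS]

theorem dd_mem (c : _root_.Matrix.SpecialLinearGroup (Fin 3) F3) :
    Matrix.fromBlocks c.1 0 0 ((c⁻¹).1ᵀ) ∈ Matrix.symplecticGroup (Fin 3) F3 := by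
  have h1 : c.1 * (c⁻¹).1 = 1 := (congrArg Subtype.val (mul_inv_cancel c) :)
  generalize (c⁻¹).1 = d at h1 ⊢
  generalize c.1 = c at h1 ⊢
  have h2 : d * c = 1 := mul_eq_one_comm.1 h1
  rw [mem_iff, Matrix.J, Matrix.fromBlocks_transpose, Matrix.fromBlocks_multiply, Matrix.fromBlocks_multiply]
  congr 1
  · simp
  · simp only [Matrix.mul_zero, Matrix.transpose_transpose, zero_add, add_zero, Matrix.mul_neg,
      Matrix.neg_mul, Matrix.mul_one, Matrix.transpose_zero]
    rw [h1]
  · simp only [Matrix.mul_zero, Matrix.zero_mul, zero_add, add_zero, Matrix.mul_one, Matrix.transpose_zero]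
    rw [← Matrix.transpose_mul, h1, Matrix.transpose_one]
  · simp

/-- `[[1, T], [0, 1]]` -/
def uu (T : Matrix (Fin 3) (Fin 3) F3) (hT : Tᵀ = T) : Sp := ⟨Matrix.fromBlocks 1 T 0 1, uu_mem hT⟩

/-- `[[1, 0], [S, 1]]` -/
def vv (S : Matrix (Fin 3) (Fin 3) F3) (hS : Sᵀ = S) : Sp := ⟨Matrix.fromBlocks 1 0 S 1, vv_mem hS⟩

/-- `[[c, 0], [0, c⁻ᵀ]]` -/
def dd (c : _root_.Matrix.SpecialLinearGroup (Fin 3) F3) : Sp := ⟨Matrix.fromBlocks c.1 0 0 ((c⁻¹).1ᵀ), dd_mem c⟩

/-! ### the module of dimension fourteen -/

/-- `(α, X, Y, β)`: coordinate `0` = `α` (along `f₁ ∧ f₂ ∧ f₃`), `1, …, 6` = `X` (`11, 22, 33, 23, 13, 12`, along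
`f ∧ f ∧ e`), `7, …, 12` = `Y` (along `e ∧ e ∧ f`), `13` = `β` (along `e₁ ∧ e₂ ∧ e₃`) -/
abbrev V14 := Fin 14 → F3

/-- determinant of three vectors in coordinates `a b c` -/
def d3 (x y z : V6) (a b c : Fin 3 ⊕ Fin 3) : F3 :=
  x a * (y b * z c - y c * z b) - x b * (y a * z c - y c * z a) + x c * (y a * z b - y b * z a)

/-- coefficient along `(f_{j+1} ∧ f_{j+2}) ∧ e_i` -/
def cX (x y z : V6) (i j : Fin 3) : F3 := d3 x y z (Sum.inr (j + 1)) (Sum.inr (j + 2)) (Sum.inl i)

/-- coefficient along `(e_{j+1} ∧ e_{j+2}) ∧ f_i` -/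
def cY (x y z : V6) (i j : Fin 3) : F3 := d3 x y z (Sum.inl (j + 1)) (Sum.inl (j + 2)) (Sum.inr i)

/-- the trilinear map (the symmetric parts, `1/2 = -1`) -/
def ww (x y z : V6) : V14 := ![
  d3 x y z (Sum.inr 0) (Sum.inr 1) (Sum.inr 2),
  cX x y z 0 0, cX x y z 1 1, cX x y z 2 2,
  -(cX x y z 1 2 + cX x y z 2 1), -(cX x y z 0 2 + cX x y z 2 0), -(cX x y z 0 1 + cX x y z 1 0),
  cY x y z 0 0, cY x y z 1 1, cY x y z 2 2,
  -(cY x y z 1 2 + cY x y z 2 1), -(cY x y z 0 2 + cY x y z 2 0), -(cY x y z 0 1 + cY x y z 1 0),
  d3 x y z (Sum.inl 0) (Sum.inl 1) (Sum.inl 2)]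

/-- `X` is the action of `A` on `V₁₄` -/
def Rel (A : Sp) (X : V14 →ₗ[F3] V14) : Prop :=
  ∀ x y z : V6, X (ww x y z) = ww (A.1.mulVec x) (A.1.mulVec y) (A.1.mulVec z)

theorem Rel.mul {A B : Sp} {X Y : V14 →ₗ[F3] V14} (h : Rel A X) (h' : Rel B Y) : Rel (A * B) (X * Y) := by
  intro x y z
  show X (Y (ww x y z)) = _
  rw [h' x y z, h]
  simp only [Matrix.mulVec_mulVec]
  rfl

theorem Rel.one : Rel 1 (1 : V14 →ₗ[F3] V14) := by
  intro x y z
  simp only [_root_.Module.End.one_apply, _root_.OneMemClass.coe_one, _root_.Matrix.one_mulVec]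

end Cfsg.Agent.H700.F43
end

-- part: H980/F43/GenSp
section
set_option linter.all false
open scoped Cfsg.Agent.FastGrp

/-!
# `Sp₆(3)` is generated by the block unipotents (S2465, F₄(3), block E; helper980)

* `gen_sp` : `Subgroup.closure {uu T, vv S} = ⊤`.

Every symplectic matrix is a product of block unipotents: first block diagonal matrices (products of two matrices
`[[0, T], [-T⁻¹, 0]]`), then matrices with invertible upper left block, then the lower left block is made diagonal.
-/

set_option autoImplicit false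

namespace Cfsg.Agent.H980.F43

open Matrix Cfsg.Agent.H700.F43

/-- the generators -/
def gens : Set Sp := {A : Sp | (∃ T, ∃ hT : Tᵀ = T, A = uu T hT) ∨ ∃ S, ∃ hS : Sᵀ = S, A = vv S hS}

/-- the generated subgroup -/
abbrev H : Subgroup Sp := Subgroup.closure gens

abbrev M3 := Matrix (Fin 3) (Fin 3) F3
abbrev M6 := Matrix (Fin 3 ⊕ Fin 3) (Fin 3 ⊕ Fin 3) F3

/-- matrices of the generated subgroup -/
def InH (X : M6) : Prop := ∃ h : Sp, h ∈ H ∧ h.1 = X

theorem InH.mul {X Y : M6} (hX : InH X) (hY : InH Y) : InH (X * Y) := by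
  obtain ⟨h, hh, rfl⟩ := hX
  obtain ⟨k, hk, rfl⟩ := hY
  exact ⟨h * k, H.mul_mem hh hk, rfl⟩

theorem inH_u {T : M3} (hT : Tᵀ = T) : InH (fromBlocks 1 T 0 1) :=
  ⟨uu T hT, Subgroup.subset_closure (Or.inl ⟨T, hT, rfl⟩), rfl⟩

theorem inH_v {S : M3} (hS : Sᵀ = S) : InH (fromBlocks 1 0 S 1) :=
  ⟨vv S hS, Subgroup.subset_closure (Or.inr ⟨S, hS, rfl⟩), rfl⟩

theorem mem_of_inH {A : Sp} (h : InH A.1) : A ∈ H := by
  obtain ⟨k, hk, e⟩ := h
  rwa [← Subtype.ext e]

/-- cancellation on the left -/
theorem mem_of_mul_left {A B : Sp} (hB : B ∈ H) (h : B * A ∈ H) : A ∈ H := (H.mul_mem_cancel_left hB).1 h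
theorem mem_of_mul_right {A B : Sp} (hB : B ∈ H) (h : A * B ∈ H) : A ∈ H := (H.mul_mem_cancel_right hB).1 h

/-- the inverse of a symmetric matrix is symmetric -/
theorem sym_inv {T R : M3} (hT : Tᵀ = T) (h : T * R = 1) : Rᵀ = R := by
  have h1 : Rᵀ * T = 1 := by
    have := congrArg transpose h
    rwa [transpose_mul, hT, transpose_one] at this
  calc Rᵀ = Rᵀ * (T * R) := by rw [h, Matrix.mul_one]
    _ = R := by rw [← Matrix.mul_assoc, h1, Matrix.one_mul]

/-- `[[0, T], [-T⁻¹, 0]]` -/
theorem inH_w {T R : M3} (hT : Tᵀ = T) (h : T * R = 1) : InH (fromBlocks 0 T (-R) 0) := by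
  have hR := sym_inv hT h
  have h' : R * T = 1 := mul_eq_one_comm.1 h
  have h1 := ((inH_u hT).mul (inH_v (S := -R) (by rw [transpose_neg, hR]))).mul (inH_u hT)
  rw [fromBlocks_multiply, fromBlocks_multiply] at h1
  have e : fromBlocks 0 T (-R) 0 = (fromBlocks
      ((1 * 1 + T * -R) * 1 + (1 * 0 + T * 1) * 0) ((1 * 1 + T * -R) * T + (1 * 0 + T * 1) * 1)
      ((0 * 1 + 1 * -R) * 1 + (0 * 0 + 1 * 1) * 0) ((0 * 1 + 1 * -R) * T + (0 * 0 + 1 * 1) * 1) : M6) := by
    congr 1
    · simp [h]
    · simp [h]
    · simp
    · simp [h']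
  rw [e]
  exact h1

/-- the block diagonal matrices with upper left block `P` -/
def dOK (P : M3) : Prop := ∀ R : M3, P * R = 1 → InH (fromBlocks P 0 0 Rᵀ)

theorem dOK.mul {P Q : M3} (hP : dOK P) (hQ : dOK Q) : dOK (P * Q) := by
  intro R hR
  have h1 : P * (Q * R) = 1 := by rw [← Matrix.mul_assoc]; exact hR
  have h2 : Q * (R * P) = 1 := by
    rw [← Matrix.mul_assoc]
    exact mul_eq_one_comm.1 h1
  have h3 := (hP _ h1).mul (hQ _ h2)
  rw [fromBlocks_multiply] at h3
  have e : fromBlocks (P * Q) 0 0 Rᵀ = (fromBlocks (P * Q + 0 * 0) (P * 0 + 0 * (R * P)ᵀ)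
      (0 * Q + (Q * R)ᵀ * 0) (0 * 0 + (Q * R)ᵀ * (R * P)ᵀ) : M6) := by
    congr 1
    · simp
    · simp
    · simp
    · rw [← transpose_mul, Matrix.mul_zero, zero_add, show R * P * (Q * R) = R * (P * (Q * R)) from Matrix.mul_assoc _ _ _,
        h1, Matrix.mul_one]
  rw [e]
  exact h3

theorem dOK_one : dOK 1 := by
  intro R hR
  rw [Matrix.one_mul] at hR
  rw [hR, transpose_one, fromBlocks_one]
  exact ⟨1, H.one_mem, rfl⟩

theorem dOK_of_sym {T T' : M3} (hT : Tᵀ = T) (hT' : T'ᵀ = T') (h' : T' * T' = 1) : dOK (T * T') := by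
  intro R hR
  have h1 : T * (T' * R) = 1 := by rw [← Matrix.mul_assoc]; exact hR
  have h2 := inH_w hT h1
  have h3 := inH_w (T := -T') (R := -T') (by rw [transpose_neg, hT']) (by rw [neg_mul_neg, h'])
  have h4 := h2.mul h3
  rw [fromBlocks_multiply] at h4
  have hs := sym_inv hT h1
  have e : fromBlocks (T * T') 0 0 Rᵀ = (fromBlocks (0 * 0 + T * - -T') (0 * -T' + T * 0)
      (-(T' * R) * 0 + 0 * - -T') (-(T' * R) * -T' + 0 * 0) : M6) := by
    congr 1
    · simp
    · simp
    · simp
    · have h5 : Rᵀ * T' = T' * R := by rw [← hs, transpose_mul, hT']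
      have h6 : Rᵀ = T' * R * T' := by
        rw [← h5, Matrix.mul_assoc, h', Matrix.mul_one]
      rw [h6]
      simp
  rw [e]
  exact h4

/-- the permutation matrix of a transposition -/
def sw (i j : Fin 3) : M3 := Matrix.of fun a b => if a = Equiv.swap i j b then 1 else 0

theorem sw_facts : ∀ i j : Fin 3, i ≠ j → ∀ c : F3, (sw i j)ᵀ = sw i j ∧ sw i j * sw i j = 1 ∧
    (transvection i j c * sw i j)ᵀ = transvection i j c * sw i j := by
  decide +kernel

theorem dOK_transvection {i j : Fin 3} (hij : i ≠ j) (c : F3) : dOK (transvection i j c) := by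
  obtain ⟨h1, h2, h3⟩ := sw_facts i j hij c
  have h4 := dOK_of_sym h3 h1 h2
  rwa [Matrix.mul_assoc, h2, Matrix.mul_one] at h4

theorem dOK_list (L : List (TransvectionStruct (Fin 3) F3)) : dOK (L.map TransvectionStruct.toMatrix).prod := by
  induction L with
  | nil => exact dOK_one
  | cons t L ih =>
    rw [List.map_cons, List.prod_cons]
    exact (dOK_transvection t.hij t.c).mul ih

theorem dOK_diagonal (D : Fin 3 → F3) : dOK (diagonal D) := by
  have h := dOK_of_sym (T := diagonal D) (T' := 1) (diagonal_transpose D) transpose_one (Matrix.mul_one 1)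
  rwa [Matrix.mul_one] at h

/-- **all block diagonal matrices** -/
theorem dOK_all (P : M3) : dOK P := by
  obtain ⟨L, L', D, h⟩ := Matrix.Pivot.exists_list_transvec_mul_diagonal_mul_list_transvec P
  rw [h]
  exact ((dOK_list L).mul (dOK_diagonal D)).mul (dOK_list L')

/-! ### symplectic matrices -/

/-- the relations -/
theorem rel {A B C D : M3} (h : (fromBlocks A B C D : M6) ∈ Matrix.symplecticGroup (Fin 3) F3) :
    Cᵀ * A = Aᵀ * C ∧ Dᵀ * A - Bᵀ * C = 1 ∧ B * Aᵀ = A * Bᵀ := by
  have h1 := SymplecticGroup.mem_iff'.1 h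
  have h2 := SymplecticGroup.mem_iff.1 h
  rw [Matrix.J, fromBlocks_transpose, fromBlocks_multiply, fromBlocks_multiply, fromBlocks_inj] at h1 h2
  obtain ⟨h11, -, h13, -⟩ := h1
  obtain ⟨h21, -, -, -⟩ := h2
  simp only [Matrix.mul_zero, Matrix.mul_one, Matrix.mul_neg, zero_add, add_zero, Matrix.neg_mul] at h11 h13 h21
  refine ⟨?_, ?_, ?_⟩
  · exact (add_neg_eq_zero.1 h11)
  · rw [sub_eq_add_neg]; exact h13
  · exact (add_neg_eq_zero.1 h21)

/-- invertible upper left block -/
theorem mem_of_unit {X : Sp} {A B C D R : M3} (hX : X.1 = fromBlocks A B C D) (hR : A * R = 1) : X ∈ H := by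
  have h := X.2
  rw [hX] at h
  obtain ⟨h1, h2, h3⟩ := rel h
  have hR' : R * A = 1 := mul_eq_one_comm.1 hR
  have hRt : Rᵀ * Aᵀ = 1 := by rw [← transpose_mul, hR, transpose_one]
  have hRt' : Aᵀ * Rᵀ = 1 := by rw [← transpose_mul, hR', transpose_one]
  have hS : (C * R)ᵀ = C * R := by
    rw [transpose_mul]
    calc Rᵀ * Cᵀ = Rᵀ * (Cᵀ * A) * R := by rw [Matrix.mul_assoc, Matrix.mul_assoc, hR, Matrix.mul_one]
      _ = Rᵀ * Aᵀ * (C * R) := by rw [h1]; simp only [Matrix.mul_assoc]
      _ = C * R := by rw [hRt, Matrix.one_mul]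
  have hT : (R * B)ᵀ = R * B := by
    rw [transpose_mul]
    calc Bᵀ * Rᵀ = R * (A * Bᵀ) * Rᵀ := by rw [← Matrix.mul_assoc, hR', Matrix.one_mul]
      _ = R * B * (Aᵀ * Rᵀ) := by rw [← h3]; simp only [Matrix.mul_assoc]
      _ = R * B := by rw [hRt', Matrix.mul_one]
  have hk := ((inH_v hS).mul (dOK_all A R hR)).mul (inH_u hT)
  rw [fromBlocks_multiply, fromBlocks_multiply] at hk
  apply mem_of_inH
  rw [hX]
  have hD : C * R * B + Rᵀ = D := by
    have h4 : Aᵀ * D - Cᵀ * B = 1 := by
      have := congrArg transpose h2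
      rwa [transpose_sub, transpose_mul, transpose_mul, transpose_transpose, transpose_transpose, transpose_one] at this
    have h5 : Aᵀ * D = 1 + Cᵀ * B := by rw [← h4]; abel
    have h6 : Rᵀ * Cᵀ = C * R := by rw [← transpose_mul]; exact hS
    calc C * R * B + Rᵀ = Rᵀ * (1 + Cᵀ * B) := by
          rw [Matrix.mul_add, Matrix.mul_one, ← Matrix.mul_assoc, h6, add_comm]
      _ = Rᵀ * Aᵀ * D := by rw [← h5, Matrix.mul_assoc]
      _ = D := by rw [hRt, Matrix.one_mul]
  have e : (fromBlocks A B C D : M6) = fromBlocks ((1 * A + 0 * 0) * 1 + (1 * 0 + 0 * Rᵀ) * 0)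
      ((1 * A + 0 * 0) * (R * B) + (1 * 0 + 0 * Rᵀ) * 1) ((C * R * A + 1 * 0) * 1 + (C * R * 0 + 1 * Rᵀ) * 0)
      ((C * R * A + 1 * 0) * (R * B) + (C * R * 0 + 1 * Rᵀ) * 1) := by
    congr 1
    · simp
    · simp only [Matrix.one_mul, Matrix.mul_zero, Matrix.zero_mul, add_zero, Matrix.mul_one]
      rw [← Matrix.mul_assoc, hR, Matrix.one_mul]
    · simp only [Matrix.mul_zero, add_zero, Matrix.mul_one]
      rw [Matrix.mul_assoc, hR', Matrix.mul_one]
    · simp only [Matrix.mul_zero, add_zero, Matrix.mul_one, Matrix.one_mul, zero_add]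
      rw [Matrix.mul_assoc C R A, hR', Matrix.mul_one, ← Matrix.mul_assoc, hD]
  rw [e]
  exact hk

/-- diagonal lower left block -/
theorem mem_of_diagonal {X : Sp} {A B D : M3} {d : Fin 3 → F3} (hX : X.1 = fromBlocks A B (diagonal d) D) : X ∈ H := by
  have h := X.2
  rw [hX] at h
  obtain ⟨h1, h2, h3⟩ := rel h
  -- `A j i * d j = A i j * d i`
  have hsym : ∀ i j, A j i * d j = A i j * d i := by
    intro i j
    have := congrFun (congrFun h1 j) i
    rw [diagonal_transpose, diagonal_mul, mul_diagonal, transpose_apply] at this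
    rw [mul_comm, this]
  set T : M3 := Matrix.of fun i j => if d i ≠ 0 ∧ d j ≠ 0 then ((if i = j then 1 else 0) - A i j) * (d j)⁻¹ else 0 with hTd
  have hTa : ∀ i j, T i j = if d i ≠ 0 ∧ d j ≠ 0 then ((if i = j then 1 else 0) - A i j) * (d j)⁻¹ else 0 :=
    fun i j => rfl
  have hT : Tᵀ = T := by
    ext i j
    rw [transpose_apply, hTa, hTa]
    by_cases hi : d i ≠ 0
    · by_cases hj : d j ≠ 0
      · have e1 : (if d j ≠ 0 ∧ d i ≠ 0 then ((if j = i then 1 else 0) - A j i) * (d i)⁻¹ else (0 : F3)) =
            ((if j = i then 1 else 0) - A j i) * (d i)⁻¹ := if_pos ⟨hj, hi⟩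
        have e2 : (if d i ≠ 0 ∧ d j ≠ 0 then ((if i = j then 1 else 0) - A i j) * (d j)⁻¹ else (0 : F3)) =
            ((if i = j then 1 else 0) - A i j) * (d j)⁻¹ := if_pos ⟨hi, hj⟩
        rw [e1, e2]
        by_cases hij : i = j
        · subst hij; rfl
        · rw [if_neg (Ne.symm hij), if_neg hij]
          have := hsym i j
          field_simp
          linear_combination (-1 : F3) * this
      · rw [if_neg (fun h => hj h.1), if_neg (fun h => hj h.2)]
    · rw [if_neg (fun h => hi h.2), if_neg (fun h => hi h.1)]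
  -- the new upper left block
  have hinj : ∀ x : Fin 3 → F3, (A + T * diagonal d).mulVec x = 0 → x = 0 := by
    intro x hx
    have hrow : ∀ j, d j ≠ 0 → ∀ i, (A + T * diagonal d) j i = if j = i then 1 else 0 := by
      intro j hj i
      rw [Matrix.add_apply, mul_diagonal, hTa]
      by_cases hi : d i ≠ 0
      · rw [if_pos ⟨hj, hi⟩, inv_mul_cancel_right₀ hi]
        ring
      · rw [if_neg (fun h => hi h.2), zero_mul, add_zero]
        push Not at hi
        have h4 := hsym i j
        rw [hi, mul_zero] at h4
        have h5 := (mul_eq_zero.1 h4).resolve_right hj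
        rw [h5, if_neg]
        rintro rfl
        exact hj hi
    have hxj : ∀ j, d j ≠ 0 → x j = 0 := by
      intro j hj
      have h4 := congrFun hx j
      rw [Matrix.mulVec, dotProduct] at h4
      simp only [hrow j hj] at h4
      simpa using h4
    have hdx : (diagonal d).mulVec x = 0 := by
      ext i
      rw [mulVec_diagonal]
      by_cases hi : d i = 0
      · rw [hi, zero_mul]; rfl
      · rw [hxj i hi, mul_zero]; rfl
    have hAx : A.mulVec x = 0 := by
      rw [Matrix.add_mulVec, ← Matrix.mulVec_mulVec, hdx, Matrix.mulVec_zero, add_zero] at hx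
      exact hx
    have h5 : (1 : M3).mulVec x = 0 := by
      rw [← h2, Matrix.sub_mulVec, ← Matrix.mulVec_mulVec, ← Matrix.mulVec_mulVec, hAx, hdx, Matrix.mulVec_zero,
        Matrix.mulVec_zero, sub_zero]
    rwa [Matrix.one_mulVec] at h5
  have hunit : IsUnit (A + T * diagonal d) := by
    rw [← Matrix.mulVec_injective_iff_isUnit]
    intro x y hxy
    have h6 : (A + T * diagonal d).mulVec (x - y) = 0 := by
      rw [Matrix.mulVec_sub]
      exact sub_eq_zero.2 hxy
    exact sub_eq_zero.1 (hinj _ h6)
  obtain ⟨u, hu⟩ := hunit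
  have hR : (A + T * diagonal d) * (u⁻¹ : (M3)ˣ).1 = 1 := by rw [← hu]; exact u.mul_inv
  refine mem_of_mul_left (B := uu T hT) (Subgroup.subset_closure (Or.inl ⟨T, hT, rfl⟩)) ?_
  refine mem_of_unit (A := A + T * diagonal d) (B := B + T * D) (C := diagonal d) (D := D) ?_ hR
  show fromBlocks 1 T 0 1 * X.1 = _
  rw [hX, fromBlocks_multiply]
  simp

theorem inv_list (L : List (TransvectionStruct (Fin 3) F3)) :
    ∃ R : M3, (L.map TransvectionStruct.toMatrix).prod * R = 1 := by
  refine ⟨((L.reverse.map (TransvectionStruct.toMatrix ∘ TransvectionStruct.inv))).prod, ?_⟩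
  exact TransvectionStruct.prod_mul_reverse_inv_prod L

/-- **`Sp₆(3)` is generated by the block unipotents** -/
theorem gen_sp : Subgroup.closure {A : Sp | (∃ T, ∃ hT : Tᵀ = T, A = uu T hT) ∨ ∃ S, ∃ hS : Sᵀ = S, A = vv S hS} = ⊤ := by
  show H = ⊤
  rw [eq_top_iff]
  rintro X -
  obtain ⟨A, B, C, D, hX⟩ : ∃ A B C D : M3, X.1 = fromBlocks A B C D :=
    ⟨_, _, _, _, (fromBlocks_toBlocks X.1).symm⟩
  obtain ⟨L, L', d, hC⟩ := Matrix.Pivot.exists_list_transvec_mul_diagonal_mul_list_transvec C
  obtain ⟨P, hP⟩ := inv_list L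
  obtain ⟨P', hP'⟩ := inv_list L'
  set U := (L.map TransvectionStruct.toMatrix).prod
  set U' := (L'.map TransvectionStruct.toMatrix).prod
  -- `P * C * P' = diagonal d`
  have hPU : P * U = 1 := mul_eq_one_comm.1 hP
  have hd : P * C * P' = diagonal d := by
    calc P * C * P' = (P * U) * diagonal d * (U' * P') := by rw [hC]; simp only [Matrix.mul_assoc]
      _ = diagonal d := by rw [hPU, hP', Matrix.one_mul, Matrix.mul_one]
  obtain ⟨b1, hb1, e1⟩ := dOK_all Uᵀ Pᵀ (by rw [← transpose_mul, hPU, transpose_one])
  obtain ⟨b2, hb2, e2⟩ := dOK_all P' U' (mul_eq_one_comm.1 hP')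
  rw [transpose_transpose] at e1
  refine mem_of_mul_left hb1 (mem_of_mul_right hb2 ?_)
  refine mem_of_diagonal (A := Uᵀ * A * P') (B := Uᵀ * B * U'ᵀ) (D := P * D * U'ᵀ) (d := d) ?_
  show b1.1 * X.1 * b2.1 = _
  rw [e1, e2, hX, fromBlocks_multiply, fromBlocks_multiply, ← hd]
  simp

end Cfsg.Agent.H980.F43
end

-- part: H537/Pw/WCFour
section
set_option linter.all false
open scoped Cfsg.Agent.FastGrp

-- part: H537/Pw/WC
section
/-!
# A class of `r`-elements is not inside the radicals of two parabolic subgroups (helper537)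

`exists_conj_notMem_VJ` : in a finite group `Y` with a root group datum and without nontrivial proper normal
subgroups, every nontrivial `r`-element has a conjugate in `U` which lies outside `V_J` or outside `V_J'`,
whenever `J ∪ J' = univ`.
-/

set_option autoImplicit false
set_option linter.unusedSectionVars false

namespace Cfsg.Agent.H537.Pw

open CoxeterSystem Cfsg.Agent.ChevalleyStructure.CoxeterGeom Cfsg.Agent.Tits.Roots Cfsg.Agent.Tits.Core
  Cfsg.Agent.Tits.Exchange Cfsg.Agent.Nodes.Reps Cfsg.Agent.Nodes.BNOf Cfsg.Agent.Nodes.StabComb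
  Cfsg.Agent.Nodes.Bruhat Cfsg.Agent.Nodes.OppDec Cfsg.Agent.Nodes.LeviDec Cfsg.Agent.H53.HC
open scoped Pointwise

universe u

variable {I W : Type*} {Y : Type u} [Fintype I] [DecidableEq I] [Group W] [Group Y] {M : CoxeterMatrix I}
  {cs : CoxeterSystem M W} {A : I → I → ℤ} {h : IsCartan M A} {r : ℕ} {T : Subgroup Y} {n : I → Y}
  {X : (I → ℤ) → Subgroup Y}

section
variable (R : RGD cs h r T n X)

include R

/-- two parabolic subgroups with `J ∪ J' = univ` generate `Y` -/
theorem eq_top_of_PJ_le [Finite W] (hG : GG cs h T X = ⊤) {J J1 : Set I} (hJ : ∀ i, i ∈ J ∨ i ∈ J1)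
    {P : Subgroup Y} (h1 : PJ cs h T X J ≤ P) (h2 : PJ cs h T X J1 ≤ P) : P = ⊤ := by
  rw [eq_top_iff]
  intro x _
  obtain ⟨w, b₁, hb₁, k, hk, b₂, hb₂, rfl⟩ := (mem_GG R).1 (show x ∈ GG cs h T X by rw [hG]; exact Subgroup.mem_top x)
  have hB : RGD.B cs h T X ≤ P := le_trans B_le_PJ h1
  have hn : ∀ i, n i ∈ P := by
    intro i
    rcases hJ i with hi | hi
    · exact h1 (LJ_le_PJ (n_mem_LJ R hi))
    · exact h2 (LJ_le_PJ (n_mem_LJ R hi))
  obtain ⟨g, hg, hgw⟩ := exists_rp_closure (cs := cs) (hN := R.nsys) w
  have hg' : g ∈ P := by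
    refine (Subgroup.closure_le P).2 ?_ hg
    rintro _ ⟨i, rfl⟩
    exact hn i
  have hk' : k = g * (g⁻¹ * k) := by group
  have hkP : k ∈ P := by
    rw [hk']
    exact mul_mem hg' (hB (RGD.T_le_B (hgw.unique hk)))
  exact mul_mem (mul_mem (hB hb₁) hkP) (hB hb₂)

theorem U_ne_top [Finite W] [Nonempty I] : RGD.Sup X (RGD.Pos cs h) ≠ ⊤ := by
  intro hU
  obtain ⟨i⟩ := ‹Nonempty I›
  refine R.not_neg_le_B i ?_
  exact le_trans (hU ▸ le_top) RGD.U_le_B

/-- every nontrivial `r`-element has a conjugate in `U` outside `V_J` or outside `V_J'` -/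
theorem exists_conj_notMem_VJ [Finite Y] [Finite W] [Nonempty I] [Fact r.Prime] (hG : GG cs h T X = ⊤)
    (hS : IsSimpleGroup Y)
    {J J1 : Set I} (hJ : ∀ i, i ∈ J ∨ i ∈ J1)
    {g : Y} (hg1 : g ≠ 1) {k : ℕ} (hg : g ^ r ^ k = 1) :
    ∃ x : Y, x * g * x⁻¹ ∈ RGD.Sup X (RGD.Pos cs h) ∧
      (x * g * x⁻¹ ∉ VJ cs h X J ∨ x * g * x⁻¹ ∉ VJ cs h X J1) := by
  classical
  by_contra hcon
  push Not at hcon
  let A : Subgroup Y := Subgroup.closure {y | y ∈ RGD.Sup X (RGD.Pos cs h) ∧ ∃ x, y = x * g * x⁻¹}
  -- normalised by the two parabolic subgroups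
  have hkey : ∀ {K : Set I}, (∀ x : Y, x * g * x⁻¹ ∈ RGD.Sup X (RGD.Pos cs h) → x * g * x⁻¹ ∈ VJ cs h X K) →
      ∀ p ∈ PJ cs h T X K, ∀ a ∈ A, p * a * p⁻¹ ∈ A := by
    intro K hK p hp a ha
    have h1 : A ≤ A.comap (MulAut.conj p).toMonoidHom := by
      refine (Subgroup.closure_le _).2 ?_
      rintro y ⟨hy, x, rfl⟩
      refine Subgroup.subset_closure ⟨?_, p * x, ?_⟩
      · exact VJ_le_U K ((Subgroup.mem_normalizer_iff.1 (PJ_le_normalizer_VJ R K hp) _).1 (hK x hy))
      · change p * (x * g * x⁻¹) * p⁻¹ = _
        group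
    exact h1 ha
  have hPN : ∀ {K : Set I}, (∀ x : Y, x * g * x⁻¹ ∈ RGD.Sup X (RGD.Pos cs h) → x * g * x⁻¹ ∈ VJ cs h X K) →
      PJ cs h T X K ≤ Subgroup.normalizer (A : Set Y) := by
    intro K hK p hp
    rw [Subgroup.mem_normalizer_iff]
    intro a
    refine ⟨hkey hK p hp a, fun ha => ?_⟩
    have h2 := hkey hK p⁻¹ (inv_mem hp) _ ha
    have h3 : p⁻¹ * (p * a * p⁻¹) * p⁻¹⁻¹ = a := by group
    rwa [h3] at h2
  have htop := eq_top_of_PJ_le R hG hJ (hPN fun x hx => (hcon x hx).1) (hPN fun x hx => (hcon x hx).2)
  have hAn : A.Normal := Subgroup.normalizer_eq_top_iff.1 htop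
  have hAU : A ≤ RGD.Sup X (RGD.Pos cs h) := (Subgroup.closure_le _).2 fun y hy => hy.1
  obtain ⟨S, hSU⟩ := H537.EP.exists_sylow_U R hG
  have hp : IsPGroup r ↥(Subgroup.zpowers g) := by
    intro ⟨y, hy⟩
    obtain ⟨m, rfl⟩ := Subgroup.mem_zpowers_iff.1 hy
    refine ⟨k, Subtype.ext ?_⟩
    change (g ^ m) ^ r ^ k = 1
    rw [← zpow_natCast, ← zpow_mul, mul_comm, zpow_mul, zpow_natCast, hg, one_zpow]
  obtain ⟨Q, hQ⟩ := hp.exists_le_sylow
  obtain ⟨x, hx⟩ := MulAction.exists_smul_eq Y Q S
  have hxU : x * g * x⁻¹ ∈ RGD.Sup X (RGD.Pos cs h) := by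
    rw [← hSU, ← hx, Sylow.smul_def, Sylow.pointwise_smul_def, Subgroup.mem_pointwise_smul_iff_inv_smul_mem,
      ← map_inv, MulAut.smul_def, MulAut.conj_apply, inv_inv]
    have h3 : x⁻¹ * (x * g * x⁻¹) * x = g := by group
    rw [h3]
    exact hQ (Subgroup.mem_zpowers g)
  have hxA : x * g * x⁻¹ ∈ A := Subgroup.subset_closure ⟨hxU, x, rfl⟩
  rcases hAn.eq_bot_or_eq_top with h0 | h0
  · rw [h0, Subgroup.mem_bot] at hxA
    refine hg1 ?_
    have h4 : g = x⁻¹ * (x * g * x⁻¹) * x := by group
    rw [h4, hxA]
    group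
  · exact U_ne_top R (eq_top_iff.2 (h0 ▸ hAU))

end

end Cfsg.Agent.H537.Pw
end

-- part: H537/Pw/WCFour
section
/-!
# `D.group K` (`F₄(q)`, ...): every nontrivial element of `p`-power order has a conjugate in `U` outside `V_J` or
outside `V_J'` (helper537)
-/

set_option autoImplicit false
set_option linter.unusedSectionVars false

namespace Cfsg.Agent.H537.Pw

open CoxeterSystem Cfsg.Agent.ChevalleyStructure.CoxeterGeom Cfsg.Agent.Tits.Roots Cfsg.Agent.Tits.Core
  Cfsg.Agent.Nodes.Reps Cfsg.Agent.Nodes.BNOf Cfsg.Agent.Nodes.RGDLib Cfsg.Agent.Nodes.Bruhat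
  Cfsg.Agent.Nodes.OppDec Cfsg.Agent.Nodes.LeviDec
open Cfsg.Lie Cfsg.Agent.ChevalleyStructure Cfsg.Agent.ChevalleyStructure.CoxeterGeomTypes
  Cfsg.Agent.Nodes.RGDChev Cfsg.Agent.KFacts.RgdChevCoord

universe u

variable {K : Type u} [Field K] {D : ChevalleyDatum} {l : ℕ} {M : CoxeterMatrix (Fin l)} (hp : IsType D l M)

theorem exists_conj_notMem_chev [Finite K] {r : ℕ} [Fact r.Prime] [CharP K r] (hl : 0 < l)
    (hs : IsSimpleGroup ↥(D.group K)) {J J1 : Set (Fin l)} (hJ : ∀ i, i ∈ J ∨ i ∈ J1)
    {g : ↥(D.group K)} (hg1 : g ≠ 1) {k : ℕ} (hg : g ^ r ^ k = 1) :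
    ∃ x : ↥(D.group K), x * g * x⁻¹ ∈ RGD.Sup (XX D l K) (RGD.Pos M.toCoxeterSystem hp.isCartan) ∧
      (x * g * x⁻¹ ∉ VJ M.toCoxeterSystem hp.isCartan (XX D l K) J ∨
        x * g * x⁻¹ ∉ VJ M.toCoxeterSystem hp.isCartan (XX D l K) J1) := by
  have R := Cfsg.Agent.Nodes.RGDChev.rgd (K := K) hp M.toCoxeterSystem r
  have := finite_W hp M.toCoxeterSystem
  have : Nonempty (Fin l) := ⟨⟨0, hl⟩⟩
  have hG1 := G1_eq_top hp (K := K) M.toCoxeterSystem
  have hG : GG M.toCoxeterSystem hp.isCartan ((D.diagonalSubgroup K).subgroupOf (D.group K)) (XX D l K) = ⊤ := by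
    rw [eq_top_iff, ← hG1]
    exact le_sup_right
  exact exists_conj_notMem_VJ R hG hs hJ hg1 hg

theorem isType_F4 : IsType chevF4 4 CoxeterMatrix.F₄ := by simp

/-- **`F₄(q)`** -/
theorem exists_conj_notMem_F4 [Finite K] {r : ℕ} [Fact r.Prime] [CharP K r]
    (hs : IsSimpleGroup ↥(chevF4.group K)) {J J1 : Set (Fin 4)} (hJ : ∀ i, i ∈ J ∨ i ∈ J1)
    {g : ↥(chevF4.group K)} (hg1 : g ≠ 1) {k : ℕ} (hg : g ^ r ^ k = 1) :
    ∃ x : ↥(chevF4.group K), x * g * x⁻¹ ∈ RGD.Sup (XX chevF4 4 K)
        (RGD.Pos CoxeterMatrix.F₄.toCoxeterSystem isType_F4.isCartan) ∧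
      (x * g * x⁻¹ ∉ VJ CoxeterMatrix.F₄.toCoxeterSystem isType_F4.isCartan (XX chevF4 4 K) J ∨
        x * g * x⁻¹ ∉ VJ CoxeterMatrix.F₄.toCoxeterSystem isType_F4.isCartan (XX chevF4 4 K) J1) :=
  exists_conj_notMem_chev isType_F4 (by norm_num) hs hJ hg1 hg

end Cfsg.Agent.H537.Pw
end

private theorem dce_6cf1a51220fe : _root_.True := by
  try have : _root_.True := by simp only [_root_.Cfsg.Agent.Nodes.BNOf.RGD.Pos.congr_simp]
  try have : _root_.True := by simp only [_root_.Cfsg.Agent.Nodes.LeviDec.VJ.congr_simp]
  exact _root_.True.intro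
end

-- part: H126/PwO/Plus
section
set_option linter.all false
open scoped Cfsg.Agent.FastGrp

/-!
# S2465, orthogonal groups: polynomials of norm one (helper126)

* `exists_one` : `f` irreducible of odd degree `d ≥ 3`, norm one, order a prime `≥ 5`, prime to its reciprocal;
* `exists_two` : `f` irreducible of even degree `d`, norm one, order prime to `6`, prime to its reciprocal.
-/

set_option autoImplicit false
set_option linter.unusedSectionVars false

namespace Cfsg.Agent.H126.PwO

open QuadraticMap Matrix Polynomial Cfsg.Agent.LieClassical.OrthCore Cfsg.Agent.LieClassical.OrthTrans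
  Cfsg.Agent.LieClassical.OrthFinite Cfsg.Agent.H140.OreO

variable {F V : Type*} [Field F] [AddCommGroup V] [Module F V] {m : ℕ} {Q : QuadraticForm F V}

/-- a polynomial of norm one, prime to its reciprocal, of order dividing `s` -/
structure One (d s : ℕ) (f : F[X]) : Prop where
  monic : f.Monic
  irr : Irreducible f
  deg : f.natDegree = d
  norm : (-1) ^ d * f.coeff 0 = 1
  cop : IsCoprime f f.reverse
  dvd : f ∣ X ^ s - 1
  five : ¬ f ∣ X ^ 5 - 1

theorem One.eval {d s : ℕ} {f : F[X]} (h : One d s f) (hd : 2 ≤ d) (x : F) : f.eval x ≠ 0 :=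
  eval_ne_zero h.irr (by rw [h.deg]; exact hd) x

theorem One.dvd' {d s : ℕ} {f : F[X]} (h : One d s f) (hd : 2 ≤ d) : (X - C 1) * f ∣ X ^ s - 1 := by
  have h4 : IsCoprime (X - C 1 : F[X]) f := by
    rw [(irreducible_X_sub_C (1 : F)).coprime_iff_not_dvd, dvd_iff_isRoot]
    exact h.eval hd 1
  refine h4.mul_dvd ?_ h.dvd
  rw [dvd_iff_isRoot, IsRoot.def, eval_sub, eval_pow, eval_X, eval_one, one_pow, sub_self]

theorem exists_one (F : Type*) [Field F] [Finite F] {d : ℕ} (hd : 3 ≤ d) (hodd : Odd d) :
    ∃ (f : F[X]) (s : ℕ), One d s f ∧ s.Coprime 6 := by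
  have hq : 2 ≤ Nat.card F := Finite.one_lt_card
  obtain ⟨s, hs, hs5, -, hsd, hmin⟩ := exists_prime_odd hq hd (by
    rintro ⟨-, rfl⟩
    exact (Nat.not_odd_iff_even.2 (by decide)) hodd)
  obtain ⟨f, hf⟩ := exists_pol F (by omega) hsd hmin
  refine ⟨f, s, ⟨hf.monic, hf.irr, hf.deg, ?_, hf.cop (not_dvd_add (by omega) hodd hsd hmin ?_), ?_, ?_⟩,
    coprime_six hs hs5⟩
  · have := (hf.coef 1).2 (by rw [mul_one]; exact dvd_div hq hs (by omega) hsd hmin)
    rwa [pow_one] at this
  · intro h
    have := Nat.le_of_dvd (by norm_num) h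
    omega
  · exact (hf.dvd s).2 dvd_rfl
  · rw [hf.dvd]
    intro h
    have h5 : s = 5 := (Nat.prime_dvd_prime_iff_eq hs (by norm_num)).1 h
    subst h5
    -- the order of `q` modulo `5` is not odd `≥ 3`
    have h4 : 5 ∣ Nat.card F ^ 4 - 1 := by
      have hq5 : ¬ 5 ∣ Nat.card F := by
        intro h6
        have h7 : 5 ∣ Nat.card F ^ d := dvd_pow h6 (by omega)
        have h8 : 1 ≤ Nat.card F ^ d := Nat.one_le_pow _ _ (by omega)
        omega
      have h6 : Nat.card F ^ 4 % 5 = 1 := by
        have h7 : Nat.card F % 5 = 1 ∨ Nat.card F % 5 = 2 ∨ Nat.card F % 5 = 3 ∨ Nat.card F % 5 = 4 := by omega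
        rcases h7 with h7 | h7 | h7 | h7 <;> rw [Nat.pow_mod, h7]
      omega
    obtain ⟨k, hk⟩ := hodd
    have h9 : d = 3 ∨ 5 ≤ d := by omega
    rcases h9 with rfl | h9
    · -- `5 ∣ q ^ 3 - 1` and `5 ∣ q ^ 4 - 1`
      have h10 : Nat.card F ^ 4 - 1 = Nat.card F * (Nat.card F ^ 3 - 1) + (Nat.card F ^ 1 - 1) := by
        have h11 : 1 ≤ Nat.card F ^ 3 := Nat.one_le_pow _ _ (by omega)
        have h12 : Nat.card F ^ 4 = Nat.card F * Nat.card F ^ 3 := by ring
        rw [h12, Nat.mul_sub, mul_one, pow_one]
        have h13 : Nat.card F ≤ Nat.card F * Nat.card F ^ 3 := Nat.le_mul_of_pos_right _ h11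
        omega
      rw [h10] at h4
      exact hmin 1 one_pos (by norm_num) ((Nat.dvd_add_right (hsd.mul_left _)).1 h4)
    · exact hmin 4 (by norm_num) (by omega) h4

/-- even degree -/
theorem exists_two (F : Type*) [Field F] [Finite F] {e : ℕ} (he : 2 ≤ e)
    (h26 : ¬ (Nat.card F = 2 ∧ e = 3)) {l : ℕ} (hl : l.Prime) (hl5 : 5 ≤ l) (hle : l ∣ Nat.card F ^ e - 1)
    (hl1 : ¬ l ∣ Nat.card F - 1) : ∃ (f : F[X]) (s : ℕ), One (2 * e) s f ∧ s.Coprime 6 := by
  have hq : 2 ≤ Nat.card F := Finite.one_lt_card
  obtain ⟨s, hs, hs5, -, hsd, hmin⟩ := exists_prime_odd hq (show 3 ≤ 2 * e by omega) (by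
    rintro ⟨h1, h2⟩
    exact h26 ⟨h1, by omega⟩)
  have hls : l ≠ s := by
    rintro rfl
    exact hmin e (by omega) (by omega) hle
  have hcop : Nat.Coprime s l := (Nat.coprime_primes hs hl).2 hls.symm
  have hpow : ∀ k, 1 ≤ Nat.card F ^ k := fun k => Nat.one_le_pow _ _ (by omega)
  have h2e : Nat.card F ^ (2 * e) - 1 = (Nat.card F ^ e + 1) * (Nat.card F ^ e - 1) := by
    have h5 := Nat.sq_sub_sq (Nat.card F ^ e) 1
    rw [one_pow] at h5
    rw [mul_comm 2 e, pow_mul, h5]
  have hld : l ∣ Nat.card F ^ (2 * e) - 1 := by rw [h2e]; exact hle.mul_left _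
  have hD : s * l ∣ Nat.card F ^ (2 * e) - 1 := hcop.mul_dvd_of_dvd_of_dvd hsd hld
  obtain ⟨f, hf⟩ := exists_pol F (by omega) hD (fun k h1 h2 h3 => hmin k h1 h2 ((dvd_mul_right _ _).trans h3))
  refine ⟨f, s * l, ⟨hf.monic, hf.irr, hf.deg, ?_, hf.cop ?_, (hf.dvd _).2 dvd_rfl, ?_⟩,
    Nat.Coprime.mul_left (coprime_six hs hs5) (coprime_six hl hl5)⟩
  · have := (hf.coef 1).2 (by
      rw [mul_one]
      obtain ⟨M, hM, hM'⟩ := div_eq (d := 2 * e) hq
      obtain ⟨M₁, hM₁, -⟩ := div_eq (d := e) hq
      refine hcop.mul_dvd_of_dvd_of_dvd (dvd_div hq hs (by omega) hsd hmin) ?_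
      rw [hM']
      rw [hM] at hld
      rcases hl.dvd_mul.1 hld with h | h
      · exact h
      · exact absurd h hl1)
    rwa [pow_one] at this
  · intro i hi h
    have hsi : s ∣ Nat.card F ^ i + 1 := (dvd_mul_right _ _).trans h
    have hli : l ∣ Nat.card F ^ i + 1 := (dvd_mul_left _ _).trans h
    rcases Nat.eq_zero_or_pos i with rfl | hi0
    · have := Nat.le_of_dvd (by norm_num) hsi
      norm_num at this
      omega
    have h3 : s ∣ Nat.card F ^ (2 * i) - 1 := by
      have h5 := Nat.sq_sub_sq (Nat.card F ^ i) 1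
      rw [one_pow] at h5
      rw [mul_comm 2 i, pow_mul, h5]
      exact hsi.mul_right _
    have hie : i = e := by
      rcases lt_trichotomy i e with h5 | h5 | h5
      · exact absurd h3 (hmin _ (by omega) (by omega))
      · exact h5
      · exfalso
        have h6 : Nat.card F ^ (2 * i) - 1 = Nat.card F ^ (2 * i - 2 * e) * (Nat.card F ^ (2 * e) - 1) +
            (Nat.card F ^ (2 * i - 2 * e) - 1) := by
          have h7 : Nat.card F ^ (2 * i) = Nat.card F ^ (2 * i - 2 * e) * Nat.card F ^ (2 * e) := by
            rw [← pow_add]; congr 1; omega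
          have h8 := hpow (2 * i - 2 * e)
          have h9 := hpow (2 * e)
          rw [h7, Nat.mul_sub, mul_one]
          have h10 : Nat.card F ^ (2 * i - 2 * e) ≤ Nat.card F ^ (2 * i - 2 * e) * Nat.card F ^ (2 * e) :=
            Nat.le_mul_of_pos_right _ h9
          omega
        rw [h6] at h3
        exact hmin _ (by omega) (by omega) ((Nat.dvd_add_right (hsd.mul_left _)).1 h3)
    rw [hie] at hli
    have h11 : l ∣ 2 := by
      have h12 : Nat.card F ^ e + 1 = (Nat.card F ^ e - 1) + 2 := by have := hpow e; omega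
      rw [h12] at hli
      exact (Nat.dvd_add_right hle).1 hli
    have := Nat.le_of_dvd (by norm_num) h11
    omega
  · rw [hf.dvd]
    intro h
    have h5 := Nat.le_of_dvd (by norm_num) h
    nlinarith

/-- even degree `2 e`, `e ≥ 3` -/
theorem exists_two' (F : Type*) [Field F] [Finite F] {e : ℕ} (he : 3 ≤ e)
    (h26 : ¬ (Nat.card F = 2 ∧ e = 3)) : ∃ (f : F[X]) (s : ℕ), One (2 * e) s f ∧ s.Coprime 6 := by
  have hq : 2 ≤ Nat.card F := Finite.one_lt_card
  by_cases h : Nat.card F = 2 ∧ e = 6
  · exact exists_two F (by omega) h26 (l := 7) (by norm_num) (by norm_num) (by rw [h.1, h.2]; norm_num)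
      (by rw [h.1]; norm_num)
  · obtain ⟨l, hl, hl5, -, hld, hlm⟩ := exists_prime_odd hq he h
    exact exists_two F (by omega) h26 hl hl5 hld (by have := hlm 1 one_pos (by omega); rwa [pow_one] at this)

/-- degree `4` -/
theorem exists_four (F : Type*) [Field F] [Finite F] (hF : Nat.card F = 4 ∨ Nat.card F = 9) :
    ∃ (f : F[X]) (s : ℕ), One 4 s f ∧ s.Coprime 6 := by
  refine exists_two F (e := 2) le_rfl (by omega) (l := 5) (by norm_num) le_rfl ?_ ?_ <;>
    rcases hF with h | h <;> rw [h] <;> norm_num

end Cfsg.Agent.H126.PwO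
end
end
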